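import Cfsg.Agent.Lib.Blocks.CyclicDefect.Shape
import Cfsg.Agent.Lib.Char.HeightZero

/-!
# The degrees of a block with cyclic defect group

The signed degrees on `X` agree modulo the `p`-part of `|G|`; all heights are zero.
-/

set_option autoImplicit false
set_option linter.unusedSectionVars false
set_option linter.style.haveILetI false

namespace Cfsg.Agent.Blocks.CyclicDefect

open Cfsg Blocks MonoidAlgebra
open Cfsg.Agent.BrauerPairs (blk blkG IsBlockIdem regDot)
open Cfsg.Agent.Blocks.NilRank (sectF eU blkSet)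
open scoped Classical ComplexConjugate

universe u

variable {G : Type u} [Group G] [Fintype G] {M : Ideal AlgInt} [M.IsMaximal] {p : ℕ}
  [hp : Fact p.Prime] [CharP (AlgInt ⧸ M) p]
  {B : Set (IrrCharacter G)} {P : Subgroup G}
  {c : Set (IrrCharacter (Subgroup.centralizer (P : Set G)))}

namespace Shape

variable {d : Datum M p B P c} {θ : IrrCharacter G → P → ℂ} (S : Shape d θ)
include S

theorem filter_eq : Finset.univ.filter (fun χ => χ ∈ B) = S.X ∪ S.Y := by
  ext χ; simp [S.mem_iff]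

theorem sum_block (F : IrrCharacter G → ℂ) :
    ∑ χ ∈ Finset.univ.filter (fun χ => χ ∈ B), F χ = ∑ χ ∈ S.X, F χ + ∑ χ ∈ S.Y, F χ := by
  rw [S.filter_eq, Finset.sum_union S.disj]

theorem mem_X {χ : IrrCharacter G} (h : χ ∈ S.X) : χ ∈ B := (S.mem_iff χ).2 (Or.inl h)

theorem mem_Y {χ : IrrCharacter G} (h : χ ∈ S.Y) : χ ∈ B := (S.mem_iff χ).2 (Or.inr h)

theorem notMem_Y {χ : IrrCharacter G} (h : χ ∈ S.X) : χ ∉ S.Y := fun h' =>
  Finset.disjoint_left.1 S.disj h h'

theorem notMem_X {χ : IrrCharacter G} (h : χ ∈ S.Y) : χ ∉ S.X := fun h' =>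
  Finset.disjoint_left.1 S.disj h' h

theorem nonempty_X : S.X.Nonempty := Finset.card_pos.1 (S.card_X ▸ d.inIndex_pos)

theorem nonempty_Y : S.Y.Nonempty := Finset.card_pos.1 (Nat.pos_of_ne_zero fun h => by
  have h1 := S.card_Y
  have := d.one_lt_card
  rw [h] at h1
  omega)

theorem not_dvd_card_Y : ¬ p ∣ S.Y.card := fun h => by
  obtain ⟨n, hn⟩ := d.isPGroup.exists_card_eq
  have hn0 : n ≠ 0 := fun h0 => d.ne (Subgroup.card_eq_one.1 (by rw [hn, h0, pow_zero]))
  have h1 : p ∣ Nat.card P := hn ▸ dvd_pow_self p hn0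
  rw [← S.card_Y] at h1
  exact hp.out.not_dvd_one ((Nat.dvd_add_right (h.mul_right _)).1 h1)

/-- The sum over the orbits of the representatives. -/
theorem sum_orb_eq (hu : ∀ ψ ∈ S.Y, S.chr ψ ≠ Char.trivialChar P) {u : P} (hu1 : u ≠ 1) :
    ∑ ψ ∈ S.Y, ∑ w ∈ d.orb u, (S.chr ψ).1 w = -1 := by
  rw [Finset.sum_congr rfl fun ψ hψ => (d.sum_cls_apply (hu ψ hψ) hu1).symm,
    ← Finset.sum_biUnion fun ψ hψ ψ' hψ' hne => Finset.disjoint_left.2 fun l hl hl' =>
      hne (S.chr_inj ψ hψ ψ' hψ' (d.mem_cls_trans hl (d.mem_cls_symm hl'))).symm]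
  have hU : S.Y.biUnion (fun ψ => d.cls (S.chr ψ)) = Finset.univ.erase (Char.trivialChar P) := by
    ext l
    simp only [Finset.mem_biUnion, Finset.mem_erase, Finset.mem_univ, and_true]
    refine ⟨fun ⟨ψ, hψ, hl⟩ => ?_, S.chr_surj l⟩
    obtain ⟨t, rfl⟩ := d.mem_cls.1 hl
    exact d.twist_ne (hu ψ hψ)
  rw [hU, Finset.sum_erase_eq_sub (Finset.mem_univ _), d.sum_apply_eq_zero hu1,
    Char.trivialChar_apply, zero_sub]

variable (hθ : ∀ χ ψ : IrrCharacter G, ∀ u : P, u ≠ 1 →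
    (Nat.card P : ℂ) * sectF p (Subgroup.centralizer ({(u : G)} : Set G)) u
        (blkSet M _ (eU p P (blk M (Subgroup.centralizer (P : Set G)) c) u)) χ.1 ψ.1 =
      θ χ u * conj (θ ψ u))
include hθ

/-- An integral combination orthogonal to `θ` has degree divisible by the `p`-part of `|G|`. -/
theorem pow_dvd_degree (a : IrrCharacter G → ℤ)
    (ha : ∀ u : P, u ≠ 1 → ∑ χ ∈ Finset.univ.filter (· ∈ B), (a χ : ℂ) * θ χ u = 0) :
    (p : ℤ) ^ (Nat.card G).factorization p ∣
      ∑ χ ∈ Finset.univ.filter (· ∈ B), a χ * (Char.degree χ : ℤ) := by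
  set F : G → ℂ := ∑ χ ∈ Finset.univ.filter (· ∈ B), (a χ : ℂ) • χ.1 with hF
  have hgen : IsGeneralizedCharacter G F := Char.IsGeneralizedCharacter.sum _ fun χ _ =>
    Char.IsGeneralizedCharacter.intCast_smul (Char.irr_isGeneralized χ) (a χ)
  obtain ⟨z, hz⟩ := Char.exists_int_apply_one_eq_pPow_mul hp.out hgen fun x hx => by
    rw [hF, Finset.sum_apply]
    exact d.apply_singular_eq_zero hθ (fun χ => (a χ : ℂ)) ha hx
  refine ⟨z, Int.cast_inj (α := ℂ) |>.1 ?_⟩
  push_cast at hz ⊢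
  rw [← hz, hF, Finset.sum_apply]
  exact Finset.sum_congr rfl fun χ _ => by rw [Pi.smul_apply, smul_eq_mul, Char.apply_one_eq_degree]

theorem degree_congr_X {χ χ' : IrrCharacter G} (hχ : χ ∈ S.X) (hχ' : χ' ∈ S.X) :
    (p : ℤ) ^ (Nat.card G).factorization p ∣
      S.sgn χ * (Char.degree χ : ℤ) - S.sgn χ' * (Char.degree χ' : ℤ) := by
  have h := S.pow_dvd_degree hθ
    (fun x => (if x = χ then S.sgn x else 0) - (if x = χ' then S.sgn x else 0)) fun u hu => by
      push_cast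
      simp only [sub_mul, Finset.sum_sub_distrib, ite_mul, zero_mul, Finset.sum_ite_eq',
        Finset.mem_filter, Finset.mem_univ, true_and, S.mem_X hχ, S.mem_X hχ', if_true,
        S.theta_X χ hχ u hu, S.theta_X χ' hχ' u hu]
      rcases S.sgn_unit χ hχ with h | h <;> rcases S.sgn_unit χ' hχ' with h' | h' <;>
        simp [h, h']
  simp only [sub_mul, Finset.sum_sub_distrib, ite_mul, zero_mul, Finset.sum_ite_eq',
    Finset.mem_filter, Finset.mem_univ, true_and, S.mem_X hχ, S.mem_X hχ', if_true] at h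
  exact h

theorem degree_congr_Y {χ ψ : IrrCharacter G} (hχ : χ ∈ S.X) (hψ : ψ ∈ S.Y) :
    (p : ℤ) ^ (Nat.card G).factorization p ∣
      S.sgn₀ * S.Y.card * (Char.degree ψ : ℤ) - S.sgn χ * (Char.degree χ : ℤ) := by
  have h := S.pow_dvd_degree hθ
    (fun x => (if x ∈ S.Y then S.sgn₀ else 0) - (if x = χ then S.sgn x else 0)) fun u hu => by
      push_cast
      simp only [sub_mul, Finset.sum_sub_distrib, ite_mul, zero_mul, Finset.sum_ite_eq',
        Finset.mem_filter, Finset.mem_univ, true_and, S.mem_X hχ, if_true, S.theta_X χ hχ u hu]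
      rw [S.sum_block, Finset.sum_eq_zero fun x hx => if_neg (S.notMem_Y hx), zero_add,
        Finset.sum_congr rfl fun x hx => by rw [if_pos hx, S.theta_Y x hx u hu], ← Finset.mul_sum,
        ← Finset.mul_sum, S.sum_orb_eq S.chr_ne hu]
      rcases S.sgn_unit χ hχ with h | h <;> rcases S.sgn₀_unit with h' | h' <;> simp [h, h']
  have hdeg : ∀ x ∈ S.Y, (Char.degree x : ℤ) = Char.degree ψ := fun x hx => by
    have := S.agree x hx ψ hψ 1 (by simp [hp.out.ne_one])
    rw [Char.apply_one_eq_degree, Char.apply_one_eq_degree] at this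
    exact_mod_cast this
  simp only [sub_mul, Finset.sum_sub_distrib, ite_mul, zero_mul, Finset.sum_ite_eq',
    Finset.mem_filter, Finset.mem_univ, true_and, S.mem_X hχ, if_true] at h
  rw [S.filter_eq, Finset.sum_union S.disj, Finset.sum_eq_zero (s := S.X) fun x hx => if_neg (S.notMem_Y hx),
    zero_add, Finset.sum_congr rfl fun x hx => by rw [if_pos hx, hdeg x hx], Finset.sum_const,
    nsmul_eq_mul] at h
  convert h using 1
  ring

/-- All degrees in the block have the same `p`-part. -/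
theorem height_zero {χ : IrrCharacter G} (hχ : χ ∈ B) : blockHeight p B χ.1 = 0 := by
  have hpM := d.modular.2.2
  obtain ⟨ξ, hξ, hξ0⟩ := Blocks.exists_height_zero hpM d.block
  have hb := Char.factorization_degree_of_height_zero hξ hξ0
  have hd : 0 < blockDefect p B := by
    by_contra h0
    have h1 := Blocks.card_defectGroup hpM d.block d.isDefectGroup
    rw [Nat.eq_zero_of_not_pos h0, pow_zero] at h1
    exact absurd d.one_lt_card (by omega)
  rw [blockDefect, ← hb] at hd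
  set m := (Char.degree ξ).factorization p + 1 with hm
  have hm' : (p : ℤ) ^ m ∣ (p : ℤ) ^ (Nat.card G).factorization p := pow_dvd_pow _ (by omega)
  have hpr : Prime (p : ℤ) := Nat.prime_iff_prime_int.1 hp.out
  have hunit : ∀ {s : ℤ}, (s = 1 ∨ s = -1) → ∀ x : ℤ, ((p : ℤ) ^ m ∣ s * x ↔ (p : ℤ) ^ m ∣ x) :=
    fun {s} hs x => by rcases hs with rfl | rfl <;> simp
  have hcop : IsCoprime ((p : ℤ) ^ m) (S.Y.card : ℤ) := by
    refine IsCoprime.pow_left ?_
    exact Int.isCoprime_iff_nat_coprime.2 (by simpa using (hp.out.coprime_iff_not_dvd).2 S.not_dvd_card_Y)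
  obtain ⟨χ₀, hχ₀⟩ := S.nonempty_X
  have hXY : ∀ η ∈ B, ((p : ℤ) ^ m ∣ (Char.degree η : ℤ) ↔ (p : ℤ) ^ m ∣ (Char.degree χ₀ : ℤ)) := by
    intro η hη
    rcases (S.mem_iff η).1 hη with h | h
    · rw [← hunit (S.sgn_unit η h) (Char.degree η), ← hunit (S.sgn_unit χ₀ hχ₀) (Char.degree χ₀)]
      exact dvd_iff_dvd_of_dvd_sub (hm'.trans (S.degree_congr_X hθ h hχ₀))
    · rw [← hunit (S.sgn_unit χ₀ hχ₀) (Char.degree χ₀),
        ← dvd_iff_dvd_of_dvd_sub (hm'.trans (S.degree_congr_Y hθ hχ₀ h)), mul_assoc,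
        hunit S.sgn₀_unit]
      exact ⟨fun h => dvd_mul_of_dvd_right h _, fun h => hcop.dvd_of_dvd_mul_left h⟩
  have hnd : ¬ (p : ℤ) ^ m ∣ (Char.degree χ : ℤ) := by
    rw [hXY χ hχ, ← hXY ξ hξ, ← Nat.cast_pow, Int.natCast_dvd_natCast,
      hp.out.pow_dvd_iff_le_factorization (Char.degree_pos ξ).ne']
    omega
  rw [← Nat.cast_pow, Int.natCast_dvd_natCast,
    hp.out.pow_dvd_iff_le_factorization (Char.degree_pos χ).ne'] at hnd
  rw [blockHeight, Blocks.charDegree_eq, ← hb]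
  omega

end Shape

end Cfsg.Agent.Blocks.CyclicDefect
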