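import Cfsg.Agent.Lib.Blocks.CyclicDefect.Degrees
import Cfsg.Agent.Lib.BrauerPairs.LocalFusion
import Cfsg.Agent.Lib.Blocks.FirstMain

/-!
# A datum from an induced block of the centralizer, and the shape
-/

set_option autoImplicit false
set_option linter.unusedSectionVars false
set_option linter.style.haveILetI false

namespace Cfsg.Agent.Blocks.CyclicDefect

open Cfsg Blocks MonoidAlgebra Cfsg.Agent.BrauerPairs
open Cfsg.Agent.Blocks.NilRank (sectF eU blkSet)
open scoped Classical ComplexConjugate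

universe u

variable {G : Type u} [Group G] [Fintype G] {M : Ideal AlgInt} [M.IsMaximal] {p : ℕ}
  [hp : Fact p.Prime] [CharP (AlgInt ⧸ M) p]

theorem ne_bot_of_card {D : Subgroup G} {a : ℕ} (ha : 1 ≤ a) (hD : Nat.card D = p ^ a) : D ≠ ⊥ := by
  intro h
  rw [Subgroup.card_eq_one.2 h] at hD
  exact absurd hD.symm (Nat.one_lt_pow (by omega) hp.out.one_lt).ne'

/-- A block of `C(P)` inducing `B` gives a datum. -/
theorem datum_of_induced {B : Set (IrrCharacter G)} {P : Subgroup G}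
    {c : Set (IrrCharacter (Subgroup.centralizer (P : Set G)))} (hM : IsPModular p M)
    (hB : IsPBlock M B) (hPD : IsDefectGroup p M B P) (hP1 : P ≠ ⊥) (hcyc : IsCyclic P)
    (hc : IsInducedBlock M (Subgroup.centralizer (P : Set G)) c B) : Datum M p B P c := by
  have hblk : ∀ H : Subgroup G, HasBlocks (AlgInt ⧸ M) H := fun H => hasBlocks M H
  have hBi := isBlockIdem_blkG hB
  obtain ⟨e₀, -, hmax₀⟩ := exists_isMax_of_isDefectGroup hB hPD
  have hP : IsPGroup p P := hmax₀.1.1.1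
  have hPC : P ≤ Subgroup.centralizer (P : Set G) := fun x hx =>
    Subgroup.mem_centralizer_iff.2 fun y hy =>
      congrArg Subtype.val (hcyc.commGroup.mul_comm ⟨y, hy⟩ ⟨x, hx⟩)
  obtain ⟨χ, hχ⟩ := nonempty_of_isPBlock hB
  have hpairOf : IsBrauerPairOf p M B P c := by
    refine ⟨⟨hP, hc.1⟩, hB, fun ξ hξ => ?_⟩
    have h1 := Blocks.IsInducedBlock.omega_sub hc hξ hχ (Blocks.isCentralElt_blockIdem B)
      (Blocks.scoeff_blockIdem hB)
    rw [Blocks.omega_blockIdem, if_pos hχ] at h1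
    have h2 := Blocks.memLocalIdeal_omega_resH_sub_brH hM.2.2 hP hPC
      (Subgroup.centralizer_le_normalizer _) (Blocks.isCentralElt_blockIdem B)
      (Blocks.scoeff_blockIdem hB) ξ
    have e1 : brauerOmega P (blockCoeff B) ξ.1 =
        Blocks.omega ξ.1 (Blocks.brH P (Subgroup.centralizer (P : Set G)) (Blocks.blockIdem B)) := by
      haveI := Fintype.ofFinite (Subgroup.centralizer (P : Set G))
      rw [Blocks.omega, Blocks.chiL_eq_sum, brauerOmega, finsum_eq_sum_of_fintype, Finset.sum_div]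
      exact Finset.sum_congr rfl fun x _ => by
        rw [Blocks.coeff_brH, if_pos x.2, Blocks.coeff_blockIdem]
    rw [e1]
    simpa using Blocks.MemLocalIdeal.sub h1 h2
  obtain ⟨hcB, hpair⟩ := (isBrauerPairOf_iff hB).1 hpairOf
  have ha : BrauerPairs.IsMax p (blkG M B) (P, blk M _ c) := by
    obtain ⟨g, hg⟩ := exists_conj_ple hblk hBi hmax₀ hpair
    have e1 := hg.eq_of_fst_eq (Subgroup.eq_of_le_of_card_ge hg.le (BrauerPairs.card_map_conj g P).ge)
    have h := hmax₀.conj hBi g⁻¹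
    rwa [← e1, conjPair_inv_conjPair] at h
  exact ⟨hM, hB, hcB, ha, hcyc, hP1⟩

theorem stabilizesBlock_iff_forall {C : Subgroup G} {b : Set (IrrCharacter C)} {g : G}
    (hg : g ∈ Subgroup.normalizer (C : Set G)) :
    StabilizesBlock C b g ↔ ∀ θ ∈ b, ∀ θ' : IrrCharacter C,
      (∀ h h' : C, (h' : G) = g * h * g⁻¹ → (θ' : C → ℂ) h' = (θ : C → ℂ) h) → θ' ∈ b := by
  constructor
  · rintro ⟨-, h⟩ χ hχ χ' hc
    obtain ⟨χ'', h1, h2⟩ := h χ hχ
    rw [isConjCharOf_iff (mem_iff_conj_mem hg)] at h2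
    rwa [(isConjCharOf_iff (mem_iff_conj_mem hg) χ χ').1 hc, ← h2]
  · exact fun h => ⟨hg, fun χ hχ => ⟨_, h χ hχ _ ((isConjCharOf_iff (mem_iff_conj_mem hg) χ _).2 rfl),
      (isConjCharOf_iff (mem_iff_conj_mem hg) χ _).2 rfl⟩⟩

/-- `θ` and the shape together. -/
theorem Datum.exists_shape {B : Set (IrrCharacter G)} {P : Subgroup G}
    {c : Set (IrrCharacter (Subgroup.centralizer (P : Set G)))} (d : Datum M p B P c) :
    ∃ θ : IrrCharacter G → P → ℂ,
      (∀ χ, ∀ t ∈ inGroup M P c, ∀ u v : P, (v : G) = t * u * t⁻¹ → θ χ v = θ χ u) ∧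
      (∀ χ ψ : IrrCharacter G, ∀ u : P, u ≠ 1 →
        (Nat.card P : ℂ) * sectF p (Subgroup.centralizer ({(u : G)} : Set G)) u
            (blkSet M _ (eU p P (blk M (Subgroup.centralizer (P : Set G)) c) u)) χ.1 ψ.1 =
          θ χ u * conj (θ ψ u)) ∧
      Nonempty (Shape d θ) := by
  obtain ⟨θ, hint, hinv, hθ⟩ := d.exists_theta
  exact ⟨θ, hinv, hθ, d.shape hint hinv hθ⟩

end Cfsg.Agent.Blocks.CyclicDefect
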