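import Cfsg.Agent.Lib.Blocks.CyclicDefect.Main
import Cfsg.Agent.Lib.BlocksX.InducedNested
import Cfsg.Agent.S4642

/-!
# Correspondents keep the inertial index

If `H` contains the normaliser of the cyclic defect group `P` and the block `c` of `H` with defect
group `P` induces `B`, then `B` and `c` have the same inertial index.
-/

set_option autoImplicit false
set_option linter.unusedSectionVars false
set_option linter.style.haveILetI false

namespace Cfsg.Agent.Blocks.CyclicDefect

open Cfsg Blocks Cfsg.Agent.BrauerPairs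
open scoped Classical Cfsg.Agent.Blocks

universe u

variable {G : Type u} [Group G] [Fintype G] {M : Ideal AlgInt} [M.IsMaximal] {p : ℕ}
  [hp : Fact p.Prime] [CharP (AlgInt ⧸ M) p]

theorem exists_datum_pair (hM : IsPModular p M) {B : Set (IrrCharacter G)} (hB : IsPBlock M B)
    {P : Subgroup G} (hPD : IsDefectGroup p M B P) (hP1 : P ≠ ⊥) (hcyc : IsCyclic P) {H : Subgroup G}
    (hNH : Subgroup.normalizer (P : Set G) ≤ H) {c : Set (IrrCharacter H)}
    (hcD : IsDefectGroup p M c (P.subgroupOf H)) (hc : IsInducedBlock M H c B) :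
    ∃ (b : Set (IrrCharacter (Subgroup.centralizer (P : Set G))))
      (b' : Set (IrrCharacter (Subgroup.centralizer ((P.subgroupOf H : Subgroup H) : Set H)))),
      Datum M p B P b ∧ Datum M p c (P.subgroupOf H) b' ∧
      inIndex M (P.subgroupOf H) b' = inIndex M P b := by
  have hpM := hM.2.2
  have hPH : P ≤ H := Subgroup.le_normalizer.trans hNH
  have hCH : Subgroup.centralizer (P : Set G) ≤ H :=
    (Subgroup.centralizer_le_normalizer _).trans hNH
  have hP : IsPGroup p P := IsPGroup.of_card (Blocks.card_defectGroup hpM hB hPD)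
  set P' := P.subgroupOf H with hP'
  have hP'p : IsPGroup p P' := hP.of_equiv (Subgroup.subgroupOfEquivOfLe hPH).symm
  have hcyc' : IsCyclic P' :=
    isCyclic_of_injective (Subgroup.subgroupOfEquivOfLe hPH).toMonoidHom
      (Subgroup.subgroupOfEquivOfLe hPH).injective
  have hP'1 : P' ≠ ⊥ := fun h => hP1 (by
    rw [← Subgroup.map_subgroupOf_eq_of_le hPH, ← hP', h, Subgroup.map_bot])
  set K' := Subgroup.centralizer (P' : Set H) with hK'
  obtain ⟨b', hb'⟩ : ∃ b', IsInducedBlock M K' b' c :=
    S4642.exists_inducing_centralizer hpM hP'p hc.1 hcD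
      ⟨1, by rw [map_one]; exact (Subgroup.map_id _).le⟩
  have hK : K'.map H.subtype = Subgroup.centralizer (P : Set G) := by
    refine le_antisymm ?_ fun g hg => ?_
    · rintro _ ⟨k, hk, rfl⟩
      refine Subgroup.mem_centralizer_iff.2 fun q hq => ?_
      exact congrArg Subtype.val (Subgroup.mem_centralizer_iff.1 hk ⟨q, hPH hq⟩
        (Subgroup.mem_subgroupOf.2 hq))
    · exact ⟨⟨g, hCH hg⟩,
        Subgroup.mem_centralizer_iff.2 fun q hq => Subtype.ext
          (Subgroup.mem_centralizer_iff.1 hg q (Subgroup.mem_subgroupOf.1 hq)), rfl⟩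
  set e := (K'.equivMapOfInjective H.subtype H.subtype_injective).symm with he
  set b := BrauerPairs.mapBlock e b' with hb
  have hbblock : IsPBlock M b := BrauerPairs.isPBlock_mapBlock e hb'.1
  have hPC : P ≤ Subgroup.centralizer (P : Set G) := fun x hx =>
    Subgroup.mem_centralizer_iff.2 fun y hy =>
      congrArg Subtype.val (hcyc.commGroup.mul_comm ⟨y, hy⟩ ⟨x, hx⟩)
  obtain ⟨B'', hB''⟩ := Blocks.inducedBlockDefined_of_le hpM hP
    hK.ge (hK.le.trans (Subgroup.centralizer_le_normalizer _)) (hPC.trans hK.ge) hbblock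
  have hBB : B'' = B := Blocks.IsInducedBlock.unique (BlocksX.isInducedBlock_trans hb' hB'') hc
  rw [hBB] at hB''
  have hN : ∀ n : H, n ∈ Subgroup.normalizer (P' : Set H) ↔ (n : G) ∈ Subgroup.normalizer (P : Set G) := by
    intro n
    rw [Subgroup.mem_normalizer_iff, Subgroup.mem_normalizer_iff]
    refine ⟨fun h q => ⟨fun hq => ?_, fun hq => ?_⟩, fun h q => ?_⟩
    · exact Subgroup.mem_subgroupOf.1 ((h ⟨q, hPH hq⟩).1 (Subgroup.mem_subgroupOf.2 hq))
    · have hqH : q ∈ H := by
        have := mul_mem (mul_mem (inv_mem n.2) (hPH hq)) n.2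
        simpa [mul_assoc] using this
      exact Subgroup.mem_subgroupOf.1 ((h ⟨q, hqH⟩).2 (Subgroup.mem_subgroupOf.2 hq))
    · simp only [hP', Subgroup.mem_subgroupOf]
      exact h (q : G)
  have hstab : ∀ n : H, StabilizesBlock K' b' n → (n : G) ∈ Subgroup.normalizer (P : Set G) →
      StabilizesBlock (K'.map H.subtype) b (n : G) := by
    rintro n ⟨-, hn⟩ hnN
    refine ⟨?_, ?_⟩
    · rw [hK]
      exact BrauerPairs.normalizer_le_normalizer_centralizer P hnN
    · rintro _ ⟨η, hη, rfl⟩
      obtain ⟨η', hη', hconj⟩ := hn η hη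
      refine ⟨BrauerPairs.compIrr e η', ⟨η', hη', rfl⟩, fun k k' hk => ?_⟩
      rw [BrauerPairs.compIrr_apply, BrauerPairs.compIrr_apply]
      refine hconj (e k) (e k') (Subtype.ext ?_)
      have h1 : ∀ w : (K'.map H.subtype : Subgroup G), (((e w : K') : H) : G) = (w : G) := fun w =>
        congrArg Subtype.val
          ((K'.equivMapOfInjective H.subtype H.subtype_injective).apply_symm_apply w)
      push_cast
      rw [h1, h1]
      exact hk
  have hstab' : ∀ n : H, StabilizesBlock (K'.map H.subtype) b (n : G) →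
      n ∈ Subgroup.normalizer (P' : Set H) → StabilizesBlock K' b' n := by
    rintro n ⟨-, hn⟩ hnN
    refine ⟨BrauerPairs.normalizer_le_normalizer_centralizer P' hnN, fun η hη => ?_⟩
    obtain ⟨_, ⟨η', hη', rfl⟩, hconj⟩ := hn _ ⟨η, hη, rfl⟩
    refine ⟨η', hη', fun k k' hk => ?_⟩
    have h := hconj (e.symm k) (e.symm k') (by
      show ((k' : H) : G) = (n : G) * ((k : H) : G) * (n : G)⁻¹
      rw [hk]; push_cast; rfl)
    rwa [BrauerPairs.compIrr_apply, BrauerPairs.compIrr_apply, MulEquiv.apply_symm_apply,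
      MulEquiv.apply_symm_apply] at h
  have d' : Datum M p c P' b' := datum_of_induced hM hc.1 hcD hP'1 hcyc' hb'
  have hside : ∀ (C : Subgroup G) (b₀ : Set (IrrCharacter C)),
      C = Subgroup.centralizer (P : Set G) → IsInducedBlock M C b₀ B →
      (∀ n : H, n ∈ Subgroup.normalizer (P' : Set H) →
        (StabilizesBlock K' b' n ↔ StabilizesBlock C b₀ (n : G))) →
      ∃ b₁ : Set (IrrCharacter (Subgroup.centralizer (P : Set G))), Datum M p B P b₁ ∧
        inIndex M P' b' = inIndex M P b₁ := by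
    rintro C b₀ rfl hb₀ hst
    have d := datum_of_induced hM hB hPD hP1 hcyc hb₀
    refine ⟨b₀, d, ?_⟩
    have hT : (inGroup M P' b').map H.subtype = inGroup M P b₀ := by
      ext g
      constructor
      · rintro ⟨n, hn, rfl⟩
        obtain ⟨h1, h2⟩ := (d'.mem_inGroup n).1 hn
        exact (d.mem_inGroup _).2 ⟨(hN n).1 h1, (hst n h1).1 h2⟩
      · intro hg
        obtain ⟨h1, h2⟩ := (d.mem_inGroup g).1 hg
        have h1' := (hN ⟨g, hNH h1⟩).2 h1
        exact ⟨⟨g, hNH h1⟩, (d'.mem_inGroup _).2 ⟨h1', (hst _ h1').2 h2⟩, rfl⟩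
    show K'.relIndex (inGroup M P' b') = (Subgroup.centralizer (P : Set G)).relIndex (inGroup M P b₀)
    rw [← hT, ← hK, Subgroup.relIndex_map_map_of_injective _ _ H.subtype_injective]
  obtain ⟨b₁, d, hE⟩ := hside _ b hK hB'' fun n hn =>
    ⟨fun h => hstab n h ((hN n).1 hn), fun h => hstab' n h hn⟩
  exact ⟨b₁, b', d, d', hE⟩

end Cfsg.Agent.Blocks.CyclicDefect
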