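import Mathlib.Algebra.Module.PID
import Mathlib.Algebra.Polynomial.Module.AEval
import Mathlib.LinearAlgebra.FiniteDimensional.Lemmas
import Mathlib.RingTheory.Polynomial.Basic
import Mathlib.Algebra.EuclideanDomain.Field

/-!
# A module over a cyclic `p`-group algebra of which all small modules are direct summands

`exists_universal`: there is a finite-dimensional space with an operator `T`, `T ^ N = 0`, having
every pair `(U, f)` with `f ^ N = 0` and `finrank U ≤ D` as a direct summand.
-/

set_option autoImplicit false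
set_option linter.unusedSectionVars false
set_option linter.style.haveILetI false

namespace Cfsg.Agent.Blocks.CyclicDefect

open Polynomial
open scoped DirectSum Classical

universe u v

variable {k : Type u} [Field k]

/-- The shift on `k ^ j`. -/
def shiftOp (k : Type u) [Field k] (j : ℕ) : (Fin j → k) →ₗ[k] (Fin j → k) where
  toFun v l := if h : (l : ℕ) = 0 then 0 else v ⟨l - 1, by omega⟩
  map_add' v w := funext fun l => by by_cases h : (l : ℕ) = 0 <;> simp [h]
  map_smul' c v := funext fun l => by by_cases h : (l : ℕ) = 0 <;> simp [h]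

theorem shiftOp_pow (j : ℕ) : ∀ (m : ℕ) (v : Fin j → k) (l : Fin j),
    ((shiftOp k j) ^ m) v l = if h : (l : ℕ) < m then 0 else v ⟨l - m, by omega⟩
  | 0, v, l => by simp
  | m + 1, v, l => by
    rw [pow_succ', Module.End.mul_apply]
    show (if h : (l : ℕ) = 0 then 0 else _) = _
    by_cases h : (l : ℕ) = 0
    · simp [h]
    · rw [dif_neg h, shiftOp_pow j m]
      by_cases h2 : (l : ℕ) < m + 1
      · rw [dif_pos h2, dif_pos (show ((⟨(l : ℕ) - 1, by omega⟩ : Fin j) : ℕ) < m by
          show (l : ℕ) - 1 < m; omega)]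
      · rw [dif_neg h2, dif_neg (show ¬ ((⟨(l : ℕ) - 1, by omega⟩ : Fin j) : ℕ) < m by
          show ¬ (l : ℕ) - 1 < m; omega)]
        congr 1
        exact Fin.ext (by show (l : ℕ) - 1 - m = (l : ℕ) - (m + 1); omega)

theorem shiftOp_pow_eq_zero {j N : ℕ} (h : j ≤ N) : (shiftOp k j) ^ N = 0 :=
  LinearMap.ext fun v => funext fun l => by
    rw [shiftOp_pow, dif_pos (lt_of_lt_of_le l.2 h)]; rfl

/-- The first `j` coefficients. -/
noncomputable def coeffs (k : Type u) [Field k] (j : ℕ) : k[X] →ₗ[k] (Fin j → k) :=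
  LinearMap.pi fun l => lcoeff k (l : ℕ)

theorem coeffs_X_mul (j : ℕ) (r : k[X]) : coeffs k j (X * r) = shiftOp k j (coeffs k j r) := by
  funext l
  show (X * r).coeff (l : ℕ) = if h : (l : ℕ) = 0 then 0 else r.coeff ((l : ℕ) - 1)
  by_cases h : (l : ℕ) = 0
  · simp [h]
  · obtain ⟨m, hm⟩ := Nat.exists_eq_succ_of_ne_zero h
    rw [dif_neg h, hm, coeff_X_mul]; rfl

theorem ker_coeffs (j : ℕ) :
    LinearMap.ker (coeffs k j) = (k[X] ∙ (X : k[X]) ^ j).restrictScalars k := by
  ext r
  rw [LinearMap.mem_ker, Submodule.restrictScalars_mem, Submodule.mem_span_singleton]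
  constructor
  · intro h
    obtain ⟨q, hq⟩ := X_pow_dvd_iff.2 fun d hd => congrFun h ⟨d, hd⟩
    exact ⟨q, by rw [hq, smul_eq_mul, mul_comm]⟩
  · rintro ⟨q, rfl⟩
    funext l
    exact X_pow_dvd_iff.1 (Dvd.intro_left q rfl) l l.2

theorem surjective_coeffs (j : ℕ) : Function.Surjective (coeffs k j) := fun v =>
  ⟨∑ l : Fin j, C (v l) * X ^ (l : ℕ), funext fun m => by
    show (∑ l : Fin j, C (v l) * X ^ (l : ℕ)).coeff (m : ℕ) = v m
    rw [finsetSum_coeff, Finset.sum_eq_single m]
    · simp
    · intro l _ hl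
      rw [coeff_C_mul_X_pow, if_neg fun h => hl (Fin.ext h.symm)]
    · exact fun h => absurd (Finset.mem_univ m) h⟩

/-- `k[X] / (X ^ j) → k ^ j`. -/
noncomputable def quotMap (k : Type u) [Field k] (j : ℕ) :
    (k[X] ⧸ k[X] ∙ (X : k[X]) ^ j) →ₗ[k] (Fin j → k) where
  toFun := Quotient.lift (coeffs k j) fun a b h => by
    rw [← sub_eq_zero, ← map_sub, ← LinearMap.mem_ker, ker_coeffs, Submodule.restrictScalars_mem]
    exact (Submodule.quotientRel_def _).1 h
  map_add' x y := by
    induction x using Submodule.Quotient.induction_on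
    induction y using Submodule.Quotient.induction_on
    exact map_add (coeffs k j) _ _
  map_smul' c x := by
    induction x using Submodule.Quotient.induction_on
    exact map_smul (coeffs k j) c _

theorem bijective_quotMap (j : ℕ) : Function.Bijective (quotMap k j) := by
  refine ⟨fun x y h => ?_, fun v => ?_⟩
  · induction x using Submodule.Quotient.induction_on with
    | _ a => induction y using Submodule.Quotient.induction_on with
      | _ b =>
        rw [Submodule.Quotient.eq, ← Submodule.restrictScalars_mem k, ← ker_coeffs, LinearMap.mem_ker,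
          map_sub, sub_eq_zero]
        exact h
  · obtain ⟨r, hr⟩ := surjective_coeffs (k := k) j v
    exact ⟨Submodule.Quotient.mk r, hr⟩

/-- `k[X] / (X ^ j) ≃ k ^ j`, `X` acting by the shift. -/
noncomputable def quotShift (k : Type u) [Field k] (j : ℕ) :
    (k[X] ⧸ k[X] ∙ (X : k[X]) ^ j) ≃ₗ[k] (Fin j → k) :=
  LinearEquiv.ofBijective _ (bijective_quotMap j)

theorem quotShift_mk (j : ℕ) (r : k[X]) :
    quotShift k j (Submodule.Quotient.mk r) = coeffs k j r := rfl

theorem quotShift_X_smul (j : ℕ) (x : k[X] ⧸ k[X] ∙ (X : k[X]) ^ j) :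
    quotShift k j ((X : k[X]) • x) = shiftOp k j (quotShift k j x) := by
  induction x using Submodule.Quotient.induction_on with
  | _ r =>
    rw [← Submodule.Quotient.mk_smul, quotShift_mk, quotShift_mk, smul_eq_mul, coeffs_X_mul]

set_option maxHeartbeats 1000000 in
variable (k) in
/-- A universal space for nilpotent operators of exponent `N` in dimension `≤ D`. -/
theorem exists_universal (N D : ℕ) :
    ∃ (Y : Type u) (_ : AddCommGroup Y) (_ : Module k Y) (_ : FiniteDimensional k Y)
      (T : Module.End k Y), T ^ N = 0 ∧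
      ∀ (U : Type v) [AddCommGroup U] [Module k U] [FiniteDimensional k U] (f : Module.End k U),
        f ^ N = 0 → Module.finrank k U ≤ D → ∃ (i : U →ₗ[k] Y) (q : Y →ₗ[k] U),
          (∀ x, i (f x) = T (i x)) ∧ (∀ y, q (T y) = f (q y)) ∧ ∀ x, q (i x) = x := by
  let S := Fin (N + 1) × Fin D
  let T : Module.End k ((s : S) → Fin (s.1 : ℕ) → k) :=
    LinearMap.pi fun s => (shiftOp k s.1).comp (LinearMap.proj s)
  have hT : ∀ (m : ℕ) y s, (T ^ m) y s = ((shiftOp k (s : S).1) ^ m) (y s) := by
    intro m
    induction m with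
    | zero => intro y s; rfl
    | succ m ih =>
      intro y s
      rw [pow_succ', pow_succ', Module.End.mul_apply, Module.End.mul_apply, ← ih]
      rfl
  refine ⟨(s : S) → Fin (s.1 : ℕ) → k, inferInstance, inferInstance, inferInstance, T,
    LinearMap.ext fun y => funext fun s => ?_, ?_⟩
  · rw [hT, shiftOp_pow_eq_zero (Nat.lt_succ_iff.1 s.1.2)]; rfl
  intro U _ _ _ f hf hD
  let Mo := Module.AEval' f
  let e := Module.AEval'.of f
  have htor : Module.IsTorsion' Mo (Submonoid.powers (X : k[X])) := by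
    intro x
    obtain ⟨x, rfl⟩ := e.surjective x
    refine ⟨⟨X ^ N, N, rfl⟩, ?_⟩
    show (X : k[X]) ^ N • e x = 0
    rw [Module.AEval'.X_pow_smul_of, hf]
    exact (e.map_eq_zero_iff).2 rfl
  haveI : Module.Finite k Mo := Module.Finite.equiv e
  haveI : Module.Finite k[X] Mo := Module.Finite.of_restrictScalars_finite k _ _
  obtain ⟨d, j, ⟨φ⟩⟩ := Module.torsion_by_prime_power_decomposition (irreducible_X (R := k)) htor
  -- the decomposition in coordinates
  let ψ : U ≃ₗ[k] ((i : Fin d) → Fin (j i) → k) :=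
    (e.trans ((φ.trans (DirectSum.linearEquivFunOnFintype k[X] (Fin d) _)).restrictScalars k)).trans
      (LinearEquiv.piCongrRight fun i => quotShift k (j i))
  have hψ : ∀ x i, ψ (f x) i = shiftOp k (j i) (ψ x i) := by
    intro x i
    show quotShift k (j i) ((DirectSum.linearEquivFunOnFintype k[X] (Fin d) _) (φ (e (f x))) i) = _
    rw [← Module.AEval'.X_smul_of, map_smul, map_smul, Pi.smul_apply, quotShift_X_smul]
    rfl
  have hdim : ∑ i, j i = Module.finrank k U := by
    rw [ψ.finrank_eq, Module.finrank_pi_fintype]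
    simp
  have hjN : ∀ i, j i ≤ N := by
    intro i
    by_contra hlt
    push Not at hlt
    have h0 : ∀ (m : ℕ) x, ψ ((f ^ m) x) i = ((shiftOp k (j i)) ^ m) (ψ x i) := by
      intro m
      induction m with
      | zero => intro x; rfl
      | succ m ih => intro x; rw [pow_succ', pow_succ', Module.End.mul_apply, Module.End.mul_apply, hψ, ih]
    have h1 := h0 N (ψ.symm (Pi.single i fun _ => 1))
    rw [hf, LinearMap.zero_apply, map_zero, ψ.apply_symm_apply, Pi.single_eq_same] at h1
    have h2 := congrFun h1 ⟨N, hlt⟩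
    rw [shiftOp_pow, dif_neg (by simp)] at h2
    exact zero_ne_one h2
  let J := {i : Fin d // j i ≠ 0}
  have hJ : Fintype.card J ≤ Fintype.card (Fin D) := by
    rw [Fintype.card_fin]
    refine le_trans ?_ hD
    rw [← hdim, Fintype.card_subtype, Finset.card_eq_sum_ones, Finset.sum_filter]
    exact Finset.sum_le_sum fun i _ => by split_ifs <;> omega
  obtain ⟨g⟩ := Function.Embedding.nonempty_of_card_le hJ
  let sl : J → S := fun i => (⟨j i.1, Nat.lt_succ_iff.2 (hjN i.1)⟩, g i)
  have hsl : Function.Injective sl := fun a b h => g.injective (congrArg Prod.snd h)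
  let i₀ : U →ₗ[k] ((s : S) → Fin (s.1 : ℕ) → k) := LinearMap.pi fun s =>
    if h : ∃ i, sl i = s then
      (LinearMap.funLeft k k (Fin.cast (show (s.1 : ℕ) = j h.choose.1 from
        (congrArg (fun t : S => (t.1 : ℕ)) h.choose_spec).symm))).comp
        ((LinearMap.proj h.choose.1).comp ψ.toLinearMap)
    else 0
  let q₀ : ((s : S) → Fin (s.1 : ℕ) → k) →ₗ[k] U := ψ.symm.toLinearMap.comp (LinearMap.pi fun i =>
    if h : j i ≠ 0 then LinearMap.proj (R := k) (φ := fun s : S => Fin (s.1 : ℕ) → k) (sl ⟨i, h⟩) else 0)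
  have hcast : ∀ {m n : ℕ} (h : m = n) (v : Fin n → k) (l : Fin m),
      shiftOp k n v (Fin.cast h l) = shiftOp k m (fun t => v (Fin.cast h t)) l := by
    rintro m _ rfl v l; rfl
  refine ⟨i₀, q₀, fun x => funext fun s => ?_, fun y => ?_, fun x => ?_⟩
  · show (i₀ (f x)) s = shiftOp k s.1 (i₀ x s)
    simp only [i₀, LinearMap.pi_apply]
    split_ifs with h
    · funext l
      show ψ (f x) h.choose.1 (Fin.cast _ l) = _
      rw [hψ, hcast]
      rfl
    · simp
  · show q₀ (T y) = f (q₀ y)
    apply ψ.injective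
    funext i
    rw [hψ]
    simp only [q₀, LinearMap.comp_apply, LinearEquiv.coe_coe, LinearEquiv.apply_symm_apply,
      LinearMap.pi_apply]
    split_ifs with h
    · rfl
    · simp
  · apply ψ.injective
    funext i
    simp only [q₀, LinearMap.comp_apply, LinearEquiv.coe_coe, LinearEquiv.apply_symm_apply,
      LinearMap.pi_apply]
    split_ifs with h
    · show i₀ x (sl ⟨i, h⟩) = ψ x i
      simp only [i₀, LinearMap.pi_apply]
      have hex : ∃ i', sl i' = sl ⟨i, h⟩ := ⟨_, rfl⟩
      rw [dif_pos hex]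
      funext l
      show ψ x hex.choose.1 (Fin.cast _ l) = ψ x i l
      have key : ∀ (a : J) (ha : a = ⟨i, h⟩) (pf : (j i) = j a.1),
          ψ x a.1 (Fin.cast pf l) = ψ x i l := by
        rintro a rfl pf; rfl
      exact key _ (hsl hex.choose_spec) _
    · funext l
      exact absurd l.2 (by omega)

end Cfsg.Agent.Blocks.CyclicDefect
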