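import Cfsg.Agent.Lib.Blocks.CyclicDefect.Isometry
import Cfsg.Agent.Lib.Blocks.PConstrained
import Cfsg.Agent.S4652

/-!
# The groups `C_n ⋊ C_e`

A group of order `n e` with a cyclic subgroup `Q` of order `n`, a `p`-power, that is its own
centraliser, `e` prime to `p` and `e < p`, has one block; `Q` is its defect group and `e` the
inertial index; the characters nontrivial on `Q` are the exceptional ones.
-/

set_option autoImplicit false
set_option linter.unusedSectionVars false
set_option linter.style.haveILetI false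

namespace Cfsg.Agent.Blocks.CyclicDefect

open Cfsg Blocks Cfsg.Agent.BrauerPairs
open Cfsg.Agent.Blocks.NilRank (sectF blkSet eU)
open scoped Classical ComplexConjugate Cfsg.Agent.Blocks

universe u

variable {F : Type u} [Group F] [Fintype F] {M : Ideal AlgInt} [M.IsMaximal] {p : ℕ}
  [hp : Fact p.Prime] [CharP (AlgInt ⧸ M) p]

theorem Shape.sgn_eq_of_one {B : Set (IrrCharacter F)} {P : Subgroup F}
    {c : Set (IrrCharacter (Subgroup.centralizer (P : Set F)))} {d : Datum M p B P c}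
    {θ : IrrCharacter F → P → ℂ} (S : Shape d θ) (h1 : inIndex M P c = 1)
    {χ : IrrCharacter F} (hχ : χ ∈ S.X) : S.sgn χ = -S.sgn₀ := by
  obtain ⟨ψ, hψ⟩ := S.nonempty_Y
  have hX : S.X = {χ} := Finset.eq_singleton_iff_unique_mem.2 ⟨hχ, fun a ha =>
    Finset.card_le_one.1 (S.card_X.trans h1).le a ha χ hχ⟩
  have h := S.relation ψ hψ 1 (by simpa using hp.out.ne_one)
  rw [hX, Finset.sum_singleton, Char.apply_one_eq_degree, Char.apply_one_eq_degree] at h
  have h' : S.sgn₀ * (Char.degree ψ : ℤ) + S.sgn χ * (Char.degree χ : ℤ) = 0 := by exact_mod_cast h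
  have hd := Char.degree_pos ψ
  have hd' := Char.degree_pos χ
  rcases S.sgn_unit χ hχ with e | e <;> rcases S.sgn₀_unit with e' | e' <;> rw [e, e'] at h' ⊢ <;>
    omega

variable {Q : Subgroup F} {e : ℕ}

theorem normal_of_small_index (he : 0 < e) (hep : e ∣ p - 1) {a : ℕ} (hQ : Nat.card Q = p ^ a)
    (hF : Nat.card F = Nat.card Q * e) : Q.Normal ∧ Q.index = e := by
  have hidx : Q.index = e := by
    refine Nat.eq_of_mul_eq_mul_left (Nat.card_pos (α := Q)) ?_
    rw [Q.card_mul_index, hF]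
  have hlt : e < p := lt_of_le_of_lt (Nat.le_of_dvd (by have := hp.out.two_le; omega) hep)
    (Nat.sub_lt hp.out.pos one_pos)
  have hpe : ¬ p ∣ Q.index := hidx ▸ fun h => absurd (Nat.le_of_dvd he h) (by omega)
  let S : Sylow p F := (IsPGroup.of_card hQ).toSylow hpe
  have hS : (S : Subgroup F) = Q := rfl
  have hone : Nat.card (Sylow p F) = 1 := by
    have hdvd : Nat.card (Sylow p F) ∣ e := hidx ▸ hS ▸ S.card_dvd_index
    have hmod := card_sylow_modEq_one p F
    have hle : Nat.card (Sylow p F) ≤ e := Nat.le_of_dvd he hdvd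
    rw [Nat.ModEq, Nat.mod_eq_of_lt (by omega), Nat.mod_eq_of_lt hp.out.one_lt] at hmod
    exact hmod
  haveI : Subsingleton (Sylow p F) := (Nat.card_eq_one_iff_unique.1 hone).1
  exact ⟨hS ▸ S.normal_of_subsingleton, hidx⟩

theorem mul_comm_mem [Q.Normal] (hQ : IsCyclic Q) (hC : Subgroup.centralizer (Q : Set F) = Q)
    (g h : F) : (g * h)⁻¹ * (h * g) ∈ Q := by
  let f : F →* MulAut Q :=
    { toFun := fun g =>
        { toFun := fun x => ⟨g * x * g⁻¹, ‹Q.Normal›.conj_mem _ x.2 g⟩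
          invFun := fun x => ⟨g⁻¹ * x * g, by simpa using ‹Q.Normal›.conj_mem _ x.2 g⁻¹⟩
          left_inv := fun x => Subtype.ext (by simp [mul_assoc])
          right_inv := fun x => Subtype.ext (by simp [mul_assoc])
          map_mul' := fun x y => Subtype.ext (by simp [mul_assoc]) }
      map_one' := MulEquiv.ext fun x => Subtype.ext (by simp)
      map_mul' := fun a b => MulEquiv.ext fun x => Subtype.ext (by simp [mul_assoc]) }
  have hcomm : f (g * h) = f (h * g) := by
    refine (IsCyclic.mulAutMulEquiv Q).injective ?_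
    rw [map_mul, map_mul, map_mul, map_mul, mul_comm]
  have hker : f ((g * h)⁻¹ * (h * g)) = 1 := by rw [map_mul, map_inv, hcomm, inv_mul_cancel]
  rw [← hC, Subgroup.mem_centralizer_iff]
  intro x hx
  have h1 : (g * h)⁻¹ * (h * g) * x * ((g * h)⁻¹ * (h * g))⁻¹ = x :=
    congrArg Subtype.val (DFunLike.congr_fun hker ⟨x, hx⟩)
  exact (mul_inv_eq_iff_eq_mul.1 h1).symm

theorem card_trivOn [Q.Normal] (hQ : IsCyclic Q) (hC : Subgroup.centralizer (Q : Set F) = Q) :
    (Finset.univ.filter fun η : IrrCharacter F => Char.TrivOn Q η.1).card = Q.index ∧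
      ∀ η : IrrCharacter F, Char.TrivOn Q η.1 → η.1 1 = 1 := by
  haveI := Fintype.ofFinite (F ⧸ Q)
  have hab : ∀ a b : F ⧸ Q, a * b = b * a := by
    intro a b
    obtain ⟨g, rfl⟩ := QuotientGroup.mk_surjective a
    obtain ⟨h, rfl⟩ := QuotientGroup.mk_surjective b
    exact QuotientGroup.eq.2 (mul_comm_mem hQ hC g h)
  have hdesc : ∀ η : IrrCharacter F, Char.TrivOn Q η.1 → ∃ ψ, Char.inflate Q ψ = η := fun η hη => by
    obtain ⟨ψ, hψ⟩ := Char.exists_descend Q η hη
    exact ⟨ψ, Subtype.ext (funext hψ)⟩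
  refine ⟨?_, fun η hη => ?_⟩
  · have himg : (Finset.univ.filter fun η : IrrCharacter F => Char.TrivOn Q η.1) =
        Finset.univ.image (Char.inflate Q) := by
      ext η
      simp only [Finset.mem_filter, Finset.mem_univ, true_and, Finset.mem_image]
      exact ⟨hdesc η, fun ⟨ψ, h⟩ => h ▸ Char.trivOn_inflate Q ψ⟩
    rw [himg, Finset.card_image_of_injective _ (Char.inflate_injective Q), Finset.card_univ]
    have h1 := Char.sum_degree_sq (G := F ⧸ Q)
    rw [Finset.sum_congr rfl fun l _ => show Char.degree l ^ 2 = 1 by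
      have := Char.apply_one_of_comm hab l
      rw [Char.apply_one_eq_degree, Nat.cast_eq_one] at this
      rw [this, one_pow], Finset.sum_const, smul_eq_mul, mul_one, Finset.card_univ] at h1
    exact h1
  · obtain ⟨ψ, rfl⟩ := hdesc η hη
    rw [Char.inflate_apply, QuotientGroup.mk_one]
    exact Char.apply_one_of_comm hab ψ

/-- A linear character is trivial on `Q` if some element acts freely on `Q`. -/
theorem trivOn_of_linear [Q.Normal] (hcomm : ∀ x ∈ Q, ∀ y ∈ Q, x * y = y * x) {g : F}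
    (hfree : ∀ x ∈ Q, g * x * g⁻¹ = x → x = 1) {η : IrrCharacter F} (h1 : η.1 1 = 1) :
    Char.TrivOn Q η.1 := by
  obtain ⟨lam, hlam⟩ := Char.IsCharacter.exists_monoidHom (Char.irr_isCharacter η) h1
  have hmem : ∀ x : Q, g * x * g⁻¹ * (x : F)⁻¹ ∈ Q := fun x =>
    mul_mem (‹Q.Normal›.conj_mem _ x.2 g) (inv_mem x.2)
  have hinj : Function.Injective fun x : Q => (⟨_, hmem x⟩ : Q) := by
    intro x y h
    have h2 : g * (x : F) * g⁻¹ * (x : F)⁻¹ = g * y * g⁻¹ * (y : F)⁻¹ := congrArg Subtype.val h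
    refine Subtype.ext (mul_inv_eq_one.1 (hfree _ (mul_mem x.2 (inv_mem y.2)) ?_))
    calc g * ((x : F) * (y : F)⁻¹) * g⁻¹ = g * x * g⁻¹ * (g * (y : F) * g⁻¹)⁻¹ := by group
      _ = g * x * g⁻¹ * (x : F)⁻¹ * x * ((g * (y : F) * g⁻¹ * (y : F)⁻¹) * y)⁻¹ := by group
      _ = g * y * g⁻¹ * (y : F)⁻¹ * ((x : F) * (y : F)⁻¹) * (g * (y : F) * g⁻¹ * (y : F)⁻¹)⁻¹ := by
          rw [h2]; group
      _ = (x : F) * (y : F)⁻¹ := by
          rw [hcomm _ (hmem y) _ (mul_mem x.2 (inv_mem y.2)), mul_inv_cancel_right]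
  intro k hk
  obtain ⟨x, hx⟩ := (Finite.injective_iff_surjective.1 hinj) ⟨k, hk⟩
  have hk' : g * (x : F) * g⁻¹ * (x : F)⁻¹ = k := congrArg Subtype.val hx
  rw [← hk', ← hlam]
  simp only [map_mul, map_one]
  have hg : lam g * lam g⁻¹ = 1 := by rw [← map_mul, mul_inv_cancel, map_one]
  have hxx : lam (x : F) * lam (x : F)⁻¹ = 1 := by rw [← map_mul, mul_inv_cancel, map_one]
  linear_combination (lam (x : F) * lam (x : F)⁻¹) * hg + hxx

/-- The data of the group `C_n ⋊ C_e`. -/
theorem exists_frobenius_shape (hM : IsPModular p M) (he : 0 < e) (hep : e ∣ p - 1) {a : ℕ}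
    (ha : 1 ≤ a) (hQcard : Nat.card Q = p ^ a) (hQ : IsCyclic Q)
    (hF : Nat.card F = Nat.card Q * e) (hC : Subgroup.centralizer (Q : Set F) = Q) :
    ∃ (c : Set (IrrCharacter (Subgroup.centralizer (Q : Set F))))
      (d : Datum M p (Set.univ : Set (IrrCharacter F)) Q c) (θ : IrrCharacter F → Q → ℂ),
      inIndex M Q c = e ∧
      (∀ χ ψ : IrrCharacter F, ∀ u : Q, u ≠ 1 →
        (Nat.card Q : ℂ) * sectF p (Subgroup.centralizer ({(u : F)} : Set F)) u
            (blkSet M _ (eU p Q (blk M (Subgroup.centralizer (Q : Set F)) c) u)) χ.1 ψ.1 =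
          θ χ u * conj (θ ψ u)) ∧
      ∃ S : Shape d θ, e ≠ 1 → 1 < S.Y.card → ∀ η, ¬ Char.TrivOn Q η.1 → η ∈ S.Y := by
  obtain ⟨hn, hidx⟩ := normal_of_small_index he hep hQcard hF
  haveI := hn
  have hQp : IsPGroup p Q := IsPGroup.of_card hQcard
  have huniv : (Set.univ : Set (IrrCharacter F)) = principalBlock M F :=
    (Set.eq_univ_of_forall fun χ => BlockCount.mem_principalBlock_of_centralizer_le hM hQp hC.le χ).symm
  have hlt : e < p := lt_of_le_of_lt (Nat.le_of_dvd (by have := hp.out.two_le; omega) hep)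
    (Nat.sub_lt hp.out.pos one_pos)
  have hpe : ¬ p ∣ Q.index := hidx ▸ fun h => absurd (Nat.le_of_dvd he h) (by omega)
  have hB : IsPBlock M (Set.univ : Set (IrrCharacter F)) := huniv ▸ BrauerPairs.isPBlock_principalBlock
  have hD : IsDefectGroup p M (Set.univ : Set (IrrCharacter F)) Q := by
    rw [huniv]
    exact (S4652.result p M hM Q).2 ⟨hQp.toSylow hpe, rfl⟩
  obtain ⟨c, d⟩ := exists_datum hM hB hD hQ (ne_bot_of_card ha hQcard)
  haveI := Fintype.ofFinite (Subgroup.centralizer (Q : Set F))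
  have hCp : IsPGroup p (⊤ : Subgroup (Subgroup.centralizer (Q : Set F))) :=
    (hQp.of_equiv ((MulEquiv.subgroupCongr hC).symm.trans Subgroup.topEquiv.symm))
  have hcU : ∀ η, η ∈ c := fun η => by
    obtain ⟨η₀, hη₀⟩ := nonempty_of_isPBlock d.local_block
    rw [Blocks.block_eq d.local_block hη₀]
    exact Blocks.mem_blockOf.2 (Blocks.SameBlock.trans (Blocks.SameBlock.symm
      (Blocks.mem_blockOf.1 (BlockCount.mem_principalBlock_of_centralizer_le hM hCp le_top η₀)))
      (Blocks.mem_blockOf.1 (BlockCount.mem_principalBlock_of_centralizer_le hM hCp le_top η)))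
  have htop : inGroup M Q c = ⊤ := by
    refine eq_top_iff.2 fun g _ => (d.mem_inGroup g).2 ⟨?_, ?_⟩
    · rw [Subgroup.normalizer_eq_top_iff.2 hn]; trivial
    · refine (stabilizesBlock_iff_forall ?_).2 fun θ _ θ' _ => hcU θ'
      exact BrauerPairs.normalizer_le_normalizer_centralizer Q
        (by rw [Subgroup.normalizer_eq_top_iff.2 hn]; trivial)
  have hE : inIndex M Q c = e := by
    show (Subgroup.centralizer (Q : Set F)).relIndex (inGroup M Q c) = e
    rw [htop, Subgroup.relIndex_top_right, hC, hidx]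
  obtain ⟨θ, -, hθ, ⟨S⟩⟩ := d.exists_shape
  refine ⟨c, d, θ, hE, hθ, S, fun he1 hY η hη => ?_⟩
  obtain ⟨hcardK, hlin⟩ := card_trivOn (F := F) hQ hC
  set K := Finset.univ.filter fun η : IrrCharacter F => Char.TrivOn Q η.1
  obtain ⟨g, hg⟩ : ∃ g, g ∉ Q := by
    by_contra! h
    exact he1 (by rw [← hidx, Subgroup.index_eq_one, eq_top_iff]; exact fun x _ => h x)
  have hcomm : ∀ x ∈ Q, ∀ y ∈ Q, x * y = y * x := fun x hx y hy =>
    congrArg Subtype.val (d.comm_P ⟨x, hx⟩ ⟨y, hy⟩)
  have hfree : ∀ x ∈ Q, g * x * g⁻¹ = x → x = 1 := fun x hx h => by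
    by_contra hx1
    have hgT : g ∈ inGroup M Q c := htop ▸ Subgroup.mem_top g
    exact hg (hC.le (d.free hgT hx hx1 h))
  have hKY : ∀ η ∈ K, η ∉ S.Y := by
    intro η hη hηY
    have hηK := (Finset.mem_filter.1 hη).2
    obtain ⟨ψ, hψ, hne⟩ := Finset.exists_mem_ne hY η
    have h1 : ψ.1 1 = 1 := by
      rw [S.agree ψ hψ η hηY 1 (by simpa using hp.out.ne_one), hlin η hηK]
    have hψK := trivOn_of_linear hcomm hfree h1
    refine hne (Subtype.ext (funext fun x => ?_))
    obtain ⟨z, hz⟩ := Blocks.exists_isPPart (p := p) x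
    obtain ⟨s, hs, -, ⟨k, hk⟩, hr⟩ := hz
    have hzQ : z ∈ Q := by
      have hp' : IsPGroup p (Subgroup.zpowers z) := IsPGroup.of_card (n := k) (by
        rw [Nat.card_zpowers, hk])
      obtain ⟨R, hR⟩ := hp'.exists_le_sylow
      let S₀ : Sylow p F := hQp.toSylow hpe
      haveI : (S₀ : Subgroup F).Normal := hn
      haveI := Sylow.unique_of_normal S₀ hn
      rw [Subsingleton.elim R S₀] at hR
      exact hR (Subgroup.mem_zpowers z)
    obtain ⟨l1, hl1⟩ := Char.IsCharacter.exists_monoidHom (Char.irr_isCharacter ψ) h1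
    obtain ⟨l2, hl2⟩ := Char.IsCharacter.exists_monoidHom (Char.irr_isCharacter η) (hlin η hηK)
    rw [← hl1, ← hl2, ← hs, map_mul, map_mul, hl1, hl2, hψK z hzQ, hηK z hzQ, h1, hlin η hηK,
      one_mul, one_mul]
    exact S.agree ψ hψ η hηY s hr
  have hKX : K = S.X := Finset.eq_of_subset_of_card_le
    (fun x hx => ((S.mem_iff x).1 (Set.mem_univ x)).resolve_right (hKY x hx))
    (by rw [hcardK, hidx, S.card_X, hE])
  refine ((S.mem_iff η).1 (Set.mem_univ η)).resolve_left fun h => hη ?_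
  rw [← hKX] at h
  exact (Finset.mem_filter.1 h).2

end Cfsg.Agent.Blocks.CyclicDefect
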