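import Cfsg.Agent.Lib.Blocks.CyclicDefect.ThetaSum

/-!
# Perfect isometries between blocks with cyclic defect groups

Two blocks with cyclic defect groups of equal order and equal inertial index are perfectly
isometric: a signed bijection carrying the one `θ` to the other is perfect.
-/

set_option autoImplicit false
set_option linter.unusedSectionVars false
set_option linter.style.haveILetI false

namespace Cfsg.Agent.Blocks.CyclicDefect

open Cfsg Blocks Cfsg.Agent.BrauerPairs
open Cfsg.Agent.Blocks.NilRank (sectF blkSet eU)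
open scoped Classical ComplexConjugate Cfsg.Agent.Blocks

universe u v

variable {G : Type u} [Group G] [Fintype G] {M : Ideal AlgInt} [M.IsMaximal] {p : ℕ}
  [hp : Fact p.Prime] [CharP (AlgInt ⧸ M) p]
variable {B : Set (IrrCharacter G)} {P : Subgroup G}
  {c : Set (IrrCharacter (Subgroup.centralizer (P : Set G)))}
variable {H : Type v} [Group H] [Fintype H] {B' : Set (IrrCharacter H)} {P' : Subgroup H}
  {c' : Set (IrrCharacter (Subgroup.centralizer (P' : Set H)))}

/-- A signed bijection carrying `θ'` to `θ`. -/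
structure Match (θ : IrrCharacter G → P → ℂ) (θ' : IrrCharacter H → P' → ℂ) (φ : P' ≃* P)
    (B : Set (IrrCharacter G)) (B' : Set (IrrCharacter H)) (I : IrrCharacter H → IrrCharacter G)
    (ε : IrrCharacter H → ℤ) : Prop where
  bij : Set.BijOn I B' B
  sign : ∀ η ∈ B', ε η = 1 ∨ ε η = -1
  spec : ∀ η ∈ B', ∀ u : P', u ≠ 1 → θ (I η) (φ u) = (ε η : ℂ) * θ' η u

variable {θ : IrrCharacter G → P → ℂ} {θ' : IrrCharacter H → P' → ℂ} {φ : P' ≃* P}
  {I : IrrCharacter H → IrrCharacter G} {ε : IrrCharacter H → ℤ}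

theorem Match.sum (h : Match θ θ' φ B B' I ε) (F : IrrCharacter G → ℂ) :
    ∑ χ ∈ Finset.univ.filter (· ∈ B), F χ = ∑ η ∈ Finset.univ.filter (· ∈ B'), F (I η) := by
  symm
  refine Finset.sum_bij (fun η _ => I η)
    (fun η hη => Finset.mem_filter.2 ⟨Finset.mem_univ _, h.bij.mapsTo (Finset.mem_filter.1 hη).2⟩)
    (fun a ha b hb e => h.bij.injOn (Finset.mem_filter.1 ha).2 (Finset.mem_filter.1 hb).2 e)
    (fun χ hχ => ?_) (fun η _ => rfl)
  obtain ⟨η, hη, rfl⟩ := h.bij.surjOn (Finset.mem_filter.1 hχ).2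
  exact ⟨η, Finset.mem_filter.2 ⟨Finset.mem_univ _, hη⟩, rfl⟩

theorem Match.exists_symm [Nonempty (IrrCharacter H)] (h : Match θ θ' φ B B' I ε) :
    ∃ J, (∀ η ∈ B', J (I η) = η) ∧ (∀ χ ∈ B, I (J χ) = χ) ∧
      Match θ' θ φ.symm B' B J (fun χ => ε (J χ)) := by
  refine ⟨Function.invFunOn I B', fun η hη => h.bij.invOn_invFunOn.1 hη,
    fun χ hχ => h.bij.invOn_invFunOn.2 hχ, ?_⟩
  have hm : Set.MapsTo (Function.invFunOn I B') B B' := h.bij.surjOn.mapsTo_invFunOn
  refine ⟨Set.InvOn.bijOn h.bij.invOn_invFunOn.symm hm h.bij.mapsTo, fun χ hχ => h.sign _ (hm hχ),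
    fun χ hχ u hu => ?_⟩
  have h1 := h.spec _ (hm hχ) (φ.symm u) (by simpa using hu)
  rw [h.bij.invOn_invFunOn.2 hχ, MulEquiv.apply_symm_apply] at h1
  rw [h1]
  rcases h.sign _ (hm hχ) with e | e <;> simp [e]

/-- The two-variable function of the signed bijection. -/
noncomputable def isoPairing (B' : Set (IrrCharacter H)) (I : IrrCharacter H → IrrCharacter G)
    (ε : IrrCharacter H → ℤ) (x : G) (y : H) : ℂ :=
  ∑ η ∈ Finset.univ.filter (· ∈ B'), (ε η : ℂ) * (I η).1 x * η.1 y

theorem isoPairing_symm (h : Match θ θ' φ B B' I ε) {J : IrrCharacter G → IrrCharacter H}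
    (hJ : ∀ η ∈ B', J (I η) = η) (x : G) (y : H) :
    isoPairing B J (fun χ => ε (J χ)) y x = isoPairing B' I ε x y := by
  rw [isoPairing, h.sum]
  refine Finset.sum_congr rfl fun η hη => ?_
  rw [hJ η (Finset.mem_filter.1 hη).2]
  ring

variable {d : Datum M p B P c} {d' : Datum M p B' P' c'}
  (hθ : ∀ χ ψ : IrrCharacter G, ∀ u : P, u ≠ 1 →
    (Nat.card P : ℂ) * sectF p (Subgroup.centralizer ({(u : G)} : Set G)) u
        (blkSet M _ (eU p P (blk M (Subgroup.centralizer (P : Set G)) c) u)) χ.1 ψ.1 =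
      θ χ u * conj (θ ψ u))
  (hθ' : ∀ χ ψ : IrrCharacter H, ∀ u : P', u ≠ 1 →
    (Nat.card P' : ℂ) * sectF p (Subgroup.centralizer ({(u : H)} : Set H)) u
        (blkSet M _ (eU p P' (blk M (Subgroup.centralizer (P' : Set H)) c') u)) χ.1 ψ.1 =
      θ' χ u * conj (θ' ψ u))
  (h : Match θ θ' φ B B' I ε)
include hθ hθ' h

theorem isoPairing_eq_zero (d : Datum M p B P c) (d' : Datum M p B' P' c') [Nonempty (IrrCharacter H)]
    {x : G} {y : H} (hx : ¬ IsPRegular p x) (hy : IsPRegular p y) : isoPairing B' I ε x y = 0 := by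
  obtain ⟨J, hJI, -, -⟩ := h.exists_symm
  have ha : ∀ u : P, u ≠ 1 → ∑ χ ∈ Finset.univ.filter (· ∈ B),
      ((ε (J χ) : ℂ) * (J χ).1 y) * θ χ u = 0 := fun u hu => by
    rw [h.sum, ← d'.sum_theta_mul_regular hθ' (u := φ.symm u) (by simpa using hu) hy]
    refine Finset.sum_congr rfl fun η hη => ?_
    have hη' := (Finset.mem_filter.1 hη).2
    have h1 := h.spec η hη' (φ.symm u) (by simpa using hu)
    rw [MulEquiv.apply_symm_apply] at h1
    rw [hJI η hη', h1]
    rcases h.sign η hη' with e | e <;> rw [e] <;> push_cast <;> ring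
  have h0 := d.apply_singular_eq_zero hθ _ ha (g := x) (not_not.1 hx)
  rw [h.sum] at h0
  refine (Finset.sum_congr rfl fun η hη => ?_).trans h0
  rw [hJI η (Finset.mem_filter.1 hη).2]
  ring

theorem isoPairing_local (S : Shape d θ) (S' : Shape d' θ') (hn : Nat.card P' = Nat.card P)
    (hsep : ∀ (x : G) (y : H), IsPRegular p x → ¬ IsPRegular p y → isoPairing B' I ε x y = 0)
    [Nonempty (IrrCharacter H)] (x : G) (y : H) :
    MemLocalRing M (isoPairing B' I ε x y / (Nat.card (Subgroup.centralizer ({x} : Set G)) : ℂ)) := by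
  have hpM := d.modular.2.2
  obtain ⟨J, hJI, -, -⟩ := h.exists_symm
  by_cases hy : IsPRegular p y
  · by_cases hx : IsPRegular p x
    swap
    · rw [isoPairing_eq_zero hθ hθ' h d d' hx hy, zero_div]; exact memLocalRing_zero
    set a : IrrCharacter G → ℂ := fun χ => if χ ∈ B then (ε (J χ) : ℂ) * (J χ).1 y else 0 with ha
    have hev : ∀ g, ∑ χ, a χ * χ.1 g = isoPairing B' I ε g y := fun g => by
      simp only [ha, ite_mul, zero_mul, ← Finset.sum_filter]
      rw [h.sum]
      refine Finset.sum_congr rfl fun η hη => ?_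
      rw [hJI η (Finset.mem_filter.1 hη).2]
      ring
    rw [← hev x]
    refine BlocksX.Klein.memLocalRing_div_centralizer hpM a (fun χ => ?_) (fun g hg => ?_) x
    · simp only [ha]
      split_ifs
      · exact memLocalRing_of_isIntegral ((isIntegral_algebraMap (x := ε (J χ))).mul
          (CharInt.isIntegral_char (Char.irr_isCharacter (J χ)) y))
      · exact memLocalRing_zero
    · rw [hev]; exact isoPairing_eq_zero hθ hθ' h d d' hg hy
  by_cases hx : IsPRegular p x
  · rw [hsep x y hx hy, zero_div]; exact memLocalRing_zero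
  set U := Finset.univ.filter (fun v : P' => v ≠ 1)
  set A : P' → ℂ := fun v => ∑ ν ∈ Finset.univ.filter (· ∈ B'), conj (θ' ν v) * ν.1 y with hA
  have hexp : ∀ η ∈ B', (Nat.card P' : ℂ) * inIndex M P' c' * η.1 y = ∑ v ∈ U, θ' η v * A v := by
    intro η hη
    have hreg : ∑ ν ∈ Finset.univ.filter (· ∈ B'), regDot p η.1 ν.1 * ν.1 y = 0 := by
      have hf := congrFun (Char.eq_sum_classInner_smul (Char.isClassFunction_regFun p
        (Blocks.irr_classFun η))) y
      rw [Char.regFun, if_pos (not_not.1 hy), Finset.sum_apply] at hf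
      refine Eq.trans ?_ hf.symm
      refine Finset.sum_subset (Finset.subset_univ _) fun ν _ hν => ?_
      rw [regDot_eq_zero hpM hp.out d'.block hη fun e => hν (Finset.mem_filter.2 ⟨Finset.mem_univ _, e⟩),
        zero_mul]
    calc (Nat.card P' : ℂ) * inIndex M P' c' * η.1 y
        = ∑ ν ∈ Finset.univ.filter (· ∈ B'),
          ((Nat.card P' : ℂ) * inIndex M P' c' * (if η = ν then 1 else 0)) * ν.1 y := by
          simp [hη]
      _ = ∑ ν ∈ Finset.univ.filter (· ∈ B'),
          ((Nat.card P' : ℂ) * inIndex M P' c' * (regDot p η.1 ν.1 * ν.1 y) +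
            ∑ v ∈ U, θ' η v * (conj (θ' ν v) * ν.1 y)) := by
          refine Finset.sum_congr rfl fun ν _ => ?_
          rw [d'.identity hθ' hη ν, add_mul, Finset.sum_mul, mul_assoc]
          congr 1
          exact Finset.sum_congr rfl fun v _ => mul_assoc _ _ _
      _ = _ := by
          rw [Finset.sum_add_distrib, ← Finset.mul_sum, hreg, mul_zero, zero_add, Finset.sum_comm]
          simp only [hA, Finset.mul_sum]
  have hmain : (Nat.card P : ℂ) * inIndex M P' c' * isoPairing B' I ε x y =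
      ∑ v ∈ U, A v * ∑ χ ∈ Finset.univ.filter (· ∈ B), θ χ (φ v) * χ.1 x := by
    rw [isoPairing, Finset.mul_sum, Finset.sum_congr rfl fun η hη => show _ =
        (ε η : ℂ) * (I η).1 x * ((Nat.card P' : ℂ) * inIndex M P' c' * η.1 y) by rw [hn]; ring,
      Finset.sum_congr rfl fun η hη => by rw [hexp η (Finset.mem_filter.1 hη).2]]
    simp only [Finset.mul_sum]
    rw [Finset.sum_comm]
    refine Finset.sum_congr rfl fun v hv => ?_
    rw [h.sum]
    refine Finset.sum_congr rfl fun η hη => ?_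
    rw [h.spec η (Finset.mem_filter.1 hη).2 v (Finset.mem_filter.1 hv).2]
    ring
  have hn0 : (Nat.card P : ℂ) ≠ 0 := Nat.cast_ne_zero.2 Nat.card_pos.ne'
  have hE0 : (inIndex M P' c' : ℂ) ≠ 0 := Nat.cast_ne_zero.2 d'.inIndex_pos.ne'
  have hCx : (Nat.card (Subgroup.centralizer ({x} : Set G)) : ℂ) ≠ 0 :=
    Nat.cast_ne_zero.2 Nat.card_pos.ne'
  have hfin : isoPairing B' I ε x y / (Nat.card (Subgroup.centralizer ({x} : Set G)) : ℂ) =
      (inIndex M P' c' : ℂ)⁻¹ * ∑ v ∈ U, (A v / (Nat.card P' : ℂ)) *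
        ((∑ χ ∈ Finset.univ.filter (· ∈ B), θ χ (φ v) * χ.1 x) /
          (Nat.card (Subgroup.centralizer ({x} : Set G)) : ℂ)) := by
    rw [hn, Finset.sum_congr rfl fun v _ => div_mul_div_comm _ _ _ _, ← Finset.sum_div, ← hmain]
    field_simp
  rw [hfin]
  refine MemLocalRing.mul (memLocalRing_inv_natCast hpM d'.not_dvd_inIndex)
    (MemLocalRing.sum _ fun v hv => MemLocalRing.mul
      (S'.conj_theta_sum_local hθ' (Finset.mem_filter.1 hv).2 y).1
      (S.theta_sum_local hθ (by simpa using (Finset.mem_filter.1 hv).2) x))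

theorem isPerfectIsometry_of_match (S : Shape d θ) (S' : Shape d' θ')
    (hn : Nat.card P' = Nat.card P) : IsPerfectIsometry p M B' B I ε := by
  obtain ⟨χ, hχ⟩ := nonempty_of_isPBlock d.block
  obtain ⟨η, hη⟩ := nonempty_of_isPBlock d'.block
  haveI : Nonempty (IrrCharacter H) := ⟨η⟩
  haveI : Nonempty (IrrCharacter G) := ⟨χ⟩
  obtain ⟨J, hJI, -, hJ⟩ := h.exists_symm
  refine ⟨h.bij, h.sign, fun x y => ?_⟩
  have hμ : signedBijectionKernel B' I ε x y = isoPairing B' I ε x y := by
    rw [signedBijectionKernel, isoPairing, finsum_mem_eq_sum_of_inter_support_eq _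
      (t := Finset.univ.filter (· ∈ B')) (by ext; simp)]
  rw [hμ]
  have h1 : ∀ (x : G) (y : H), IsPRegular p x → ¬ IsPRegular p y → isoPairing B' I ε x y = 0 :=
    fun x y hx hy => by
      rw [← isoPairing_symm h hJI x y]
      exact isoPairing_eq_zero hθ' hθ hJ d' d hy hx
  refine ⟨isoPairing_local hθ hθ' h S S' hn h1 x y, ?_, ?_⟩
  · rw [← isoPairing_symm h hJI x y]
    refine isoPairing_local hθ' hθ hJ S' S hn.symm (fun y x hy hx => ?_) y x
    rw [isoPairing_symm h hJI x y]
    exact isoPairing_eq_zero hθ hθ' h d d' hx hy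
  · by_cases hx : IsPRegular p x <;> by_cases hy : IsPRegular p y
    · exact Or.inl (iff_of_true hx hy)
    · exact Or.inr (h1 x y hx hy)
    · exact Or.inr (isoPairing_eq_zero hθ hθ' h d d' hx hy)
    · exact Or.inl (iff_of_false hx hy)

omit h in
/-- Equal order and equal inertial index give a perfect isometry, with one sign on the exceptional
characters. -/
theorem exists_isometry (S : Shape d θ) (S' : Shape d' θ') (hn : Nat.card P' = Nat.card P)
    (hE : inIndex M P' c' = inIndex M P c) :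
    ∃ (I : IrrCharacter H → IrrCharacter G) (ε : IrrCharacter H → ℤ),
      IsPerfectIsometry p M B' B I ε ∧ (∀ η ∈ S'.Y, ε η = S'.sgn₀ * S.sgn₀) ∧
      ∀ η ∈ S'.X, ∃ χ ∈ S.X, ε η = S'.sgn η * S.sgn χ := by
  obtain ⟨χ₀, -⟩ := S.nonempty_X
  haveI : IsCyclic P := d.cyc
  haveI : IsCyclic P' := d'.cyc
  let φ : P' ≃* P := mulEquivOfCyclicCardEq hn
  let eX : S'.X ≃ S.X := Finset.equivOfCardEq (by rw [S'.card_X, S.card_X, hE])
  have hex : ∀ ψ' ∈ S'.Y, ∃ ψ ∈ S.Y, compIrr φ.symm (S'.chr ψ') ∈ d.cls (S.chr ψ) := fun ψ' hψ' =>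
    S.chr_surj _ fun e => S'.chr_ne ψ' hψ' ((compIrr φ.symm).injective (e.trans
      (Subtype.ext (funext fun _ => rfl))))
  haveI : Nonempty (IrrCharacter G) := ⟨χ₀⟩
  choose! fY hfY hfcls using hex
  have hinj : Set.InjOn fY S'.Y := fun a ha b hb e => by
    have h1 := d.mem_cls_symm (hfcls a ha)
    have h2 := hfcls b hb
    rw [← e] at h2
    have hne : compIrr φ.symm (S'.chr a) ≠ Char.trivialChar P := fun e => S'.chr_ne a ha
      ((compIrr φ.symm).injective (e.trans (Subtype.ext (funext fun _ => rfl))))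
    have h3 := (Datum.cls_map d d' hE φ hne).2 (d.mem_cls_trans h1 h2)
    have e1 : ∀ l : IrrCharacter P', compIrr φ (compIrr φ.symm l) = l :=
      fun l => Subtype.ext (funext fun u => by simp)
    rw [e1, e1] at h3
    exact (S'.chr_inj a ha b hb h3).symm
  have hcard : S'.Y.card = S.Y.card := by
    have h1 := S.card_Y
    have h2 := S'.card_Y
    rw [hE, hn] at h2
    exact Nat.eq_of_mul_eq_mul_right d.inIndex_pos (by omega)
  have himg : S'.Y.image fY = S.Y := Finset.eq_of_subset_of_card_le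
    (Finset.image_subset_iff.2 hfY) (by rw [Finset.card_image_of_injOn hinj, hcard])
  let I : IrrCharacter H → IrrCharacter G := fun η =>
    if hη : η ∈ S'.X then (eX ⟨η, hη⟩).1 else if η ∈ S'.Y then fY η else χ₀
  let ε : IrrCharacter H → ℤ := fun η =>
    if η ∈ S'.Y then S'.sgn₀ * S.sgn₀ else S'.sgn η * S.sgn (I η)
  have hIX : ∀ η (hη : η ∈ S'.X), I η = (eX ⟨η, hη⟩).1 := fun η hη => dif_pos hη
  have hIX' : ∀ η ∈ S'.X, I η ∈ S.X := fun η hη => hIX η hη ▸ (eX ⟨η, hη⟩).2
  have hIY : ∀ η ∈ S'.Y, I η = fY η := fun η hη => by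
    simp [I, S'.notMem_X hη, hη]
  have hεX : ∀ η ∈ S'.X, ε η = S'.sgn η * S.sgn (I η) := fun η hη => if_neg (S'.notMem_Y hη)
  have hεY : ∀ η ∈ S'.Y, ε η = S'.sgn₀ * S.sgn₀ := fun η hη => if_pos hη
  have hm : Match θ θ' φ B B' I ε := by
    refine ⟨⟨fun η hη => ?_, fun a ha b hb e => ?_, fun χ hχ => ?_⟩, fun η hη => ?_, fun η hη u hu => ?_⟩
    · rcases (S'.mem_iff η).1 hη with h | h
      · exact S.mem_X (hIX' η h)
      · exact S.mem_Y (hIY η h ▸ hfY η h)
    · rcases (S'.mem_iff a).1 ha with h | h <;> rcases (S'.mem_iff b).1 hb with h' | h'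
      · rw [hIX a h, hIX b h'] at e
        exact congrArg Subtype.val (eX.injective (Subtype.ext e))
      · exact absurd (e ▸ hIX' a h) (S.notMem_X (hIY b h' ▸ hfY b h'))
      · exact absurd (e.symm ▸ hIX' b h') (S.notMem_X (hIY a h ▸ hfY a h))
      · rw [hIY a h, hIY b h'] at e
        exact hinj h h' e
    · rcases (S.mem_iff χ).1 hχ with h | h
      · refine ⟨(eX.symm ⟨χ, h⟩).1, S'.mem_X (eX.symm ⟨χ, h⟩).2, ?_⟩
        rw [hIX _ (eX.symm ⟨χ, h⟩).2]
        simp
      · rw [← himg] at h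
        obtain ⟨η, hη, rfl⟩ := Finset.mem_image.1 h
        exact ⟨η, S'.mem_Y hη, hIY η hη⟩
    · rcases (S'.mem_iff η).1 hη with h | h
      · rw [hεX η h]
        rcases S'.sgn_unit η h with e | e <;> rcases S.sgn_unit _ (hIX' η h) with e' | e' <;> simp [e, e']
      · rw [hεY η h]
        rcases S'.sgn₀_unit with e | e <;> rcases S.sgn₀_unit with e' | e' <;> simp [e, e']
    · have hu' : φ u ≠ 1 := by simpa using hu
      rcases (S'.mem_iff η).1 hη with h | h
      · rw [hεX η h, S.theta_X _ (hIX' η h) _ hu', S'.theta_X _ h u hu]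
        rcases S'.sgn_unit η h with e | e <;> simp [e]
      · rw [hεY η h, hIY η h, S.theta_Y _ (hfY η h) _ hu', S'.theta_Y _ h u hu]
        have hne : compIrr φ.symm (S'.chr η) ≠ Char.trivialChar P := fun e => S'.chr_ne η h
          ((compIrr φ.symm).injective (e.trans (Subtype.ext (funext fun _ => rfl))))
        have hsum : ∑ v ∈ d'.orb u, (S'.chr η).1 v = ∑ w ∈ d.orb (φ u), (S.chr (fY η)).1 w := by
          have hc := hfcls η h
          have hcls : d.cls (compIrr φ.symm (S'.chr η)) = d.cls (S.chr (fY η)) := by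
            ext m
            exact ⟨fun hm => d.mem_cls_trans hc hm, fun hm => d.mem_cls_trans (d.mem_cls_symm hc) hm⟩
          rw [← d.sum_cls_apply (S.chr_ne _ (hfY η h)) hu', ← hcls, d.sum_cls_apply hne hu']
          refine Finset.sum_nbij' φ φ.symm (fun v hv => (Datum.orb_map d d' hE φ hu).1 hv)
            (fun w hw => (Datum.orb_map d d' hE φ hu).2 (by simpa using hw))
            (fun v _ => φ.symm_apply_apply v) (fun w _ => φ.apply_symm_apply w) fun v _ => by simp
        rw [hsum]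
        rcases S'.sgn₀_unit with e | e <;> simp [e]
  exact ⟨I, ε, isPerfectIsometry_of_match hθ hθ' hm S S' hn, hεY,
    fun η hη => ⟨I η, hIX' η hη, hεX η hη⟩⟩

end Cfsg.Agent.Blocks.CyclicDefect
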