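import Cfsg.Agent.Lib.Blocks.NilpotentRank.Bijection
import Cfsg.Agent.Lib.Char.Linear

/-!
# The normalized contributions of a nilpotent block with abelian defect group

For a maximal pair `(P, e)` of a nilpotent block with `P` abelian there are linear characters
`lam χ` of `P` with `TT χ ψ v = lam χ v * conj (lam ψ v)`; they are pairwise distinct.
-/

set_option autoImplicit false
set_option linter.unusedSectionVars false
set_option linter.style.haveILetI false

namespace Cfsg.Agent.Blocks.NilRank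

open Cfsg Blocks
open Cfsg.Agent.BrauerPairs (blk blkG regDot IsMax IsPair PLE conjEl conjPair IsNilpotentPairs hasBlocks)
open scoped Classical ComplexConjugate

universe u

variable {G : Type u} [Group G] [Fintype G] {M : Ideal AlgInt} [M.IsMaximal] {p : ℕ}
  [hp : Fact p.Prime] [CharP (AlgInt ⧸ M) p] {B : Set (IrrCharacter G)} {P : Subgroup G}
  {e : MonoidAlgebra (AlgInt ⧸ M) G}

theorem TT_one_nonneg (hpM : (p : AlgInt) ∈ M) (hB : IsPBlock M B)
    (hnil : IsNilpotentPairs p (blkG M B)) {χ₀ : IrrCharacter G} (hd : RankData M p B P e χ₀)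
    {χ : IrrCharacter G} (hχ : χ ∈ B) :
    ∃ q : ℝ, 0 ≤ q ∧ TT p P e χ.1 χ₀.1 1 = q := by
  obtain ⟨hl, hT, -⟩ := rank_eq_one hpM hB hnil hd
  rw [TT_one hpM hB hd.isMax hnil hd.mem, regDot] at hT
  refine ⟨(Char.degree χ : ℝ) / Char.degree χ₀, by positivity, ?_⟩
  rw [TT_one hpM hB hd.isMax hnil hχ, regDot,
    BrauerPairs.regFun_eq_smul_of_rank_one hp.out hl hd.mem hχ, Char.classInner_smul_left,
    Char.apply_one_eq_degree, Char.apply_one_eq_degree]
  push_cast
  linear_combination ((Char.degree χ : ℂ) / Char.degree χ₀) * hT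

/-- The contribution of a nilpotent block to its height zero base point is a linear character. -/
theorem exists_monoidHom_TT (hM : IsPModular p M) (hnil : IsNilpotentBlock p M B)
    {χ₀ : IrrCharacter G} (hd : RankData M p B P e χ₀) (hcomm : ∀ x y : P, x * y = y * x)
    {χ : IrrCharacter G} (hχ : χ ∈ B) :
    ∃ lam : P →* ℂ, ∀ v : P, TT p P e χ.1 χ₀.1 v = lam v := by
  have hpM := hM.2.2
  have hB := hnil.1
  have hnilp := (BrauerPairs.isNilpotentBlock_iff hB).1 hnil
  have hmax := hd.isMax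
  have hPp : IsPGroup p P := hmax.1.1.1
  obtain ⟨-, -, hnorm⟩ := rank_eq_one hpM hB hnilp hd
  obtain ⟨D, hD⟩ := hPp.exists_card_eq
  let T : P → ℂ := fun v => TT p P e χ.1 χ₀.1 v
  have hcl : IsClassFunction P T := fun c a => by
    rw [hcomm a c, mul_assoc, mul_inv_cancel, mul_one]
  -- integrality of the coefficients
  have hint : ∀ lam : IrrCharacter P, ∃ z : ℤ, classInner T lam.1 = z := by
    intro lam
    have hlam : IsCharacter P lam.1 := Char.irr_isCharacter lam
    have hcen : ∀ v : P, Subgroup.centralizer ({v} : Set P) = ⊤ := fun v =>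
      (centralizer_eq_top_iff v).2 fun w => hcomm v w
    have hR : MemLocalRing M ((∑ v : P, T v * conj (lam.1 v)) / (Nat.card P : ℂ)) := by
      refine hd.pairing χ hχ (fun v => conj (lam.1 v))
        (IsTraceFun.of_character (Char.IsCharacter.conj hlam))
        (fun v => memLocalRing_char (Char.IsCharacter.conj hlam) v)
        ⟨fun v => conj (zScal lam.1 v), fun v _ w _ => ?_, fun v _ => ?_⟩
      · show conj (zScal lam.1 (v * w)) = conj (zScal lam.1 v) * conj (zScal lam.1 w)
        rw [zScal_mul (hcen v), map_mul]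
      · show conj (lam.1 v) = conj (zScal lam.1 v) * conj (lam.1 1)
        rw [← map_mul]
        congr 1
        simpa using apply_zmul (hcen v) lam 1
    choose n μ _ hμ hμp using fun v : P => CharInt.exists_roots hlam v⁻¹
    let f : ℕ → ℂ := fun t => ∑ v : P, Tof M p (Subgroup.centralizer ({(v : G)} : Set G))
      ((v : G) ^ t) (eU p P e v) χ.1 χ₀.1 * lam.1 (v⁻¹ ^ t)
    have hf1 : f 1 = ∑ v : P, T v * conj (lam.1 v) := Finset.sum_congr rfl fun v _ => by
      simp only [pow_one, T]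
      rw [Char.IsCharacter.conj_apply hlam]
      rfl
    have hfinv : ∀ t, ¬ p ∣ t → f t = f 1 := fun t ht => by
      rw [hf1]
      calc f t = ∑ v : P, T (v ^ t) * conj (lam.1 (v ^ t)) := Finset.sum_congr rfl fun v _ => by
            rw [Char.IsCharacter.conj_apply hlam, ← inv_pow]
            simp only [T, SubmonoidClass.coe_pow, TT_pow hmax.1.1 v.2 ht]
        _ = _ := sum_pow_comp hPp ht fun v : P => T v * conj (lam.1 v)
    have htw : IsTw (p ^ D * p) f := by
      rw [← hD]
      refine IsTw.sum fun v => IsTw.mul (isTw_Tof hpM hmax.1.1 v.2 χ χ₀) ?_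
      refine IsTw.of_fintype (fun _ : Fin (n v) => (1 : ℤ)) (μ v) (fun i => ?_) fun t => ?_
      · obtain ⟨c, hc⟩ : orderOf (v⁻¹ : P) ∣ Nat.card P * p :=
          Dvd.dvd.mul_right (orderOf_dvd_natCard _) p
        show μ v i ^ (Nat.card P * p) = 1
        rw [hc, pow_mul, hμ, one_pow]
      · show lam.1 (v⁻¹ ^ t) = _
        rw [hμp v t]
        simp
    obtain ⟨z, hz⟩ := IsTw.exists_int (k := D) hp.out htw hfinv
    rw [hf1] at hz
    rw [hz, Char.memLocalRing_intCast_div_iff hpM z Nat.card_pos.ne', hD,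
      hp.out.factorization_pow, Finsupp.single_eq_same] at hR
    obtain ⟨w, rfl⟩ := hR
    refine ⟨w, ?_⟩
    rw [classInner, hz, hD]
    push_cast
    rw [← mul_assoc, inv_mul_cancel₀ (pow_ne_zero _ (Nat.cast_ne_zero.2 hp.out.ne_zero)), one_mul]
  choose c hc using hint
  have hexp : T = ∑ lam : IrrCharacter P, (c lam : ℂ) • lam.1 := by
    conv_lhs => rw [Char.eq_sum_classInner_smul hcl]
    simp only [hc]
  have hsq : ∑ lam : IrrCharacter P, c lam ^ 2 = 1 := by
    have h1 : classInner T T = 1 := by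
      rw [classInner, Finset.sum_congr rfl fun v (_ : v ∈ (Finset.univ : Finset P)) =>
        show T v * conj (T v) = TT p P e χ.1 χ₀.1 v * TT p P e χ.1 χ₀.1 (v : G)⁻¹ by
          rw [TT_inv hpM hmax.1.1 v.2],
        hnorm χ hχ, inv_mul_cancel₀ (Nat.cast_ne_zero.2 Nat.card_pos.ne')]
    conv_lhs at h1 => arg 2; rw [hexp]
    rw [Char.classInner_sum_right] at h1
    simp only [Char.classInner_smul_right, hc, map_intCast, ← pow_two] at h1
    exact_mod_cast h1
  obtain ⟨lam, -, hlam⟩ := Finset.exists_ne_zero_of_sum_ne_zero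
    (show (∑ lam : IrrCharacter P, c lam ^ 2) ≠ 0 by rw [hsq]; norm_num)
  have hle := Finset.single_le_sum (fun μ _ => sq_nonneg (c μ)) (Finset.mem_univ lam)
  rw [hsq] at hle
  have h1 : c lam ^ 2 = 1 := le_antisymm hle (by have := sq_nonneg (c lam); omega)
  have hT : T = (c lam : ℂ) • lam.1 := by
    rw [hexp, Finset.sum_eq_single lam]
    · intro μ _ hμ
      have h2 : ∑ ν ∈ Finset.univ.erase lam, c ν ^ 2 = 0 := by
        have := Finset.add_sum_erase _ (fun ν => c ν ^ 2) (Finset.mem_univ lam)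
        simp only [h1, hsq] at this
        omega
      have h3 := (Finset.sum_eq_zero_iff_of_nonneg fun ν _ => sq_nonneg (c ν)).1 h2 μ
        (Finset.mem_erase.2 ⟨hμ, Finset.mem_univ _⟩)
      rw [eq_zero_of_pow_eq_zero h3, Int.cast_zero, zero_smul]
    · exact fun h => absurd (Finset.mem_univ _) h
  obtain ⟨φ, hφ⟩ := Char.IsCharacter.exists_monoidHom (Char.irr_isCharacter lam)
    (Char.apply_one_of_comm hcomm lam)
  obtain ⟨q, hq0, hq⟩ := TT_one_nonneg hpM hB hnilp hd hχ
  have hc1 : (c lam : ℂ) = q := by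
    have := congrFun hT 1
    rw [Pi.smul_apply, smul_eq_mul, ← hφ, map_one, mul_one] at this
    rw [← this, ← hq]
    rfl
  have hc0 : c lam = 1 := by
    have h : ((c lam : ℤ) : ℝ) = q := by exact_mod_cast hc1
    have h0 : (0 : ℤ) ≤ c lam := by exact_mod_cast h ▸ hq0
    nlinarith
  refine ⟨φ, fun v => ?_⟩
  show T v = _
  rw [hT, hc0, hφ, Int.cast_one, one_smul]

/-- The linear parametrisation. -/
theorem exists_linear_param (hM : IsPModular p M) (hnil : IsNilpotentBlock p M B)
    (ha : IsMax p (blkG M B) (P, e)) (hcomm : ∀ x y : P, x * y = y * x) :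
    ∃ lam : IrrCharacter G → (P →* ℂ), Set.InjOn lam B ∧ ∀ χ ∈ B, ∀ ψ ∈ B, ∀ v : P,
      TT p P e χ.1 ψ.1 v = lam χ v * conj (lam ψ v) := by
  have hpM := hM.2.2
  have hB := hnil.1
  have hblk : ∀ H : Subgroup G, BrauerPairs.HasBlocks (AlgInt ⧸ M) H := fun H => hasBlocks M H
  have hnilp := (BrauerPairs.isNilpotentBlock_iff hB).1 hnil
  have hBi := BrauerPairs.isBlockIdem_blkG (M := M) hB
  obtain ⟨e', χ₀, hd⟩ := exists_rankData_of_nilpotent hM hnil (BrauerPairs.isDefectGroup_of_isMax hB ha)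
  have hmax := hd.isMax
  -- the pairs are conjugate
  obtain ⟨g, hg⟩ := BrauerPairs.exists_conj_ple hblk hBi ha hmax.1
  have hgP : P.map (MulAut.conj g).toMonoidHom = P :=
    Subgroup.eq_of_le_of_card_ge hg.le (BrauerPairs.card_map_conj g P).ge
  have hge : conjPair g (P, e') = (P, e) := Prod.ext hgP (congrArg Prod.snd (hg.eq_of_fst_eq hgP))
  have hmemg : ∀ v ∈ P, g * v * g⁻¹ ∈ P := fun v hv => hgP.le ⟨v, hv, rfl⟩
  have htr : ∀ v ∈ P, ∀ χ ψ : IrrCharacter G,
      TT p P e χ.1 ψ.1 (g * v * g⁻¹) = TT p P e' χ.1 ψ.1 v := by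
    intro v hv χ ψ
    have heU : eU p P e (g * v * g⁻¹) = conjEl g (eU p P e' v) := by
      refine eU_eq ha.1.1 (hmemg v hv) ?_
      have h := (eU_spec hmax.1.1 hv).conj g
      rw [hge, show conjPair g (Subgroup.zpowers v, eU p P e' v) =
        (Subgroup.zpowers (g * v * g⁻¹), conjEl g (eU p P e' v)) from
          Prod.ext (map_conj_zpowers g v) rfl] at h
      exact h
    have hH : ∀ c, c ∈ Subgroup.centralizer ({g * v * g⁻¹} : Set G) ↔
        g⁻¹ * c * g ∈ Subgroup.centralizer ({v} : Set G) := fun c => by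
      simp only [Subgroup.mem_centralizer_singleton_iff]
      constructor
      · intro h
        have := congrArg (fun y => g⁻¹ * y * g) h
        simpa [mul_assoc] using this
      · intro h
        have := congrArg (fun y => g * y * g⁻¹) h
        simpa [mul_assoc] using this
    have hinf : ∀ w ∈ P, P ⊓ Subgroup.centralizer ({w} : Set G) = P := fun w hw =>
      inf_eq_left.2 fun x hx => Subgroup.mem_centralizer_singleton_iff.2
        (congrArg Subtype.val (hcomm ⟨x, hx⟩ ⟨w, hw⟩))
    unfold TT Tof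
    rw [pow_blockDefect_eU hpM hB ha hnilp (hmemg v hv), pow_blockDefect_eU hpM hB hmax hnilp hv,
      hinf _ hv, hinf _ (hmemg v hv), heU, blkSet_conj hmax.1.1 hv g hH, sectF_conj g hH]
  choose! φ hφ using fun χ (hχ : χ ∈ B) => exists_monoidHom_TT hM hnil hd hcomm hχ
  have hfac : ∀ χ ∈ B, ∀ ψ ∈ B, ∀ v : P, TT p P e' χ.1 ψ.1 v = φ χ v * conj (φ ψ v) := by
    intro χ hχ ψ hψ v
    obtain ⟨k, hk⟩ := exists_orderOf_mem hmax.1.1.1 v.2
    have hind := isInducedBlock_eU hpM hB hmax.1 v.2
    have hl := blockRank_eq_one_of_nilpotent hM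
      (isNilpotentBlock_centralizer hM hnil ⟨k, hk⟩ hind)
    have h0 := TT_self_eq_one hpM hB hmax hnilp hd.mem hd.height v.2
    have hf := contribution_rank_one hpM hind.1 hl χ ψ χ₀
    rw [← hφ χ hχ v, ← hφ ψ hψ v, conj_TT hpM hmax.1.1 v.2]
    simp only [TT_eq_contribution] at h0 ⊢
    linear_combination
      ((p ^ blockDefect p (blkSet M (Subgroup.centralizer ({(v : G)} : Set G)) (eU p P e' v)) : ℕ) : ℂ) ^ 2
        * hf -
      ((p ^ blockDefect p (blkSet M (Subgroup.centralizer ({(v : G)} : Set G)) (eU p P e' v)) : ℕ) : ℂ) *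
        contribution p (blkSet M (Subgroup.centralizer ({(v : G)} : Set G)) (eU p P e' v)) χ.1 ψ.1
        * h0
  have hinj : ∀ χ ∈ B, ∀ ψ ∈ B, φ χ = φ ψ → χ = ψ := by
    intro χ hχ ψ hψ heq
    by_contra hne
    have h := sum_TT hpM hB hmax hnilp hχ ψ
    rw [Char.classInner_irr, if_neg hne, mul_zero,
      Finset.sum_congr rfl fun v _ => hfac χ hχ ψ hψ v, heq] at h
    simp only [Char.normSq_linear, Finset.sum_const, Finset.card_univ, nsmul_one, Nat.cast_eq_zero] at h
    exact Fintype.card_ne_zero h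
  let κ : P →* P :=
    { toFun := fun v => ⟨g⁻¹ * v * g, by
        obtain ⟨w, hw, hw'⟩ := hgP.ge v.2
        rw [← hw']
        show g⁻¹ * (g * w * g⁻¹) * g ∈ P
        simpa [mul_assoc] using hw⟩
      map_one' := Subtype.ext (by simp)
      map_mul' := fun a b => Subtype.ext (by simp [mul_assoc]) }
  refine ⟨fun χ => (φ χ).comp κ, fun χ hχ ψ hψ h => hinj χ hχ ψ hψ (MonoidHom.ext fun v => ?_),
    fun χ hχ ψ hψ v => ?_⟩
  · have := DFunLike.congr_fun h (⟨g * v * g⁻¹, hmemg v v.2⟩ : P)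
    simpa [κ, mul_assoc] using this
  · show _ = φ χ (κ v) * conj (φ ψ (κ v))
    rw [← hfac χ hχ ψ hψ, ← htr _ (κ v).2]
    simp [κ, mul_assoc]

end Cfsg.Agent.Blocks.NilRank
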