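import Cfsg.Agent.Lib.Blocks.CyclicDefect.StableExist

/-!
# Endomorphisms of the local part of an irreducible module

`H ≤ N` and `P ≤ H`; `f` is an idempotent fixed by `H`, a relative trace from `P`, orthogonal to
its conjugates by `N ∖ H`, and `P` meets its conjugates by elements outside `N` trivially. On an
irreducible module every `H`-endomorphism of the image of `f` is a scalar modulo traces from `1`.
-/

set_option autoImplicit false
set_option linter.unusedSectionVars false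
set_option linter.style.haveILetI false

namespace Cfsg.Agent.Blocks.CyclicDefect

open MonoidAlgebra
open Cfsg.Agent.BrauerPairs (conjEl fixedBy relTr)
open scoped Classical

universe u v w

variable {k : Type w} [Field k] {G : Type u} [Group G] [Finite G]
  {S : Type v} [AddCommGroup S] [Module k S]

theorem exists_free_sum {P X : Type*} [Group P] [Fintype P] [MulAction P X] {N : Type*}
    [AddCommGroup N] (c : P → N →+ N) (F : X → N) (hF : ∀ u x, F (u • x) = c u (F x))
    (s : Finset X) : (∀ u : P, ∀ x ∈ s, u • x ∈ s) → (∀ u : P, ∀ x ∈ s, u • x = x → u = 1) →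
      ∃ Z, ∑ x ∈ s, F x = ∑ u : P, c u Z := by
  induction s using Finset.strongInduction with
  | _ s ih =>
    intro hinv hfree
    rcases s.eq_empty_or_nonempty with rfl | ⟨x, hx⟩
    · exact ⟨0, by simp⟩
    set o := Finset.univ.image fun u : P => u • x with ho
    have hos : o ⊆ s := fun y hy => by
      obtain ⟨u, -, rfl⟩ := Finset.mem_image.1 hy
      exact hinv u x hx
    have hxo : x ∈ o := Finset.mem_image.2 ⟨1, Finset.mem_univ _, one_smul P x⟩
    have hinj : Function.Injective fun u : P => u • x := fun u v h => by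
      have h' : v⁻¹ • (u • x) = v⁻¹ • (v • x) := congrArg (v⁻¹ • ·) h
      rw [smul_smul, inv_smul_smul] at h'
      exact (inv_mul_eq_one.1 (hfree _ x hx h')).symm
    obtain ⟨Z, hZ⟩ := ih (s \ o) (Finset.sdiff_ssubset hos ⟨x, hxo⟩) (fun u y hy => by
      obtain ⟨hys, hyo⟩ := Finset.mem_sdiff.1 hy
      refine Finset.mem_sdiff.2 ⟨hinv u y hys, fun h => hyo ?_⟩
      obtain ⟨v, -, hv⟩ := Finset.mem_image.1 h
      exact Finset.mem_image.2 ⟨u⁻¹ * v, Finset.mem_univ _, by rw [mul_smul, hv, inv_smul_smul]⟩)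
      (fun u y hy => hfree u y (Finset.mem_sdiff.1 hy).1)
    refine ⟨Z + F x, ?_⟩
    rw [← Finset.sum_sdiff hos, hZ]
    simp only [map_add, Finset.sum_add_distrib]
    congr 1
    rw [ho, Finset.sum_image fun u _ v _ h => hinj h]
    exact Finset.sum_congr rfl fun u _ => hF u x

theorem trMap_sum_eq {P H : Subgroup G} (hPH : P ≤ H) [Fintype H] [Fintype P]
    (ρ : Representation k G S) (Y : S →ₗ[k] S) :
    trMap P H ρ ρ (∑ u : P, cjMap ρ ρ (u : G) Y) = ∑ h : H, cjMap ρ ρ (h : G) Y := by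
  letI := Fintype.ofFinite (H ⧸ P.subgroupOf H)
  letI := Fintype.ofFinite (P.subgroupOf H)
  rw [sum_cosets (P.subgroupOf H) (fun h : H => cjMap ρ ρ (h : G) Y), trMap]
  refine Finset.sum_congr rfl fun q _ => ?_
  rw [cjMap_sum]
  refine Fintype.sum_equiv (Subgroup.subgroupOfEquivOfLe hPH).symm.toEquiv _ _ fun u => ?_
  rw [← cjMap_mul]
  rfl

set_option maxHeartbeats 800000 in
/-- The Mackey decomposition on the local part. -/
theorem exists_scalar_mod_trOne [IsAlgClosed k] [FiniteDimensional k S] {P H N : Subgroup G}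
    (hPH : P ≤ H) (hHN : H ≤ N) {f aP : MonoidAlgebra k G} (hf : f ∈ fixedBy k H) (hff : f * f = f)
    (haP : aP ∈ fixedBy k P) (hrel : relTr P H aP = f)
    (hout : ∀ g ∈ N, g ∉ H → f * conjEl g f = 0)
    (hTI : ∀ g : G, g ∉ N → ∀ u ∈ P, g⁻¹ * u * g ∈ P → u = 1)
    {ρ : Representation k G S} (hρ : Irr ρ) {ψ : S →ₗ[k] S} (hψ : IntwOn H ρ ρ ψ)
    (hψl : (ρ.asAlgebraHom f).comp ψ = ψ) (hψr : ψ.comp (ρ.asAlgebraHom f) = ψ) :
    ∃ c : k, TrOne (res H ρ) (res H ρ) (c • ρ.asAlgebraHom f - ψ) := by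
  letI := Fintype.ofFinite G
  letI := Fintype.ofFinite H
  letI := Fintype.ofFinite P
  letI := Fintype.ofFinite ((⊤ : Subgroup G) ⧸ P.subgroupOf ⊤)
  letI := Fintype.ofFinite (H ⧸ P.subgroupOf H)
  set F := ρ.asAlgebraHom f with hFdef
  set Aa := ρ.asAlgebraHom aP
  have hFH : IntwOn H ρ ρ F := intwOn_asAlgebraHom ρ hf
  have hAP : IntwOn P ρ ρ Aa := intwOn_asAlgebraHom ρ haP
  have hFF : F.comp F = F := by
    rw [← Module.End.mul_eq_comp, hFdef, ← map_mul, hff]
  have hFA : F = trMap P H ρ ρ Aa := by rw [hFdef, ← hrel, asAlgebraHom_relTr]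
  set ψ0 := (F.comp ψ).comp (Aa.comp F) with hψ0
  have hψ0P : IntwOn P ρ ρ ψ0 :=
    ((hFH.mono hPH).comp hAP).comp ((hψ.mono hPH).comp (hFH.mono hPH))
  have htr0 : trMap P H ρ ρ ψ0 = ψ := by
    rw [hψ0, ← trMap_comp_left _ (hψ.comp hFH), ← trMap_comp_right hFH, ← hFA, hFF, hψl, hψr]
  obtain ⟨c, hc⟩ := schur_scalar hρ (intwOn_top.1 (intwOn_trMap (H := ⊤) hψ0P))
  refine ⟨c, ?_⟩
  set X : ((⊤ : Subgroup G) ⧸ P.subgroupOf ⊤) → Module.End k S :=
    fun q => cjMap ρ ρ ((q.out : (⊤ : Subgroup G)) : G) ψ0 with hX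
  let val : ((⊤ : Subgroup G) ⧸ P.subgroupOf ⊤) → G := fun q => ((q.out : (⊤ : Subgroup G)) : G)
  have hmain : c • F - ψ = F.comp ((∑ q ∈ Finset.univ.filter (fun q => val q ∉ N), X q).comp F) := by
    have hT : F.comp ((trMap P ⊤ ρ ρ ψ0).comp F) = c • F := by
      rw [hc, LinearMap.smul_comp, LinearMap.id_comp, LinearMap.comp_smul, hFF]
    have hsplit : trMap P ⊤ ρ ρ ψ0 = (∑ q ∈ Finset.univ.filter (fun q => val q ∈ H), X q) +
        ((∑ q ∈ Finset.univ.filter (fun q => val q ∈ N ∧ val q ∉ H), X q) +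
          ∑ q ∈ Finset.univ.filter (fun q => val q ∉ N), X q) := by
      rw [← Finset.sum_union (Finset.disjoint_filter.2 fun q _ h => not_not.2 h.1),
        ← Finset.filter_or, trMap]
      rw [← Finset.sum_filter_add_sum_filter_not Finset.univ (fun q => val q ∈ H)]
      congr 1
      refine Finset.sum_congr (Finset.filter_congr fun q _ => ?_) fun _ _ => rfl
      constructor
      · intro h
        by_cases hN : val q ∈ N
        · exact Or.inl ⟨hN, h⟩
        · exact Or.inr hN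
      · rintro (h | h)
        · exact h.2
        · exact fun hH => h (hHN hH)
    have h1 : ∑ q ∈ Finset.univ.filter (fun q => val q ∈ H), X q = ψ := by
      rw [← htr0, trMap]
      symm
      let j : H ⧸ P.subgroupOf H → (⊤ : Subgroup G) ⧸ P.subgroupOf ⊤ := fun q =>
        ((⟨((q.out : H) : G), Subgroup.mem_top _⟩ : (⊤ : Subgroup G)) : (⊤ : Subgroup G) ⧸ P.subgroupOf ⊤)
      have hj : ∀ q, ((q.out : H) : G)⁻¹ * val (j q) ∈ P := fun q => by
        have h := QuotientGroup.out_eq' (j q)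
        exact Subgroup.mem_subgroupOf.1 (QuotientGroup.eq.1 h.symm)
      refine Finset.sum_bij (fun q _ => j q) (fun q _ => Finset.mem_filter.2 ⟨Finset.mem_univ _, ?_⟩)
        (fun a _ b _ h => ?_) (fun q hq => ?_) fun q _ => ?_
      · have := mul_mem (q.out : H).2 (hPH (hj q))
        rwa [mul_inv_cancel_left] at this
      · rw [← QuotientGroup.out_eq' a, ← QuotientGroup.out_eq' b]
        have h' := Subgroup.mem_subgroupOf.1 (QuotientGroup.eq.1 (show j a = j b from h))
        exact QuotientGroup.eq.2 (Subgroup.mem_subgroupOf.2 h')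
      · have hqH := (Finset.mem_filter.1 hq).2
        refine ⟨((⟨val q, hqH⟩ : H) : H ⧸ P.subgroupOf H), Finset.mem_univ _, ?_⟩
        conv_rhs => rw [← QuotientGroup.out_eq' q]
        refine QuotientGroup.eq.2 ?_
        have h := QuotientGroup.eq.1
          (QuotientGroup.out_eq' ((⟨val q, hqH⟩ : H) : H ⧸ P.subgroupOf H))
        exact h
      · exact cjMap_eq_of_quotient_eq (h := ⟨_, Subgroup.mem_top _⟩) hψ0P
          (QuotientGroup.out_eq' (j q)).symm
    have h2 : ∀ q, val q ∈ N → val q ∉ H → F.comp ((X q).comp F) = 0 := fun q hN hH => by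
      have h3 : F.comp (cjMap ρ ρ (val q) F) = 0 := by
        rw [hFdef, ← asAlgebraHom_conjEl, ← Module.End.mul_eq_comp, ← map_mul, hout _ hN hH, map_zero]
      simp only [hX, hψ0, cjMap_comp ρ ρ ρ]
      change F.comp (((cjMap ρ ρ (val q) F).comp (cjMap ρ ρ (val q) ψ)).comp
        ((cjMap ρ ρ (val q) Aa).comp (cjMap ρ ρ (val q) F)) |>.comp F) = 0
      simp only [← LinearMap.comp_assoc, h3, LinearMap.zero_comp]
    rw [← hT, hsplit, h1, LinearMap.add_comp, LinearMap.comp_add, LinearMap.add_comp, LinearMap.comp_add,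
      hψr, hψl, add_sub_cancel_left]
    conv_lhs => arg 1; rw [sum_comp', comp_sum', Finset.sum_eq_zero fun q hq =>
      h2 q (Finset.mem_filter.1 hq).2.1 (Finset.mem_filter.1 hq).2.2]
    rw [zero_add]
  -- the free part
  letI : MulAction P ((⊤ : Subgroup G) ⧸ P.subgroupOf ⊤) :=
    MulAction.compHom _ (Subgroup.inclusion (le_top : P ≤ ⊤))
  have hval : ∀ (u : P) q, ∃ v ∈ P, val (u • q) = (u : G) * val q * v := fun u q => by
    refine ⟨((u : G) * val q)⁻¹ * val (u • q), ?_, (mul_inv_cancel_left _ _).symm⟩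
    have h : (((Subgroup.inclusion (le_top : P ≤ ⊤) u) * q.out : (⊤ : Subgroup G)) :
        (⊤ : Subgroup G) ⧸ P.subgroupOf ⊤) = ((u • q).out : (⊤ : Subgroup G)) := by
      rw [QuotientGroup.out_eq']
      conv_rhs => rw [← QuotientGroup.out_eq' q]
      rfl
    exact Subgroup.mem_subgroupOf.1 (QuotientGroup.eq.1 h)
  have hPN : P ≤ N := hPH.trans hHN
  obtain ⟨Z, hZ⟩ := exists_free_sum (P := P)
    (fun u => { toFun := cjMap ρ ρ (u : G), map_zero' := by simp [cjMap], map_add' := cjMap_add ρ ρ (u : G) })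
    X (fun u q => by
      show cjMap ρ ρ (val (u • q)) ψ0 = cjMap ρ ρ (u : G) (cjMap ρ ρ (val q) ψ0)
      obtain ⟨v, hv, hv'⟩ := hval u q
      rw [hv', cjMap_mul, cjMap_eq_self hψ0P hv, cjMap_mul])
    (Finset.univ.filter fun q => val q ∉ N)
    (fun u q hq => Finset.mem_filter.2 ⟨Finset.mem_univ _, fun h => (Finset.mem_filter.1 hq).2 (by
      obtain ⟨v, hv, hv'⟩ := hval u q
      rw [hv'] at h
      have := mul_mem (mul_mem (inv_mem (hPN u.2)) h) (inv_mem (hPN hv))
      simpa [mul_assoc] using this)⟩)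
    (fun u q hq huq => Subtype.ext (hTI (val q) (Finset.mem_filter.1 hq).2 u u.2 (by
      obtain ⟨v, hv, hv'⟩ := hval u q
      rw [huq] at hv'
      have : (val q)⁻¹ * (u : G) * val q = v⁻¹ := by
        rw [eq_inv_iff_mul_eq_one, mul_assoc (val q)⁻¹, mul_assoc, ← hv', inv_mul_cancel]
      rw [this]
      exact inv_mem hv)))
  rw [hZ] at hmain
  set D := c • F - ψ with hDdef
  have hD : IntwOn H ρ ρ D := fun g hg x => by simp [hDdef, hFH g hg, hψ g hg]
  have hFD : F.comp D = D := by rw [hmain, ← LinearMap.comp_assoc, hFF]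
  have hAD : Aa.comp D = ∑ u : P, cjMap ρ ρ (u : G) (Aa.comp (F.comp (Z.comp F))) := by
    rw [hmain, sum_comp', comp_sum', comp_sum']
    refine Finset.sum_congr rfl fun u _ => ?_
    rw [cjMap_comp ρ ρ ρ (u : G) _ Aa, cjMap_comp ρ ρ ρ (u : G) _ F, cjMap_comp ρ ρ ρ (u : G) F Z,
      cjMap_eq_self hAP u.2, cjMap_eq_self (hFH.mono hPH) u.2]
    rfl
  refine ⟨Aa.comp (F.comp (Z.comp F)), ?_⟩
  calc D = F.comp D := hFD.symm
    _ = trMap P H ρ ρ (Aa.comp D) := by rw [hFA, trMap_comp_right hD]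
    _ = ∑ h : H, cjMap ρ ρ (h : G) (Aa.comp (F.comp (Z.comp F))) := by rw [hAD, trMap_sum_eq hPH]
    _ = _ := by
      refine Finset.sum_congr ?_ fun h _ => rfl
      congr!

end Cfsg.Agent.Blocks.CyclicDefect
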