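import Cfsg.Agent.Lib.Blocks.CyclicDefect.Reps
import Cfsg.Agent.Lib.Blocks.ModReduction
import Cfsg.Agent.Lib.Blocks.SecondMain
import Cfsg.Agent.Lib.BrauerPairs.Lift
import Cfsg.Agent.Lib.Char.SectionIndicator
import Cfsg.Prelude.Def_BlockRank

/-!
# The irreducible modules of a block are at most `blockRank` many

The trace of a representation over `AlgInt ⧸ M` depends on the `p`-regular part only, so it is a
combination of reductions of irreducible characters; on a module of the block `B` only members of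
`B` occur.
-/

set_option autoImplicit false
set_option linter.unusedSectionVars false
set_option linter.style.haveILetI false

namespace Cfsg.Agent.Blocks.CyclicDefect

open Cfsg Blocks MonoidAlgebra
open Cfsg.Agent.BrauerPairs (blkG coeff_blkG)
open scoped Classical

universe u v

theorem trace_eq_trace_regular {k : Type*} [Field k] {p : ℕ} [CharP k p] (hp : p.Prime)
    {G : Type u} [Group G] {V : Type v} [AddCommGroup V] [Module k V] [FiniteDimensional k V]
    (ρ : Representation k G V) {g a z : G} (hg : g = a * z) (hc : Commute a z) {n : ℕ}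
    (ha : a ^ p ^ n = 1) : LinearMap.trace k V (ρ g) = LinearMap.trace k V (ρ z) := by
  haveI := Fact.mk hp
  rcases subsingleton_or_nontrivial V with hs | hs
  · rw [Subsingleton.elim (ρ g) (ρ z)]
  haveI : CharP (Module.End k V) p := charP_of_injective_algebraMap (algebraMap k _).injective p
  have hnil : IsNilpotent (ρ a - 1) := ⟨p ^ n, by
    rw [sub_pow_char_pow_of_commute p n (Commute.one_right (ρ a)), one_pow, ← map_pow, ha, map_one, sub_self]⟩
  have h1 : IsNilpotent ((ρ a - 1) * ρ z) :=
    Commute.isNilpotent_mul_right ((hc.map ρ).sub_left (Commute.one_left _)) hnil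
  have h2 := (LinearMap.isNilpotent_trace_of_isNilpotent h1).eq_zero
  rw [sub_mul, one_mul, map_sub, sub_eq_zero, ← map_mul, ← hg] at h2
  exact h2

variable {G : Type u} [Group G] [Fintype G] {M : Ideal AlgInt} [M.IsMaximal] {p : ℕ}
  [hp : Fact p.Prime] [CharP (AlgInt ⧸ M) p] {B : Set (IrrCharacter G)}

include hp in
variable (p) in
/-- The trace function of a representation is a combination of reduced characters. -/
theorem exists_trace_combination {V : Type v} [AddCommGroup V] [Module (AlgInt ⧸ M) V]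
    [FiniteDimensional (AlgInt ⧸ M) V] (ρ : Representation (AlgInt ⧸ M) G V) :
    ∃ c : IrrCharacter G → AlgInt ⧸ M, ∀ g : G,
      LinearMap.trace (AlgInt ⧸ M) V (ρ g) = ∑ χ, c χ * red M (χ.1 g) := by
  set n := Nat.card G / p ^ (Nat.card G).factorization p with hn
  have hn0 : ((n : ℕ) : AlgInt ⧸ M) ≠ 0 := by
    rw [Ne, CharP.cast_eq_zero_iff (AlgInt ⧸ M) p]
    exact Nat.not_dvd_ordCompl hp.out Nat.card_pos.ne'
  haveI := Fintype.ofFinite (ConjClasses G)
  choose rep hrep using fun K : ConjClasses G => ConjClasses.exists_rep K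
  let R := {K : ConjClasses G // ¬ p ∣ orderOf (rep K)}
  choose c hc using fun K : R => Char.exists_section_indicator hp.out (rep K.1) K.2
  let T : G → AlgInt ⧸ M := fun g => LinearMap.trace (AlgInt ⧸ M) V (ρ g)
  refine ⟨fun χ => ∑ K : R, T (rep K.1) * (n : AlgInt ⧸ M)⁻¹ * Ideal.Quotient.mk M (c K χ), fun g => ?_⟩
  obtain ⟨a, ha⟩ := exists_isPPart (p := p) g
  obtain ⟨z, hgz, haz, hak, hz⟩ := ha
  obtain ⟨j, hj⟩ := hak
  have hT : T g = T z := trace_eq_trace_regular hp.out ρ hgz.symm haz (n := j) (by rw [← hj, pow_orderOf_eq_one])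
  have hout : IsConj z (rep (ConjClasses.mk z)) :=
    (ConjClasses.mk_eq_mk_iff_isConj.1 (hrep _)).symm
  have hz' : ¬ p ∣ orderOf (rep (ConjClasses.mk z)) := by
    obtain ⟨w, hw⟩ := isConj_iff.1 hout
    rw [← hw, show orderOf (w * z * w⁻¹) = orderOf z from MulEquiv.orderOf_eq (MulAut.conj w) z]
    exact hz
  let K₀ : R := ⟨ConjClasses.mk z, hz'⟩
  have key : ∀ K : R, ∑ χ, Ideal.Quotient.mk M (c K χ) * red M (χ.1 g) =
      if K = K₀ then (n : AlgInt ⧸ M) else 0 := by
    intro K
    obtain ⟨h1, h2⟩ := hc K a z haz ⟨j, hj⟩ hz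
    rw [← red_natCast (M := M) n, show ∑ χ, Ideal.Quotient.mk M (c K χ) * red M (χ.1 g) =
        red M (∑ χ, (c K χ : ℂ) * χ.1 (a * z)) by
      rw [red_sum _ fun χ _ => MemLocalRing.mul (memLocalRing_coe _)
        (memLocalRing_irr χ _)]
      exact Finset.sum_congr rfl fun χ _ => by
        rw [red_mul (memLocalRing_coe _) (memLocalRing_irr χ _), red_coe, hgz]]
    split_ifs with hK
    · rw [h1 (by rw [hK]; exact hout)]
    · rw [h2, red_zero]
      intro hconj
      refine hK (Subtype.ext ?_)
      exact ((hrep K.1).symm.trans (ConjClasses.mk_eq_mk_iff_isConj.2 hconj.symm))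
  simp only [Finset.sum_mul]
  rw [Finset.sum_comm]
  simp only [mul_assoc, ← Finset.mul_sum, key, mul_ite, mul_zero]
  rw [Finset.sum_eq_single K₀ (fun K _ hK => if_neg hK) (fun h => absurd (Finset.mem_univ K₀) h),
    if_pos rfl]
  rw [inv_mul_cancel₀ hn0, mul_one]
  show T g = T (rep (ConjClasses.mk z))
  rw [hT]
  obtain ⟨w, hw⟩ := isConj_iff.1 hout
  rw [← hw]
  show LinearMap.trace _ V (ρ z) = LinearMap.trace _ V (ρ (w * z * w⁻¹))
  rw [map_mul, LinearMap.trace_mul_comm, ← map_mul, ← mul_assoc, inv_mul_cancel, one_mul]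

include hp in
variable (p) in
/-- On a module of `B` only the members of `B` occur. -/
theorem exists_trace_combination_block (hB : IsPBlock M B) {V : Type v} [AddCommGroup V]
    [Module (AlgInt ⧸ M) V] [FiniteDimensional (AlgInt ⧸ M) V]
    (ρ : Representation (AlgInt ⧸ M) G V) (hρ : ρ.asAlgebraHom (blkG M B) = 1) :
    ∃ c : IrrCharacter G → AlgInt ⧸ M, ∀ g : G,
      LinearMap.trace (AlgInt ⧸ M) V (ρ g) =
        ∑ χ ∈ Finset.univ.filter (· ∈ B), c χ * red M (χ.1 g) := by
  obtain ⟨c, hc⟩ := exists_trace_combination p ρ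
  refine ⟨c, fun g => ?_⟩
  have hS := scoeff_blockIdem hB
  have h1 : ρ g = ∑ x : G, (blkG M B).coeff x • ρ (x * g) := by
    calc ρ g = ρ.asAlgebraHom (blkG M B) * ρ g := by rw [hρ, one_mul]
      _ = ρ.asAlgebraHom (blkG M B * MonoidAlgebra.single g 1) := by rw [map_mul]; simp
      _ = ∑ x : G, (blkG M B).coeff x • ρ (x * g) := by
        conv_lhs => rw [eq_sum_single (blkG M B), Finset.sum_mul, map_sum]
        simp [MonoidAlgebra.single_mul_single]
  rw [h1, map_sum]
  simp only [map_smul, smul_eq_mul, hc, Finset.mul_sum]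
  rw [Finset.sum_comm, Finset.sum_filter]
  refine Finset.sum_congr rfl fun χ _ => ?_
  have h2 : red M (chiL χ.1 (blockIdem B * MonoidAlgebra.single g 1)) =
      ∑ x : G, (blkG M B).coeff x * red M (χ.1 (x * g)) := by
    rw [chiL_mul_single, red_sum _ fun x _ => MemLocalRing.mul (hS x)
      (memLocalRing_irr χ _)]
    exact Finset.sum_congr rfl fun x _ => by
      rw [red_mul (hS x) (memLocalRing_irr χ _), blkG, coeff_redA]
  simp only [mul_left_comm _ (c χ), ← Finset.mul_sum, ← h2]
  rw [chiL_mul_of_central χ (isCentralElt_blockIdem B), omega_blockIdem, chiL_single]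
  split_ifs <;> simp

set_option maxHeartbeats 1000000 in
/-- A block has at most `blockRank` pairwise non-isomorphic irreducible modules. -/
theorem card_le_blockRank (hB : IsPBlock M B) {ι : Type*} [Fintype ι] {X : ι → Type v}
    [∀ i, AddCommGroup (X i)] [∀ i, Module (AlgInt ⧸ M) (X i)]
    [∀ i, FiniteDimensional (AlgInt ⧸ M) (X i)]
    {τ : ∀ i, Representation (AlgInt ⧸ M) G (X i)} (hirr : ∀ i, Irr (τ i))
    (hblock : ∀ i, (τ i).asAlgebraHom (blkG M B) = 1)
    (hne : ∀ i j, ∀ f : X i →ₗ[AlgInt ⧸ M] X j, Intw (τ i) (τ j) f → i ≠ j → f = 0) :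
    Fintype.card ι ≤ blockRank p B := by
  haveI := isAlgClosed_residue (M := M)
  choose c hc using fun i => exists_trace_combination_block p hB (τ i) (hblock i)
  let BF := {χ : IrrCharacter G // χ ∈ B}
  let N : Matrix G BF (localInt M) := Matrix.of fun g χ =>
    if IsPRegular p g then ⟨χ.1.1 g, memLocalRing_irr χ.1 g⟩ else 0
  have hrank : (N.map (localInt M).subtype).rank = blockRank p B := by
    rw [Matrix.rank_eq_finrank_span_cols, blockRank]
    have e : Set.range (N.map (localInt M).subtype).col =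
        (fun χ : IrrCharacter G => pRegularPart p (χ : G → ℂ)) '' B := by
      have key : ∀ χ : BF, (N.map (localInt M).subtype).col χ = pRegularPart p (χ.1 : G → ℂ) := by
        intro χ
        funext g
        simp only [N, Matrix.col, pRegularPart, Matrix.transpose_apply, Matrix.map_apply, Matrix.of_apply]
        split_ifs <;> rfl
      ext f
      constructor
      · rintro ⟨χ, rfl⟩; exact ⟨χ.1, χ.2, (key χ).symm⟩
      · rintro ⟨χ, hχ, rfl⟩; exact ⟨⟨χ, hχ⟩, key ⟨χ, hχ⟩⟩
    rw [e]
  set W := Submodule.span (AlgInt ⧸ M) (Set.range (N.map (redHom M)).col)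
  have hlin : LinearIndependent (AlgInt ⧸ M) fun (i : ι) (g : G) =>
      if IsPRegular p g then LinearMap.trace (AlgInt ⧸ M) (X i) (τ i g) else 0 := by
    refine Fintype.linearIndependent_iff.2 fun d hd =>
      Fintype.linearIndependent_iff.1 (linearIndependent_trace hirr hne) d ?_
    funext g
    obtain ⟨a, z, hgz, haz, ⟨j, hj⟩, hz⟩ := exists_isPPart (p := p) g
    have := congrFun hd z
    simp only [Finset.sum_apply, Pi.smul_apply, smul_eq_mul, Pi.zero_apply,
      if_pos (show IsPRegular p z from hz)] at this ⊢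
    rw [← this]
    exact Finset.sum_congr rfl fun i _ => by
      rw [trace_eq_trace_regular hp.out (τ i) hgz.symm haz (n := j) (by rw [← hj, pow_orderOf_eq_one])]
  have hsub : Submodule.span (AlgInt ⧸ M) (Set.range fun (i : ι) (g : G) =>
      if IsPRegular p g then LinearMap.trace (AlgInt ⧸ M) (X i) (τ i g) else 0) ≤ W := by
    rw [Submodule.span_le]
    rintro _ ⟨i, rfl⟩
    have e : (fun g : G => if IsPRegular p g then LinearMap.trace (AlgInt ⧸ M) (X i) (τ i g) else 0) =
        ∑ χ : BF, c i χ.1 • (N.map (redHom M)).col χ := by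
      funext g
      simp only [Finset.sum_apply, Pi.smul_apply, smul_eq_mul, N, Matrix.col, Matrix.transpose_apply,
        Matrix.map_apply, Matrix.of_apply, redHom_apply]
      split_ifs with hg
      · rw [hc, Finset.sum_subtype (p := (· ∈ B)) _ (by simp)]
      · simp
    show (fun g : G => if IsPRegular p g then LinearMap.trace (AlgInt ⧸ M) (X i) (τ i g) else 0) ∈ W
    rw [e]
    exact Submodule.sum_mem _ fun χ _ => Submodule.smul_mem _ _ (Submodule.subset_span ⟨χ, rfl⟩)
  calc Fintype.card ι = _ := (finrank_span_eq_card hlin).symm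
    _ ≤ Module.finrank (AlgInt ⧸ M) W := Submodule.finrank_mono hsub
    _ = (N.map (redHom M)).rank := (Matrix.rank_eq_finrank_span_cols _).symm
    _ ≤ (N.map (localInt M).subtype).rank := rank_map_redHom_le N
    _ = blockRank p B := hrank

end Cfsg.Agent.Blocks.CyclicDefect
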