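import Cfsg.Agent.Lib.Blocks.CyclicDefect.StableSep
import Cfsg.Agent.Lib.Blocks.CyclicDefect.Mackey
import Cfsg.Agent.Lib.Blocks.CyclicDefect.Traces
import Cfsg.Agent.Lib.BrauerPairs.Local
import Mathlib.RingTheory.RootsOfUnity.AlgebraicallyClosed
import Mathlib.GroupTheory.SpecificGroups.Cyclic

/-!
# At least as many irreducible modules as the inertial index

* `oneIrr_blkG`: a block of rank one has one irreducible module;
* `exists_irr_res`, `exists_twists`: the irreducibles of the inertial group over the local block;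
* `exists_family`: pairwise non-isomorphic irreducibles of the block of the group, as many as the
  inertial index;
* `relIndex_le_blockRank`: the inertial index is at most `blockRank`.
-/

set_option autoImplicit false
set_option linter.unusedSectionVars false
set_option linter.style.haveILetI false

namespace Cfsg.Agent.Blocks.CyclicDefect

open MonoidAlgebra
open Cfsg.Agent.BrauerPairs
open scoped Classical

universe u v w

section transport

variable {k : Type w} [Field k] {K : Type u} [Group K] {K' : Type u} [Group K']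

theorem asAlgebraHom_comp_equiv [Finite K] [Finite K'] {V : Type v} [AddCommGroup V] [Module k V]
    (φ : K ≃* K') (ρ : Representation k K' V) {a : MonoidAlgebra k K} {b : MonoidAlgebra k K'}
    (hab : ∀ x, b.coeff (φ x) = a.coeff x) :
    Representation.asAlgebraHom (k := k) (G := K) (V := V) (ρ.comp φ.toMonoidHom) a = ρ.asAlgebraHom b := by
  letI := Fintype.ofFinite K
  letI := Fintype.ofFinite K'
  conv_lhs => rw [Blocks.eq_sum_single a]
  conv_rhs => rw [Blocks.eq_sum_single b]
  simp only [map_sum, Representation.asAlgebraHom_single]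
  exact Fintype.sum_equiv φ.toEquiv _ _ fun x => by rw [← hab x]; rfl

theorem irr_comp_of_surjective {V : Type v} [AddCommGroup V] [Module k V] {φ : K →* K'}
    (hφ : Function.Surjective φ) {ρ : Representation k K' V} (h : Irr ρ) :
    Irr (ρ.comp φ : Representation k K V) :=
  ⟨h.1, fun U hU => h.2 U fun g x hx => by
    obtain ⟨g, rfl⟩ := hφ g
    exact hU g x hx⟩

theorem OneIrr.of_equiv [Finite K] [Finite K'] (φ : K ≃* K') {a : MonoidAlgebra k K}
    {b : MonoidAlgebra k K'} (hab : ∀ x, b.coeff (φ x) = a.coeff x) (h : OneIrr b) : OneIrr a := by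
  intro V W _ _ _ _ _ _ ρ σ hρ hσ hρa hσa
  have hab' : ∀ x, a.coeff (φ.symm x) = b.coeff x := fun x => by
    rw [← hab (φ.symm x), MulEquiv.apply_symm_apply]
  obtain ⟨f, hf, hf0⟩ := h V W (ρ.comp φ.symm.toMonoidHom) (σ.comp φ.symm.toMonoidHom)
    (irr_comp_of_surjective φ.symm.surjective hρ) (irr_comp_of_surjective φ.symm.surjective hσ)
    (by rw [asAlgebraHom_comp_equiv φ.symm ρ hab', hρa])
    (by rw [asAlgebraHom_comp_equiv φ.symm σ hab', hσa])
  refine ⟨f, fun g x => ?_, hf0⟩
  have := hf (φ g) x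
  simpa using this

end transport

section rank

variable {G : Type u} [Group G] [Fintype G] {M : Ideal AlgInt} [M.IsMaximal] {p : ℕ}
  [hp : Fact p.Prime] [CharP (AlgInt ⧸ M) p] {B : Set (IrrCharacter G)}

/-- A block of rank one has one irreducible module. -/
theorem oneIrr_blkG (hB : IsPBlock M B) (h1 : blockRank p B ≤ 1) : OneIrr (blkG M B) := by
  intro V W iV1 iV2 iV3 iW1 iW2 iW3 ρ σ hρ hσ hρB hσB
  by_contra hcon
  push Not at hcon
  let X : Bool → Type u := fun i => Bool.rec (motive := fun _ => Type u) W V i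
  letI : ∀ i, AddCommGroup (X i) := fun i => match i with
    | false => iW1
    | true => iV1
  letI : ∀ i, Module (AlgInt ⧸ M) (X i) := fun i => by
    cases i with
    | false => exact iW2
    | true => exact iV2
  haveI : ∀ i, FiniteDimensional (AlgInt ⧸ M) (X i) := fun i => by
    cases i with
    | false => exact iW3
    | true => exact iV3
  let τ : ∀ i, Representation (AlgInt ⧸ M) G (X i) := fun i =>
    match i with
    | true => ρ
    | false => σ
  have h := card_le_blockRank (X := X) (τ := τ) hB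
    (fun i => by cases i <;> assumption) (fun i => by cases i <;> assumption) (by
      intro i j f hf hij
      cases i <;> cases j <;> try exact absurd rfl hij
      · by_contra h0
        have hbij : Function.Bijective f := ⟨injective_of_intw hσ hf h0, surjective_of_intw hρ hf h0⟩
        let E := LinearEquiv.ofBijective f hbij
        haveI : Nontrivial V := hρ.1
        obtain ⟨x, hx⟩ := exists_ne (0 : V)
        refine hx (E.symm.injective ?_)
        rw [map_zero]
        exact LinearMap.congr_fun (hcon (E.symm : V →ₗ[AlgInt ⧸ M] W) fun g y => E.injective (by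
          show E (E.symm (ρ g y)) = f (σ g (E.symm y))
          rw [hf g, LinearEquiv.apply_symm_apply]
          exact congrArg (ρ g) (E.apply_symm_apply y).symm)) x
      · exact hcon f hf)
  rw [Fintype.card_bool] at h
  omega

end rank

section inertial

variable {k : Type w} [Field k] {H : Type u} [Group H] [Finite H]

local notation "A" => MonoidAlgebra k H

theorem exists_irr_sub {V : Type v} [AddCommGroup V] [Module k V] [FiniteDimensional k V]
    [Nontrivial V] (ρ : Representation k H V) :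
    ∃ (U : Submodule k V) (hU : Inv ρ U), Irr (resRep ρ hU) := by
  obtain ⟨U, ⟨hU, hne⟩, hmin⟩ := wellFounded_lt.has_min {U : Submodule k V | Inv ρ U ∧ U ≠ ⊥}
    ⟨⊤, fun g x _ => Submodule.mem_top, top_ne_bot⟩
  refine ⟨U, hU, (Submodule.nontrivial_iff_ne_bot).2 hne, fun X hX => ?_⟩
  rcases eq_or_ne X ⊥ with h | h
  · exact Or.inl h
  refine Or.inr (Submodule.map_injective_of_injective U.injective_subtype ?_)
  rw [Submodule.map_subtype_top]
  by_contra hne'
  refine hmin (X.map U.subtype) ⟨?_, fun h0 => h ?_⟩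
    (lt_of_le_of_ne (Submodule.map_subtype_le _ _) hne')
  · rintro g _ ⟨x, hx, rfl⟩
    exact ⟨resRep ρ hU g x, hX g x hx, rfl⟩
  · exact Submodule.map_injective_of_injective U.injective_subtype (by rw [h0, Submodule.map_bot])

/-- A subspace preserved by generators is invariant. -/
theorem inv_of_gen {V : Type v} [AddCommGroup V] [Module k V] (ρ : Representation k H V)
    {S : Set H} (hS : Subgroup.closure S = ⊤) {U : Submodule k V}
    (h : ∀ s ∈ S, ∀ x ∈ U, ρ s x ∈ U) : Inv ρ U := by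
  intro g
  have hg : g ∈ Subgroup.closure S := hS ▸ Subgroup.mem_top g
  induction hg using Subgroup.closure_induction with
  | mem s hs => exact h s hs
  | one => intro x hx; simpa using hx
  | mul a b _ _ ha hb => intro x hx; simpa using ha _ (hb x hx)
  | inv a _ ha =>
    intro x hx
    have hinv : a⁻¹ = a ^ (orderOf a - 1) := by
      rw [inv_eq_iff_mul_eq_one, ← pow_succ', Nat.sub_add_cancel (orderOf_pos a), pow_orderOf_eq_one]
    rw [hinv, map_pow]
    induction orderOf a - 1 with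
    | zero => simpa using hx
    | succ n ih => rw [pow_succ', Module.End.mul_apply]; exact ha _ ih

set_option maxHeartbeats 1000000 in
/-- An irreducible of the inertial group over the local block stays irreducible on `C`. -/
theorem exists_irr_res [IsAlgClosed k] {C : Subgroup H} [hC : C.Normal] {t : H}
    (hgen : C ⊔ Subgroup.zpowers t = ⊤) {f : A} (hf : f ∈ fixedBy k (⊤ : Subgroup H))
    {fC : MonoidAlgebra k C} (hfC : incl C k fC = f) (hone : OneIrr fC)
    {W : Type (max u w)} [AddCommGroup W] [Module k W] [FiniteDimensional k W]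
    {τ : Representation k H W} (hτ : Irr τ) (hτf : τ.asAlgebraHom f = 1) : Irr (res C τ) := by
  haveI := hτ.1
  have hCτ : (res C τ).asAlgebraHom fC = 1 := by rw [asAlgebraHom_res, hfC, hτf]
  obtain ⟨V, hV, hirr⟩ := exists_irr_sub (res C τ)
  set σ := resRep (res C τ) hV with hσ
  have hσf : σ.asAlgebraHom fC = 1 := asAlgebraHom_resRep hV hCτ
  have hconj : ∀ c : C, t⁻¹ * c * t ∈ C := fun c => by
    simpa using hC.conj_mem _ c.2 t⁻¹
  have hconj' : ∀ c : C, t * c * t⁻¹ ∈ C := fun c => hC.conj_mem _ c.2 t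
  let φ : C ≃* C :=
    { toFun := fun c => ⟨_, hconj c⟩
      invFun := fun c => ⟨_, hconj' c⟩
      left_inv := fun c => Subtype.ext (by simp [mul_assoc])
      right_inv := fun c => Subtype.ext (by simp [mul_assoc])
      map_mul' := fun a b => Subtype.ext (by simp [mul_assoc]) }
  have hfix : ∀ x, fC.coeff (φ x) = fC.coeff x := fun x => by
    have h := mem_fixedBy_iff_coeff.1 hf t (Subgroup.mem_top t) (φ x)
    rw [show t * ((φ x : C) : H) * t⁻¹ = (x : H) by simp [φ, mul_assoc], ← hfC, coeff_incl_coe,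
      coeff_incl_coe] at h
    exact h.symm
  obtain ⟨j, hj, hj0⟩ := hone V V σ (σ.comp φ.toMonoidHom : Representation k C V) hirr
    (irr_comp_of_surjective φ.surjective hirr) hσf (by rw [asAlgebraHom_comp_equiv φ σ hfix, hσf])
  have hjsurj : Function.Surjective j :=
    surjective_of_intw (irr_comp_of_surjective φ.surjective hirr) hj hj0
  -- the operator on the maps from `V`
  let Hm : Submodule k (V →ₗ[k] W) :=
    { carrier := {h | Intw σ (res C τ) h}
      zero_mem' := fun _ _ => by simp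
      add_mem' := fun {a b} ha hb c x => by simp [ha c x, hb c x]
      smul_mem' := fun r a ha c x => by simp [ha c x] }
  have hL : ∀ h : Hm, ((τ t).comp (h.1.comp j)) ∈ Hm := fun h c x => by
    show τ t (h.1 (j (σ c x))) = τ (c : H) (τ t (h.1 (j x)))
    rw [hj c x, show h.1 ((σ.comp φ.toMonoidHom : Representation k C V) c (j x)) =
      τ (t⁻¹ * c * t) (h.1 (j x)) from h.2 (φ c) (j x), ← Module.End.mul_apply,
      ← Module.End.mul_apply (τ (c : H)), ← map_mul, ← map_mul]
    simp [mul_assoc]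
  let L : Module.End k Hm :=
    { toFun := fun h => ⟨_, hL h⟩
      map_add' := fun a b => Subtype.ext (LinearMap.ext fun x => by simp)
      map_smul' := fun r a => Subtype.ext (LinearMap.ext fun x => by simp) }
  haveI : Nontrivial Hm := ⟨⟨⟨V.subtype, fun _ _ => rfl⟩, 0, fun h => by
    haveI := hirr.1
    obtain ⟨x, hx⟩ := exists_ne (0 : V)
    exact hx (Subtype.ext (LinearMap.congr_fun (congrArg Subtype.val h) x))⟩⟩
  obtain ⟨μ, hμ⟩ := Module.End.exists_eigenvalue L
  obtain ⟨h, hh⟩ := hμ.exists_hasEigenvector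
  have hh1 : Intw σ (res C τ) h.1 := h.2
  have hh0 : h.1 ≠ 0 := fun h0 => hh.2 (Subtype.ext h0)
  have hLh : ∀ x, τ t (h.1 (j x)) = μ • h.1 x := fun x =>
    LinearMap.congr_fun (congrArg Subtype.val hh.apply_eq_smul) x
  have hR : Inv τ (LinearMap.range h.1) := by
    refine inv_of_gen τ (S := (C : Set H) ∪ {t}) ?_ ?_
    · rw [Subgroup.closure_union, Subgroup.closure_eq, ← Subgroup.zpowers_eq_closure, hgen]
    · rintro s (hs | hs) _ ⟨y, rfl⟩
      · exact ⟨σ ⟨s, hs⟩ y, hh1 ⟨s, hs⟩ y⟩
      · obtain ⟨x, rfl⟩ := hjsurj y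
        rw [Set.mem_singleton_iff.1 hs, hLh]
        exact ⟨μ • x, map_smul _ _ _⟩
  have htop : LinearMap.range h.1 = ⊤ :=
    (hτ.2 _ hR).resolve_left fun h0 => hh0 (LinearMap.range_eq_bot.1 h0)
  refine ⟨hτ.1, fun U hU => ?_⟩
  rcases hirr.2 (U.comap h.1) fun c x hx => by
    show h.1 (σ c x) ∈ U
    rw [hh1 c x]
    exact hU c _ hx with h' | h'
  · left
    rw [← Submodule.map_comap_eq_self (show U ≤ LinearMap.range h.1 from htop.symm ▸ le_top), h', Submodule.map_bot]
  · right
    rw [← Submodule.map_comap_eq_self (show U ≤ LinearMap.range h.1 from htop.symm ▸ le_top), h',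
      Submodule.map_top, htop]

/-- The twist by a linear character. -/
def twist {W : Type v} [AddCommGroup W] [Module k W] (χ : H →* kˣ) (τ : Representation k H W) :
    Representation k H W where
  toFun g := (χ g : k) • τ g
  map_one' := by simp
  map_mul' g h := by simp [smul_smul, mul_comm]

theorem twist_apply {W : Type v} [AddCommGroup W] [Module k W] (χ : H →* kˣ)
    (τ : Representation k H W) (g : H) : twist χ τ g = (χ g : k) • τ g := rfl

theorem res_twist {W : Type v} [AddCommGroup W] [Module k W] {C : Subgroup H} (χ : H →* kˣ)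
    (hχ : ∀ c ∈ C, χ c = 1) (τ : Representation k H W) : res C (twist χ τ) = res C τ :=
  MonoidHom.ext fun c => by
    show (χ (c : H) : k) • τ (c : H) = τ (c : H)
    rw [hχ _ c.2, Units.val_one, one_smul]

set_option maxHeartbeats 1000000 in
/-- The inertial group has, over the local block, as many irreducibles as the index. -/
theorem exists_twists [IsAlgClosed k] {C : Subgroup H} [hC : C.Normal] {t : H}
    (hgen : C ⊔ Subgroup.zpowers t = ⊤) (hidx : (C.index : k) ≠ 0) {f : A} (hff : f * f = f)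
    (hf0 : f ≠ 0) (hf : f ∈ fixedBy k (⊤ : Subgroup H))
    {fC : MonoidAlgebra k C} (hfC : incl C k fC = f) (hone : OneIrr fC) :
    ∃ (W : Type (max u w)) (_ : AddCommGroup W) (_ : Module k W) (_ : FiniteDimensional k W)
      (τ : Fin C.index → Representation k H W),
      (∀ i, Irr (res C (τ i)) ∧ (τ i).asAlgebraHom f = 1) ∧
        ∀ i j, i ≠ j → ∀ g : W →ₗ[k] W, Intw (τ i) (τ j) g → g = 0 := by
  -- an irreducible over `f`
  set N : Submodule k A := LinearMap.range (LinearMap.mulRight k (1 - f)) with hN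
  have hNI : Inv (regRep k H) N := inv_regRep fun a y hy => by
    obtain ⟨x, rfl⟩ := hy
    exact ⟨a * x, mul_assoc a x _⟩
  haveI : FiniteDimensional k A :=
    Module.Finite.equiv (MonoidAlgebra.coeffLinearEquiv k).symm
  haveI : Nontrivial (A ⧸ N) := Submodule.Quotient.nontrivial_iff.2 fun h => by
    obtain ⟨x, hx⟩ := (h ▸ Submodule.mem_top : f ∈ N)
    have hx' : x * (1 - f) = f := hx
    refine hf0 ?_
    calc f = x * (1 - f) * f := by rw [hx', hff]
      _ = 0 := by rw [mul_assoc, sub_mul, one_mul, hff, sub_self, mul_zero]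
  have hfc : ∀ a : A, f * a = a * f := fun a =>
    (centerIn_commute (H := ⊤) (fun x hx => absurd (Subgroup.mem_top x) hx) hf).symm
  have hq : (quotRep (regRep k H) hNI).asAlgebraHom f = 1 :=
    Submodule.linearMap_qext _ (LinearMap.ext fun x => by
      show (quotRep (regRep k H) hNI).asAlgebraHom f (N.mkQ x) = N.mkQ x
      rw [← (intw_mkQ hNI).asAlgebraHom f x, asAlgebraHom_regRep, ← sub_eq_zero, ← map_sub]
      refine (Submodule.Quotient.mk_eq_zero N).2 ⟨-x, ?_⟩
      show -x * (1 - f) = f * x - x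
      rw [hfc, mul_sub, mul_one, neg_mul]
      abel)
  obtain ⟨U, hU, hirr⟩ := exists_irr_quotient (quotRep (regRep k H) hNI)
  set τ := quotRep (quotRep (regRep k H) hNI) hU
  have hτf : τ.asAlgebraHom f = 1 := asAlgebraHom_quotRep hU hq
  have hres := exists_irr_res hgen hf hfC hone hirr hτf
  -- the linear characters
  set n := C.index with hn
  haveI : NeZero (n : k) := ⟨hidx⟩
  haveI : NeZero n := NeZero.of_neZero_natCast k
  obtain ⟨ζ, hζ⟩ := HasEnoughRootsOfUnity.exists_primitiveRoot k n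
  set u := (hζ.isUnit (NeZero.ne n)).unit with hu
  have hu' : (u : k) = ζ := IsUnit.unit_spec _
  have hgenq : ∀ x : H ⧸ C, x ∈ Subgroup.zpowers (QuotientGroup.mk' C t) := fun x => by
    obtain ⟨g, rfl⟩ := QuotientGroup.mk'_surjective C x
    have h : (C ⊔ Subgroup.zpowers t).map (QuotientGroup.mk' C) = Subgroup.zpowers (QuotientGroup.mk' C t) := by
      rw [Subgroup.map_sup, MonoidHom.map_zpowers, QuotientGroup.map_mk'_self, bot_sup_eq]
    rw [← h, hgen]
    exact Subgroup.mem_map_of_mem _ (Subgroup.mem_top g)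
  have hord : orderOf (QuotientGroup.mk' C t) = n := orderOf_eq_card_of_forall_mem_zpowers hgenq
  have hdvd : ∀ i : Fin n, orderOf (u ^ (i : ℕ)) ∣ orderOf (QuotientGroup.mk' C t) := fun i => by
    refine orderOf_dvd_of_pow_eq_one ?_
    rw [hord]
    refine Units.ext ?_
    rw [Units.val_pow_eq_pow_val, Units.val_pow_eq_pow_val, hu', ← pow_mul, mul_comm, pow_mul,
      hζ.pow_eq_one, one_pow, Units.val_one]
  let χ : Fin n → H →* kˣ := fun i =>
    (monoidHomOfForallMemZpowers hgenq (hdvd i)).comp (QuotientGroup.mk' C)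
  have hχC : ∀ i, ∀ c ∈ C, χ i c = 1 := fun i c hc => by
    show monoidHomOfForallMemZpowers hgenq (hdvd i) (QuotientGroup.mk' C c) = 1
    rw [show QuotientGroup.mk' C c = 1 from (QuotientGroup.eq_one_iff c).2 hc, map_one]
  have hχt : ∀ i, (χ i t : k) = ζ ^ (i : ℕ) := fun i => by
    show ((monoidHomOfForallMemZpowers hgenq (hdvd i) (QuotientGroup.mk' C t) : kˣ) : k) = _
    rw [monoidHomOfForallMemZpowers_apply_gen, Units.val_pow_eq_pow_val, hu']
  refine ⟨_, inferInstance, inferInstance, inferInstance, fun i => twist (χ i) τ, fun i => ⟨?_, ?_⟩, ?_⟩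
  · rw [res_twist _ (hχC i)]; exact hres
  · rw [← hfC, ← asAlgebraHom_res, res_twist _ (hχC i), asAlgebraHom_res, hfC, hτf]
  · intro i j hij g hg
    have hgC : Intw (res C τ) (res C τ) g := fun c x => by
      have := hg (c : H) x
      rwa [twist_apply, twist_apply, hχC i _ c.2, hχC j _ c.2, Units.val_one, one_smul] at this
    obtain ⟨c, rfl⟩ := schur_scalar hres hgC
    haveI := hirr.1
    obtain ⟨x, hx⟩ := exists_ne (0 : ((A ⧸ N) ⧸ U))
    have h := hg t (τ t⁻¹ x)
    simp only [twist_apply, LinearMap.smul_apply, LinearMap.id_apply, map_smul, hχt] at h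
    rw [← Module.End.mul_apply (τ t), ← map_mul, mul_inv_cancel, map_one, Module.End.one_apply] at h
    by_contra hc
    have hc' : c ≠ 0 := fun h0 => hc (by rw [h0, zero_smul])
    rw [smul_comm, smul_right_inj hc'] at h
    exact hij (Fin.ext (hζ.pow_inj i.2 j.2 (smul_left_injective k hx h)))

end inertial

section sub

variable {k : Type w} [Field k] [IsAlgClosed k] {H : Type u} [Group H] [Finite H]
  {p : ℕ} [hp : Fact p.Prime] [CharP k p]

theorem exists_fin_of_mem_mul {K : Type u} [Group K] {e y : MonoidAlgebra k K}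
    (hy : y ∈ (⊤ : Submodule k (MonoidAlgebra k K)) * Submodule.span k {e} * ⊤) :
    ∃ (n : ℕ) (a b : Fin n → MonoidAlgebra k K), ∑ i, a i * e * b i = y := by
  refine Submodule.mul_induction_on hy (fun m hm r _ => ?_) ?_
  · obtain ⟨n, a, b, rfl⟩ : ∃ (n : ℕ) (a b : Fin n → MonoidAlgebra k K), ∑ i, a i * e * b i = m := by
      refine Submodule.mul_induction_on hm (fun a _ s hs => ?_) ?_
      · obtain ⟨c, rfl⟩ := Submodule.mem_span_singleton.1 hs
        exact ⟨1, fun _ => c • a, fun _ => 1, by simp [smul_mul_assoc, mul_smul_comm]⟩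
      · rintro x x' ⟨n, a, b, rfl⟩ ⟨n', a', b', rfl⟩
        exact ⟨n + n', Fin.append a a', Fin.append b b', by simp [Fin.sum_univ_add]⟩
    exact ⟨n, a, fun i => b i * r, by simp [Finset.sum_mul, mul_assoc]⟩
  · rintro x x' ⟨n, a, b, rfl⟩ ⟨n', a', b', rfl⟩
    exact ⟨n + n', Fin.append a a', Fin.append b b', by simp [Fin.sum_univ_add]⟩

/-- The uniserial data of a local block. -/
theorem exists_uniBlock {C P : Subgroup H} (hPC : P ≤ C) (hP : IsPGroup p P) (hcyc : IsCyclic P)
    {f a : MonoidAlgebra k H} (hff : f * f = f) (hf0 : f ≠ 0)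
    (hf : f ∈ fixedBy k (⊤ : Subgroup H)) (haC : a ∈ suppIn k C) (ha : a ∈ fixedBy k P)
    (hrel : relTr P C a = f) {fC : MonoidAlgebra k C} (hfC : incl C k fC = f) (hone : OneIrr fC) :
    ∃ e x, UniBlock C f e x := by
  obtain ⟨aC, rfl⟩ := exists_incl_eq_of_supp haC
  have hmap : (P.subgroupOf C).map C.subtype = P := Subgroup.map_subgroupOf_eq_of_le hPC
  have haC' : aC ∈ fixedBy k (P.subgroupOf C) := (incl_mem_fixedBy_iff _ _).1 (by rwa [hmap])
  have hinj := incl_injective C (k := k)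
  have hfc : ∀ y : MonoidAlgebra k H, f * y = y * f := fun y =>
    (centerIn_commute (H := ⊤) (fun x hx => absurd (Subgroup.mem_top x) hx) hf).symm
  have hrel' : relTr (P.subgroupOf C) ⊤ aC = fC := hinj (by
    rw [incl_relTr _ _ haC', hmap, map_subtype_top, hrel, hfC])
  obtain ⟨e, x, he, -, hfe, hx, hnil, hspan, hfull⟩ := exists_uniserial
    (β := fC) (hinj (by rw [map_mul, hfC, hff])) (fun h => hf0 (by rw [← hfC, h, map_zero]))
    (fun y => hinj (by rw [map_mul, map_mul, hfC, hfc]))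
    (hP.of_equiv (Subgroup.subgroupOfEquivOfLe hPC).symm)
    ((Subgroup.subgroupOfEquivOfLe hPC).isCyclic.2 hcyc) haC' hrel' hone
  refine ⟨incl C k e, incl C k x, hf, ?_, ?_, ?_, ?_, ?_, ?_, hnil.map _, ?_, ?_⟩
  · intro y hy; exact coeff_incl_of_notMem C e hy
  · intro y hy; exact coeff_incl_of_notMem C x hy
  · rw [← map_mul, he.eq]
  · rw [← hfC, ← map_mul, hfe]
  · rw [← hfc, ← hfC, ← map_mul, hfe]
  · rw [← map_mul, ← map_mul, hx]
  · intro y hy
    obtain ⟨yC, rfl⟩ := exists_incl_eq_of_supp hy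
    obtain ⟨c, hc⟩ := hspan yC
    refine ⟨c, ?_⟩
    have h := Submodule.mem_map_of_mem (f := (incl C k).toLinearMap) hc
    rw [Submodule.map_span, ← Set.range_comp] at h
    simpa [Function.comp_def] using h
  · obtain ⟨n, a', b', hsum⟩ := exists_fin_of_mem_mul hfull
    exact ⟨n, fun i => incl C k (a' i), fun i => incl C k (b' i),
      fun i y hy => coeff_incl_of_notMem C _ hy, fun i y hy => coeff_incl_of_notMem C _ hy, by
        rw [← hfC, ← hsum, map_sum]; simp⟩

end sub

section group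

variable {k : Type w} [Field k] [IsAlgClosed k] {G : Type u} [Group G] [Finite G]
  {p : ℕ} [hp : Fact p.Prime] [CharP k p]

/-- The component of a central idempotent in the local group acts as `1` over the local block. -/
theorem asAlgebraHom_trunc {Q H : Subgroup G} (hQ : IsPGroup p Q) (hQH : Q ≤ H)
    (hHN : H ≤ Subgroup.normalizer (Q : Set G)) (hCH : Subgroup.centralizer (Q : Set G) ≤ H)
    {β f : MonoidAlgebra k G} (hβ : β ∈ fixedBy k (⊤ : Subgroup G)) (hbr : br Q β * f = f)
    {fH : MonoidAlgebra k H} (hfH : incl H k fH = f) {W : Type v} [AddCommGroup W] [Module k W]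
    [FiniteDimensional k W] {τ : Representation k H W} (hτ : Irr τ) (hτf : τ.asAlgebraHom fH = 1)
    {βH : MonoidAlgebra k H} (hβH : ∀ h : H, βH.coeff h = β.coeff (h : G)) :
    τ.asAlgebraHom βH = 1 := by
  haveI := hτ.1
  set T := incl H k βH with hT
  have hTfix : T ∈ fixedBy k H := by
    rw [mem_fixedBy_iff_coeff]
    intro h hh x
    by_cases hx : x ∈ H
    · have hx' : h * x * h⁻¹ ∈ H := mul_mem (mul_mem hh hx) (inv_mem hh)
      rw [hT, coeff_incl_coe H βH (⟨_, hx'⟩ : H), coeff_incl_coe H βH (⟨x, hx⟩ : H), hβH, hβH]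
      exact mem_fixedBy_iff_coeff.1 hβ h (Subgroup.mem_top h) x
    · have hx' : h * x * h⁻¹ ∉ H := fun h' => hx (by
        simpa [mul_assoc] using mul_mem (mul_mem (inv_mem hh) h') hh)
      rw [hT, coeff_incl_of_notMem H βH hx, coeff_incl_of_notMem H βH hx']
  have hTc : T ∈ centerIn k H := ⟨fun x hx => coeff_incl_of_notMem H βH hx, hTfix⟩
  have hbrT : br Q T = br Q β := Blocks.alg_ext fun x => by
    rw [coeff_br, coeff_br]
    split_ifs with h
    · rw [hT, coeff_incl_coe H βH (⟨x, hCH h⟩ : H), hβH]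
    · rfl
  obtain ⟨bH, hbH⟩ := exists_incl_eq_of_supp (H := H) (z := br Q β)
    fun x hx => coeff_br_of_notMem β fun h => hx (hCH h)
  have hb1 : τ.asAlgebraHom bH = 1 := by
    have h : bH * fH = fH := incl_injective H (by rw [map_mul, hbH, hfH, hbr])
    have h2 := congrArg τ.asAlgebraHom h
    rwa [map_mul, hτf, mul_one] at h2
  have hnil : IsNilpotent (βH - bH) := by
    rw [← IsNilpotent.map_iff (incl_injective H (k := k)), map_sub, hbH, ← hbrT]
    exact isNilpotent_sub_br p hQ hQH hHN hTc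
  have hcomm : Intw τ τ (τ.asAlgebraHom (βH - bH)) := by
    have hfixb : br Q β ∈ fixedBy k H := br_mem_fixedBy hβ le_top hHN
    have hz : βH - bH ∈ fixedBy k (⊤ : Subgroup H) := by
      rw [← incl_mem_fixedBy_iff, map_subtype_top, map_sub, hbH, ← hT]
      exact sub_mem hTfix hfixb
    intro g x
    have h := intwOn_asAlgebraHom τ hz g (Subgroup.mem_top g) x
    exact h
  obtain ⟨c, hc⟩ := schur_scalar hτ hcomm
  have hc0 : c = 0 := by
    obtain ⟨n, hn⟩ := hnil.map τ.asAlgebraHom
    rw [hc, smul_pow, ← Module.End.one_eq_id, one_pow, smul_eq_zero] at hn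
    exact eq_zero_of_pow_eq_zero (hn.resolve_right one_ne_zero)
  rw [map_sub, hb1, hc0, zero_smul, sub_eq_zero] at hc
  exact hc

set_option maxHeartbeats 1600000 in
/-- Two of the irreducibles of the inertial group have no non-trace maps into the same module. -/
theorem eq_of_not_trOne {P C H N : Subgroup G} (hPH : P ≤ H) (hHN : H ≤ N)
    [(C.subgroupOf H).Normal] (hidx : (C.relIndex H : k) ≠ 0) {f aP : MonoidAlgebra k G}
    (hff : f * f = f) (hfH : f ∈ fixedBy k H) (haP : aP ∈ fixedBy k P) (hrel : relTr P H aP = f)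
    (hout : ∀ g ∈ N, g ∉ H → f * conjEl g f = 0)
    (hTI : ∀ g : G, g ∉ N → ∀ u ∈ P, g⁻¹ * u * g ∈ P → u = 1)
    {fh e x : MonoidAlgebra k H} (hfh : incl H k fh = f) (d : UniBlock (C.subgroupOf H) fh e x)
    {W : Type v} [AddCommGroup W] [Module k W] {W' : Type v} [AddCommGroup W'] [Module k W']
    {S : Type v} [AddCommGroup S] [Module k S] [FiniteDimensional k S]
    {τ : Representation k H W} {τ' : Representation k H W'} {σ : Representation k G S}
    (hσ : Irr σ) (hτ : Irr (res (C.subgroupOf H) τ)) (hτf : τ.asAlgebraHom fh = 1)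
    (hτ' : Irr (res (C.subgroupOf H) τ')) (hτf' : τ'.asAlgebraHom fh = 1)
    (hne : ∀ j : W' →ₗ[k] W, Intw τ' τ j → j = 0) (hne' : ∀ j : W →ₗ[k] W', Intw τ τ' j → j = 0)
    {φ : W →ₗ[k] S} {φ' : W' →ₗ[k] S} (hφ : Intw τ (res H σ) φ) (hφ' : Intw τ' (res H σ) φ')
    (h0 : ¬ TrOne τ (res H σ) φ) (h0' : ¬ TrOne τ' (res H σ) φ') : False := by
  set F := σ.asAlgebraHom f with hF
  have hFres : (res H σ).asAlgebraHom fh = F := by rw [asAlgebraHom_res, hfh]
  have hFF : F.comp F = F := by rw [← Module.End.mul_eq_comp, hF, ← map_mul, hff]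
  have hFint : IntwOn H σ σ F := intwOn_asAlgebraHom σ hfH
  have hI : Inv (res H σ) (LinearMap.range F) := by
    rintro h _ ⟨y, rfl⟩
    exact ⟨σ (h : G) y, hFint _ h.2 y⟩
  set ρ := resRep (res H σ) hI with hρ
  have hρf : ρ.asAlgebraHom fh = 1 := LinearMap.ext fun ⟨_, y, rfl⟩ => Subtype.ext (by
    refine ((intw_subtype hI).asAlgebraHom fh _).trans ?_
    rw [hFres]
    exact LinearMap.congr_fun hFF y)
  have hFφ : ∀ {Z : Type v} [AddCommGroup Z] [Module k Z] {κ : Representation k H Z}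
      (ψ : Z →ₗ[k] S), κ.asAlgebraHom fh = 1 → Intw κ (res H σ) ψ → ∀ z, F (ψ z) = ψ z := by
    intro Z _ _ κ ψ hκ hψ z
    rw [← hFres, ← hψ.asAlgebraHom fh z, hκ]
    rfl
  let φ0 := φ.codRestrict (LinearMap.range F) fun z => ⟨φ z, hFφ φ hτf hφ z⟩
  let φ0' := φ'.codRestrict (LinearMap.range F) fun z => ⟨φ' z, hFφ φ' hτf' hφ' z⟩
  have hφ0 : Intw τ ρ φ0 := fun h z => Subtype.ext (hφ h z)
  have hφ0' : Intw τ' ρ φ0' := fun h z => Subtype.ext (hφ' h z)
  have hφn : φ ≠ 0 := fun h => h0 (h ▸ TrOne.zero _ _)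
  have hφn' : φ' ≠ 0 := fun h => h0' (h ▸ TrOne.zero _ _)
  obtain ⟨Φ, hΦ, hor⟩ := d.exists_separating hρf hidx hτ hτf hτ' hτf' hne hne' hφ0 hφ0'
    (fun h => hφn (LinearMap.ext fun z => congrArg Subtype.val (LinearMap.congr_fun h z)))
    (fun h => hφn' (LinearMap.ext fun z => congrArg Subtype.val (LinearMap.congr_fun h z)))
  let Fr := F.codRestrict (LinearMap.range F) fun y => ⟨y, rfl⟩
  set ψ : S →ₗ[k] S := (LinearMap.range F).subtype.comp (Φ.comp Fr) with hψ
  have hψH : IntwOn H σ σ ψ := fun g hg y => by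
    have h1 : Fr (σ g y) = ρ ⟨g, hg⟩ (Fr y) := Subtype.ext (hFint g hg y)
    show ((Φ (Fr (σ g y)) : LinearMap.range F) : S) = σ g (Φ (Fr y) : S)
    rw [h1, hΦ]
    rfl
  have hψl : F.comp ψ = ψ := LinearMap.ext fun y => by
    obtain ⟨w, hw⟩ := (Φ (Fr y)).2
    show F (Φ (Fr y) : S) = (Φ (Fr y) : S)
    rw [← hw]
    exact LinearMap.congr_fun hFF w
  have hψr : ψ.comp F = ψ := LinearMap.ext fun y => by
    show ((Φ (Fr (F y)) : LinearMap.range F) : S) = (Φ (Fr y) : S)
    rw [show Fr (F y) = Fr y from Subtype.ext (LinearMap.congr_fun hFF y)]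
  obtain ⟨c, hc⟩ := exists_scalar_mod_trOne hPH hHN hfH hff haP hrel hout hTI hσ hψH hψl hψr
  have hFr : ∀ {Z : Type v} [AddCommGroup Z] [Module k Z] {κ : Representation k H Z}
      (χ : Z →ₗ[k] S) (hχf : κ.asAlgebraHom fh = 1) (hχ : Intw κ (res H σ) χ),
      ¬ TrOne κ (res H σ) χ → ∀ d : k, (∀ z, (ψ (χ z)) = d • χ z) → c = d := by
    intro Z _ _ κ χ hχf hχ hnot d' hd
    by_contra hcd
    refine hnot ?_
    have h : χ = (c - d')⁻¹ • ((c • F - ψ).comp χ) := LinearMap.ext fun z => by
      simp only [LinearMap.smul_apply, LinearMap.comp_apply, LinearMap.sub_apply, hd,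
        hFφ χ hχf hχ z, ← sub_smul, inv_smul_smul₀ (sub_ne_zero.2 hcd)]
    rw [h]
    exact (hc.comp_right hχ).smul _
  rcases hor with ⟨ha, hb⟩ | ⟨ha, hb⟩
  · have h1 := hFr φ hτf hφ h0 0 fun z => by
      show (Φ (Fr (φ z)) : S) = _
      rw [show Fr (φ z) = φ0 z from Subtype.ext (hFφ φ hτf hφ z),
        show Φ (φ0 z) = 0 from LinearMap.congr_fun ha z, zero_smul]
      rfl
    have h2 := hFr φ' hτf' hφ' h0' 1 fun z => by
      show (Φ (Fr (φ' z)) : S) = _
      rw [show Fr (φ' z) = φ0' z from Subtype.ext (hFφ φ' hτf' hφ' z),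
        show Φ (φ0' z) = φ0' z from LinearMap.congr_fun hb z, one_smul]
      rfl
    exact zero_ne_one (h1.symm.trans h2)
  · have h1 := hFr φ' hτf' hφ' h0' 0 fun z => by
      show (Φ (Fr (φ' z)) : S) = _
      rw [show Fr (φ' z) = φ0' z from Subtype.ext (hFφ φ' hτf' hφ' z),
        show Φ (φ0' z) = 0 from LinearMap.congr_fun ha z, zero_smul]
      rfl
    have h2 := hFr φ hτf hφ h0 1 fun z => by
      show (Φ (Fr (φ z)) : S) = _
      rw [show Fr (φ z) = φ0 z from Subtype.ext (hFφ φ hτf hφ z),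
        show Φ (φ0 z) = φ0 z from LinearMap.congr_fun hb z, one_smul]
      rfl
    exact zero_ne_one (h1.symm.trans h2)

set_option maxHeartbeats 1600000 in
/-- As many irreducibles of the block as the inertial index. -/
theorem exists_family {z : G} (hz : orderOf z = p) {P C H N : Subgroup G}
    (hC : C = Subgroup.centralizer (Subgroup.zpowers z : Set G))
    (hN : N = Subgroup.normalizer (Subgroup.zpowers z : Set G)) (hCH : C ≤ H) (hHN : H ≤ N)
    {t : G} (htH : t ∈ H) (hgen : C ⊔ Subgroup.zpowers t = H) (hidx : ¬ p ∣ C.relIndex H)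
    (hPC : P ≤ C) (hP : IsPGroup p P) (hcyc : IsCyclic P) {β f a : MonoidAlgebra k G}
    (hββ : β * β = β) (hβ : β ∈ fixedBy k (⊤ : Subgroup G)) (hff : f * f = f) (hf0 : f ≠ 0)
    (hfH : f ∈ fixedBy k H) (haC : a ∈ suppIn k C) (ha : a ∈ fixedBy k P) (hrel : relTr P C a = f)
    (hbr : br (Subgroup.zpowers z) β * f = f)
    (hout : ∀ g ∈ N, g ∉ H → f * conjEl g f = 0)
    (hTI : ∀ g : G, g ∉ N → ∀ u ∈ P, g⁻¹ * u * g ∈ P → u = 1)
    {fC : MonoidAlgebra k C} (hfC : incl C k fC = f) (hone : OneIrr fC) :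
    ∃ (S : Fin (C.relIndex H) → Type (max u w)) (_ : ∀ i, AddCommGroup (S i))
      (_ : ∀ i, Module k (S i)) (_ : ∀ i, FiniteDimensional k (S i))
      (σ : ∀ i, Representation k G (S i)), (∀ i, Irr (σ i) ∧ (σ i).asAlgebraHom β = 1) ∧
        ∀ i j, ∀ g : S i →ₗ[k] S j, Intw (σ i) (σ j) g → i ≠ j → g = 0 := by
  set Z := Subgroup.zpowers z with hZ
  have hzC : Z ≤ C := by
    rw [hC]
    exact Subgroup.zpowers_le.2 (Subgroup.mem_centralizer_iff.2 fun y hy => by
      obtain ⟨i, rfl⟩ := Subgroup.mem_zpowers_iff.1 hy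
      exact (Commute.refl z).zpow_left i)
  have hZP : IsPGroup p Z := IsPGroup.of_card (n := 1) (by rw [Nat.card_zpowers, hz, pow_one])
  have hHNZ : H ≤ Subgroup.normalizer (Z : Set G) := hHN.trans hN.le
  have hk : (C.relIndex H : k) ≠ 0 := fun h => hidx ((CharP.cast_eq_zero_iff k p _).1 h)
  haveI hnorm : (C.subgroupOf H).Normal := by
    refine ⟨fun c hc h => ?_⟩
    rw [Subgroup.mem_subgroupOf, hC] at hc ⊢
    simp only [Subgroup.coe_mul, Subgroup.coe_inv]
    refine Subgroup.mem_centralizer_iff.2 fun y hy => ?_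
    have hy' : (h : G)⁻¹ * y * h ∈ Z := (Subgroup.mem_normalizer_iff''.1 (hHNZ h.2) y).1 hy
    have := Subgroup.mem_centralizer_iff.1 hc _ hy'
    calc y * (h * c * (h : G)⁻¹) = h * (((h : G)⁻¹ * y * h) * c) * (h : G)⁻¹ := by simp [mul_assoc]
      _ = h * (c * ((h : G)⁻¹ * y * h)) * (h : G)⁻¹ := by rw [this]
      _ = h * c * (h : G)⁻¹ * y := by simp [mul_assoc]
  have hfC' : f ∈ suppIn k C := fun x hx => hfC ▸ coeff_incl_of_notMem C fC hx
  obtain ⟨fh, hfh⟩ := exists_incl_eq_of_supp (suppIn_mono hCH hfC')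
  obtain ⟨ah, hah⟩ := exists_incl_eq_of_supp (suppIn_mono hCH haC)
  have hPH : P ≤ H := hPC.trans hCH
  have hinj := incl_injective H (k := k)
  have hfhfix : fh ∈ fixedBy k (⊤ : Subgroup H) := (incl_mem_fixedBy_iff _ _).1 (by
    rwa [map_subtype_top, hfh])
  have hCmap : (C.subgroupOf H).map H.subtype = C := Subgroup.map_subgroupOf_eq_of_le hCH
  have hPmap : (P.subgroupOf H).map H.subtype = P := Subgroup.map_subgroupOf_eq_of_le hPH
  have hahP : ah ∈ fixedBy k (P.subgroupOf H) := (incl_mem_fixedBy_iff _ _).1 (by rwa [hPmap, hah])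
  have hrelh : relTr (P.subgroupOf H) (C.subgroupOf H) ah = fh := hinj (by
    rw [incl_relTr _ _ hahP, hPmap, hCmap, hah, hrel, hfh])
  have hahC : ah ∈ suppIn k (C.subgroupOf H) := (incl_mem_suppIn_iff _ _).1 (by rwa [hCmap, hah])
  have hfhC : fh ∈ suppIn k (C.subgroupOf H) := (incl_mem_suppIn_iff _ _).1 (by rwa [hCmap, hfh])
  obtain ⟨fhC, hfhC'⟩ := exists_incl_eq_of_supp hfhC
  have hcoef : ∀ y, fC.coeff (Subgroup.subgroupOfEquivOfLe hCH y) = fhC.coeff y := fun y => by
    rw [← coeff_incl_coe C fC, hfC, ← coeff_incl_coe (C.subgroupOf H) fhC y, hfhC',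
      ← coeff_incl_coe H fh (y : H), hfh]
    rfl
  have honeh : OneIrr fhC := OneIrr.of_equiv (Subgroup.subgroupOfEquivOfLe hCH) hcoef hone
  have hffh : fh * fh = fh := hinj (by rw [map_mul, hfh, hff])
  have hf0h : fh ≠ 0 := fun h => hf0 (by rw [← hfh, h, map_zero])
  obtain ⟨e, x, d⟩ := exists_uniBlock (p := p)
    (show P.subgroupOf H ≤ C.subgroupOf H from fun y hy => hPC hy)
    (hP.of_equiv (Subgroup.subgroupOfEquivOfLe hPH).symm)
    ((Subgroup.subgroupOfEquivOfLe hPH).isCyclic.2 hcyc) hffh hf0h hfhfix hahC hahP hrelh hfhC' honeh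
  have hgen' : C.subgroupOf H ⊔ Subgroup.zpowers (⟨t, htH⟩ : H) = ⊤ :=
    Subgroup.map_injective H.subtype_injective (by
      rw [Subgroup.map_sup, hCmap, MonoidHom.map_zpowers, map_subtype_top]; exact hgen)
  obtain ⟨W, _, _, _, τ, hτ, hτne⟩ := exists_twists hgen' hk hffh hf0h hfhfix hfhC' honeh
  -- the maps into modules of the group
  let βH : MonoidAlgebra k H := Blocks.ofFun fun h => β.coeff (h : G)
  have hβH : ∀ h : H, βH.coeff h = β.coeff (h : G) := fun h => Blocks.coeff_ofFun _ _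
  have hτirr : ∀ i, Irr (τ i) := fun i => irr_of_irr_res (hτ i).1
  have hone' : ∀ i, (τ i).asAlgebraHom βH = 1 := fun i =>
    asAlgebraHom_trunc (p := p) hZP (hzC.trans hCH) hHNZ (hC.symm.le.trans hCH) hβ hbr hfh
      (hτirr i) (hτ i).2 hβH
  let zH : H := ⟨z, hCH (hzC (Subgroup.mem_zpowers z))⟩
  have hzH : orderOf zH = p := by rw [← hz]; exact (Subgroup.orderOf_coe zH).symm
  have hfix : ∀ i, τ i zH = 1 := fun i =>
    fix_of_normal (p := p) (hτirr i) (n := 1) (by rw [pow_one, ← hzH, pow_orderOf_eq_one]) fun g => by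
      obtain ⟨m, hm⟩ := Subgroup.mem_zpowers_iff.1
        ((Subgroup.mem_normalizer_iff.1 (hHNZ g.2) z).1 (Subgroup.mem_zpowers z))
      exact Subgroup.mem_zpowers_iff.2 ⟨m, Subtype.ext (by simpa [zH] using hm)⟩
  have hβc : ∀ y : MonoidAlgebra k G, β * y = y * β := fun y =>
    (centerIn_commute (H := ⊤) (fun w hw => absurd (Subgroup.mem_top w) hw) hβ).symm
  have hex : ∀ i, ∃ (S : Type (max u w)) (_ : AddCommGroup S) (_ : Module k S)
      (_ : FiniteDimensional k S) (σ : Representation k G S) (φ : W →ₗ[k] S),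
      Irr σ ∧ σ.asAlgebraHom β = 1 ∧ Intw (τ i) (res H σ) φ ∧ ¬ TrOne (τ i) (res H σ) φ := fun i => by
    haveI := (hτirr i).1
    exact exists_irr_not_trOne (p := p) hββ hβc hβH (hone' i) hzH (hfix i)
  choose S i1 i2 i3 σ φ hσ hσβ hφ hnot using hex
  have hidx' : (C.subgroupOf H).index = C.relIndex H := rfl
  refine ⟨fun i => S i, i1, i2, i3, σ, fun i => ⟨hσ i, hσβ i⟩, fun i j g hg hij => ?_⟩
  by_contra hg0
  letI := i1 i; letI := i2 i; letI := i1 j; letI := i2 j; haveI := i3 j
  have hbij : Function.Bijective g :=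
    ⟨injective_of_intw (hσ i) hg hg0, surjective_of_intw (hσ j) hg hg0⟩
  let E := LinearEquiv.ofBijective g hbij
  have hEs : Intw (res H (σ j)) (res H (σ i)) (E.symm : S j →ₗ[k] S i) := fun h y => E.injective (by
    show E (E.symm (σ j (h : G) y)) = g (σ i (h : G) (E.symm y))
    rw [hg (h : G), LinearEquiv.apply_symm_apply]
    exact congrArg (σ j (h : G)) (E.apply_symm_apply y).symm)
  have hgres : Intw (res H (σ i)) (res H (σ j)) g := fun h y => hg (h : G) y
  have hscale : ((C.relIndex H : k))⁻¹ • a ∈ fixedBy k P := (fixedBy k P).smul_mem ha _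
  have hrelH : relTr P H ((C.relIndex H : k)⁻¹ • a) = f := by
    rw [← relTr_trans hPC hCH hscale]
    letI := Fintype.ofFinite (H ⧸ C.subgroupOf H)
    letI := Fintype.ofFinite (C ⧸ P.subgroupOf C)
    have h1 : relTr P C ((C.relIndex H : k)⁻¹ • a) = (C.relIndex H : k)⁻¹ • f := by
      rw [← hrel, relTr, relTr, Finset.smul_sum]
      exact Finset.sum_congr rfl fun q _ => map_smul _ _ _
    rw [h1, relTr, Finset.sum_congr rfl fun q _ => show
      conjEl ((q.out : H) : G) ((C.relIndex H : k)⁻¹ • f) = (C.relIndex H : k)⁻¹ • f by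
        rw [map_smul, hfH _ (q.out : H).2], Finset.sum_const, Finset.card_univ,
      ← Nat.card_eq_fintype_card, show Nat.card (H ⧸ C.subgroupOf H) = C.relIndex H from rfl,
      ← Nat.cast_smul_eq_nsmul k, smul_inv_smul₀ hk]
  refine eq_of_not_trOne hPH hHN hk hff hfH hscale hrelH hout hTI hfh d (hσ j) (hτ i).1
    (hτ i).2 (hτ j).1 (hτ j).2 (hτne j i (Ne.symm hij)) (hτne i j hij)
    (φ := g.comp (φ i)) (fun h y => ?_) (hφ j) ?_ (hnot j)
  · show g (φ i (τ i h y)) = res H (σ j) h (g (φ i y))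
    rw [hφ i h y, hgres]
  · intro h
    refine hnot i ?_
    have h2 := h.comp_left hEs
    rwa [show (E.symm : S j →ₗ[k] S i).comp (g.comp (φ i)) = φ i from
      LinearMap.ext fun y => E.symm_apply_apply (φ i y)] at h2

end group

section final

variable {G : Type u} [Group G] [Fintype G] {M : Ideal AlgInt} [M.IsMaximal] {p : ℕ}
  [hp : Fact p.Prime] [CharP (AlgInt ⧸ M) p] {B : Set (IrrCharacter G)}

set_option maxHeartbeats 800000 in
/-- The inertial index is at most the rank of the block. -/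
theorem relIndex_le_blockRank (hB : IsPBlock M B) {z : G} (hz : orderOf z = p)
    {P C H N : Subgroup G} (hC : C = Subgroup.centralizer (Subgroup.zpowers z : Set G))
    (hN : N = Subgroup.normalizer (Subgroup.zpowers z : Set G)) (hCH : C ≤ H) (hHN : H ≤ N)
    {t : G} (htH : t ∈ H) (hgen : C ⊔ Subgroup.zpowers t = H) (hidx : ¬ p ∣ C.relIndex H)
    (hPC : P ≤ C) (hP : IsPGroup p P) (hcyc : IsCyclic P) {b : Set (IrrCharacter C)}
    (hb : IsPBlock M b) (hb1 : blockRank p b ≤ 1) (hfH : blk M C b ∈ fixedBy (AlgInt ⧸ M) H)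
    {a : MonoidAlgebra (AlgInt ⧸ M) G} (haC : a ∈ suppIn (AlgInt ⧸ M) C)
    (ha : a ∈ fixedBy (AlgInt ⧸ M) P) (hrel : relTr P C a = blk M C b)
    (hbr : br (Subgroup.zpowers z) (blkG M B) * blk M C b = blk M C b)
    (hout : ∀ g ∈ N, g ∉ H → blk M C b * conjEl g (blk M C b) = 0)
    (hTI : ∀ g : G, g ∉ N → ∀ u ∈ P, g⁻¹ * u * g ∈ P → u = 1) :
    C.relIndex H ≤ blockRank p B := by
  haveI := isAlgClosed_residue (M := M)
  letI := Fintype.ofFinite C
  have hblk := isBlockIdem_blk C hb
  have hB' := isBlockIdem_blkG hB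
  obtain ⟨S, i1, i2, i3, σ, hσ, hne⟩ := exists_family (k := AlgInt ⧸ M) hz hC hN hCH hHN htH hgen hidx hPC hP hcyc
    (blkG_mul_self hB) hB'.mem.2 hblk.idem hblk.ne_zero hfH haC ha hrel hbr hout hTI
    (fC := blkG M b) rfl (oneIrr_blkG hb hb1)
  letI := i1; letI := i2; haveI := i3
  simpa using card_le_blockRank hB (X := S) (τ := σ) (fun i => (hσ i).1) (fun i => (hσ i).2) hne

end final

end Cfsg.Agent.Blocks.CyclicDefect
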