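import Cfsg.Agent.Lib.Blocks.CyclicDefect.Main
import Mathlib.RingTheory.ZMod.UnitsCyclic

/-!
# The inertial action depends only on the inertial index

The orbits of the inertial group on a cyclic defect group `P`, and its classes on the characters
of `P`, are those of `{σ ∈ Aut P | σ^e = 1}`.
-/

set_option autoImplicit false
set_option linter.unusedSectionVars false
set_option linter.style.haveILetI false

namespace Cfsg.Agent.Blocks.CyclicDefect

open Cfsg Cfsg.Agent.BrauerPairs
open scoped Classical ComplexConjugate Cfsg.Agent.Blocks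

universe u v

variable {G : Type u} [Group G] [Fintype G] {M : Ideal AlgInt} [M.IsMaximal] {p : ℕ}
  [hp : Fact p.Prime] [CharP (AlgInt ⧸ M) p]
variable {B : Set (IrrCharacter G)} {P : Subgroup G}
  {c : Set (IrrCharacter (Subgroup.centralizer (P : Set G)))}

namespace Datum

variable (d : Datum M p B P c)
include d

/-- The inertial group acting on `P`. -/
noncomputable def act : inGroup M P c →* MulAut P where
  toFun t := (d.conjP t).symm
  map_one' := MulEquiv.ext fun u => Subtype.ext (by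
    show ((1 : inGroup M P c) : G) * u * ((1 : inGroup M P c) : G)⁻¹ = u
    simp)
  map_mul' a b := MulEquiv.ext fun u => Subtype.ext (by
    show ((a * b : inGroup M P c) : G) * u * ((a * b : inGroup M P c) : G)⁻¹ =
      (a : G) * ((b : G) * u * (b : G)⁻¹) * (a : G)⁻¹
    push_cast
    group)

theorem act_apply (t : inGroup M P c) (u : P) :
    ((d.act t u : P) : G) = (t : G) * u * (t : G)⁻¹ := rfl

theorem act_pow (t : inGroup M P c) : d.act t ^ inIndex M P c = 1 := by
  haveI := d.normal_centralizer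
  have h := Subgroup.pow_index_mem ((Subgroup.centralizer (P : Set G)).subgroupOf (inGroup M P c)) t
  have hC := Subgroup.mem_subgroupOf.1 h
  rw [← map_pow]
  refine MulEquiv.ext fun u => Subtype.ext ?_
  rw [d.act_apply]
  show _ = (u : G)
  rw [show inIndex M P c = ((Subgroup.centralizer (P : Set G)).subgroupOf (inGroup M P c)).index from rfl,
    ← Subgroup.mem_centralizer_iff.1 hC u u.2, mul_inv_cancel_right]

theorem card_pow_eq_one_le :
    (Finset.univ.filter fun σ : MulAut P => σ ^ inIndex M P c = 1).card ≤ inIndex M P c := by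
  by_cases hE : inIndex M P c = 1
  · rw [hE]
    simp only [pow_one]
    rw [Finset.filter_eq', if_pos (Finset.mem_univ _), Finset.card_singleton]
  have hp2 : p ≠ 2 := fun h => by
    subst h
    exact hE (Nat.dvd_one.1 d.dvd_pred)
  haveI := d.cyc
  obtain ⟨n, hn⟩ := IsPGroup.iff_card.1 d.isPGroup
  haveI : IsCyclic (ZMod (Nat.card P))ˣ := by
    rw [hn]; exact ZMod.isCyclic_units_of_prime_pow p hp.out hp2 n
  haveI : IsCyclic (MulAut P) :=
    isCyclic_of_surjective (IsCyclic.mulAutMulEquiv P).symm.toMonoidHom (MulEquiv.surjective _)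
  exact IsCyclic.card_pow_eq_one_le d.inIndex_pos

theorem mem_orb_iff_aut {u v : P} (hu : u ≠ 1) :
    v ∈ d.orb u ↔ ∃ σ : MulAut P, σ ^ inIndex M P c = 1 ∧ σ u = v := by
  set A := Finset.univ.filter fun σ : MulAut P => σ ^ inIndex M P c = 1
  have hsub : d.orb u ⊆ A.image fun σ => σ u := fun w hw => by
    obtain ⟨t, ht, htw⟩ := d.mem_orb.1 hw
    exact Finset.mem_image.2 ⟨d.act ⟨t, ht⟩, Finset.mem_filter.2 ⟨Finset.mem_univ _, d.act_pow _⟩,
      Subtype.ext htw.symm⟩
  rw [Finset.eq_of_subset_of_card_le hsub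
    (Finset.card_image_le.trans (d.card_pow_eq_one_le.trans (d.card_orb hu).ge))]
  simp [A]

theorem mem_cls_iff_aut {l m : IrrCharacter P} (hl : l ≠ Char.trivialChar P) :
    m ∈ d.cls l ↔ ∃ σ : MulAut P, σ ^ inIndex M P c = 1 ∧ compIrr σ l = m := by
  set A := Finset.univ.filter fun σ : MulAut P => σ ^ inIndex M P c = 1
  have hsub : d.cls l ⊆ A.image fun σ : MulAut P => compIrr σ l := fun w hw => by
    obtain ⟨t, rfl⟩ := d.mem_cls.1 hw
    refine Finset.mem_image.2 ⟨d.act t⁻¹, Finset.mem_filter.2 ⟨Finset.mem_univ _, d.act_pow _⟩,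
      Subtype.ext (funext fun u => ?_)⟩
    rw [compIrr_apply, d.twist_apply]
    refine congrArg l.1 (Subtype.ext ?_)
    rw [d.act_apply]
    show ((t⁻¹ : inGroup M P c) : G) * u * ((t⁻¹ : inGroup M P c) : G)⁻¹ = (t : G)⁻¹ * u * t
    push_cast
    rw [inv_inv]
  rw [Finset.eq_of_subset_of_card_le hsub
    (Finset.card_image_le.trans (d.card_pow_eq_one_le.trans (d.card_cls hl).ge))]
  simp [A]

theorem inv_mem_orb {u v : P} : v⁻¹ ∈ d.orb u⁻¹ ↔ v ∈ d.orb u := by
  simp only [d.mem_orb, Subgroup.coe_inv]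
  refine exists_congr fun t => and_congr_right fun _ => ?_
  rw [← conj_inv, inv_inj]

theorem sum_orb_inv (l : IrrCharacter P) (u : P) :
    ∑ w ∈ d.orb u⁻¹, l.1 w = conj (∑ w ∈ d.orb u, l.1 w) := by
  rw [map_sum]
  refine Finset.sum_nbij' (·⁻¹) (·⁻¹) (fun w hw => ?_) (fun w hw => ?_) (fun w _ => inv_inv w)
    (fun w _ => inv_inv w) fun w _ => ?_
  · exact d.inv_mem_orb.1 (by simpa using hw)
  · exact d.inv_mem_orb.2 hw
  · rw [Char.IsCharacter.conj_apply (Char.irr_isCharacter l), inv_inv]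

variable {H : Type v} [Group H] [Fintype H] {B' : Set (IrrCharacter H)} {P' : Subgroup H}
  {c' : Set (IrrCharacter (Subgroup.centralizer (P' : Set H)))}

theorem orb_map (d' : Datum M p B' P' c') (hE : inIndex M P' c' = inIndex M P c) (φ : P' ≃* P)
    {u v : P'} (hu : u ≠ 1) : v ∈ d'.orb u ↔ φ v ∈ d.orb (φ u) := by
  rw [d'.mem_orb_iff_aut hu, d.mem_orb_iff_aut (by simpa using hu), hE]
  constructor
  · rintro ⟨σ, hσ, rfl⟩
    exact ⟨MulAut.congr φ σ, by rw [← map_pow, hσ, map_one], by simp [MulAut.congr]⟩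
  · rintro ⟨σ, hσ, hσu⟩
    exact ⟨(MulAut.congr φ).symm σ, by rw [← map_pow, hσ, map_one],
      φ.injective (by simp [MulAut.congr, hσu])⟩

theorem compIrr_ne_trivial {φ : P' ≃* P} {l : IrrCharacter P} (hl : l ≠ Char.trivialChar P) :
    compIrr φ l ≠ Char.trivialChar P' := fun h => hl <| (compIrr φ).injective <| h.trans <|
  Subtype.ext (funext fun _ => rfl)

theorem cls_map (d' : Datum M p B' P' c') (hE : inIndex M P' c' = inIndex M P c) (φ : P' ≃* P)
    {l m : IrrCharacter P} (hl : l ≠ Char.trivialChar P) :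
    compIrr φ m ∈ d'.cls (compIrr φ l) ↔ m ∈ d.cls l := by
  rw [d'.mem_cls_iff_aut (d.compIrr_ne_trivial hl), d.mem_cls_iff_aut hl, hE]
  constructor
  · rintro ⟨σ, hσ, h⟩
    refine ⟨MulAut.congr φ σ, by rw [← map_pow, hσ, map_one], ?_⟩
    refine (compIrr φ).injective (h ▸ Subtype.ext (funext fun u => ?_))
    simp [MulAut.congr]
  · rintro ⟨σ, hσ, rfl⟩
    exact ⟨(MulAut.congr φ).symm σ, by rw [← map_pow, hσ, map_one],
      Subtype.ext (funext fun u => by simp [MulAut.congr])⟩

end Datum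

end Cfsg.Agent.Blocks.CyclicDefect
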