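import Cfsg.Agent.Lib.Blocks.CyclicDefect.Theta

/-!
# The orthogonality relations of a block with cyclic defect group

With `θ` from `exists_theta`:
* `identity`: `|P| e δ = |P| e ⟨χ°, ψ⟩ + Σ_{u ≠ 1} θ χ u * conj (θ ψ u)`;
* `reg_orth`: `Σ_ψ ⟨χ°, ψ⟩ θ ψ u = 0`;
* `column_orth`: the columns of `θ` are orthogonal, of norm `|P|`, up to the inertial group;
* `card_eq`: `e k(B) + 1 = e l(B) + |P|`.
-/

set_option autoImplicit false
set_option linter.unusedSectionVars false
set_option linter.style.haveILetI false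

namespace Cfsg.Agent.Blocks.CyclicDefect

open Cfsg Blocks MonoidAlgebra
open Cfsg.Agent.BrauerPairs (blk blkG IsBlockIdem br conjEl conjPair IsMax PLE stabOf hasBlocks incl
  isBlockIdem_blkG regDot IsPairOf)
open Cfsg.Agent.Blocks.NilRank (sectF eU blkSet secPairs)
open scoped Classical ComplexConjugate

universe u

variable {G : Type u} [Group G] [Fintype G] {M : Ideal AlgInt} [M.IsMaximal] {p : ℕ}
  [hp : Fact p.Prime] [CharP (AlgInt ⧸ M) p]

/-- The size of an image whose fibres are cosets. -/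
theorem card_image_mul_card {T C : Subgroup G} (hCT : C ≤ T) {X : Type*} (f : T → X)
    (hf : ∀ a b : T, f a = f b ↔ (a : G)⁻¹ * b ∈ C) :
    (Finset.univ.image f).card * Nat.card C = Nat.card T := by
  rw [Nat.card_eq_fintype_card (α := T), ← Finset.card_univ (α := T),
    Finset.card_eq_sum_card_image f Finset.univ, Finset.sum_const_nat]
  intro x hx
  obtain ⟨a, -, rfl⟩ := Finset.mem_image.1 hx
  rw [Nat.card_eq_fintype_card, ← Finset.card_univ]
  symm
  refine Finset.card_bij (fun c _ => a * ⟨(c : G), hCT c.2⟩) (fun c _ => ?_) (fun c _ c' _ h => ?_)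
    fun b hb => ?_
  · refine Finset.mem_filter.2 ⟨Finset.mem_univ _, ((hf _ _).2 ?_).symm⟩
    simp
  · exact Subtype.ext (congrArg (fun y : T => (y : G)) (mul_left_cancel h))
  · refine ⟨⟨_, (hf a b).1 (Finset.mem_filter.1 hb).2.symm⟩, Finset.mem_univ _, Subtype.ext ?_⟩
    show (a : G) * ((a : G)⁻¹ * b) = b
    rw [mul_inv_cancel_left]

variable {B : Set (IrrCharacter G)} {P : Subgroup G}
  {c : Set (IrrCharacter (Subgroup.centralizer (P : Set G)))}

namespace Datum

variable (d : Datum M p B P c)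
include d

theorem rank_eU {u : G} (hu : u ∈ P) (hu1 : u ≠ 1) :
    blockRank p (blkSet M (Subgroup.centralizer ({u} : Set G))
      (eU p P (blk M (Subgroup.centralizer (P : Set G)) c) u)) = 1 := by
  have hQ1 : Subgroup.zpowers u ≠ ⊥ := fun h => hu1 (Subgroup.zpowers_eq_bot.1 h)
  obtain ⟨f, hf, hfq, -, -, hr, -⟩ := d.exists_local (Subgroup.zpowers_le.2 hu) hQ1
  have h : blockRank p (blkSet M (Subgroup.centralizer (Subgroup.zpowers u : Set G))
      (eU p P (blk M (Subgroup.centralizer (P : Set G)) c) u)) = 1 := by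
    rw [NilRank.eU_eq d.isMax.1.1 hu hfq, NilRank.blkSet_blk hf, hr]
  rw [Blocks.centralizer_zpowers_eq] at h
  exact h

/-- An element of `C(u) ∩ T`, `u ≠ 1`, centralizes `P`. -/
theorem mem_centralizer_of_fix {u t : G} (hu : u ∈ P) (hu1 : u ≠ 1) (ht : t ∈ inGroup M P c)
    (h : t ∈ Subgroup.centralizer ({u} : Set G)) : t ∈ Subgroup.centralizer (P : Set G) :=
  d.free ht hu hu1 (by rw [Subgroup.mem_centralizer_singleton_iff.1 h, mul_inv_cancel_right])

theorem card_inGroup : inIndex M P c * Nat.card (Subgroup.centralizer (P : Set G)) =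
    Nat.card (inGroup M P c) := by
  rw [mul_comm, ← Nat.card_congr (Subgroup.subgroupOfEquivOfLe d.centralizer_le).toEquiv]
  exact Subgroup.card_mul_index _

/-- The orbit of a nontrivial element. -/
noncomputable def orb (u : P) : Finset P :=
  Finset.univ.image fun t : inGroup M P c => (⟨(t : G) * u * (t : G)⁻¹, d.conj_mem t.2 u.2⟩ : P)

theorem mem_orb {u v : P} : v ∈ d.orb u ↔ ∃ t ∈ inGroup M P c, (v : G) = t * u * t⁻¹ := by
  simp only [orb, Finset.mem_image, Finset.mem_univ, true_and]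
  exact ⟨fun ⟨t, ht⟩ => ⟨t, t.2, (congrArg Subtype.val ht).symm⟩,
    fun ⟨t, ht, h⟩ => ⟨⟨t, ht⟩, Subtype.ext h.symm⟩⟩

theorem conj_eq_iff {u : P} (hu : u ≠ 1) (a b : inGroup M P c) :
    (⟨(a : G) * u * (a : G)⁻¹, d.conj_mem a.2 u.2⟩ : P) =
      ⟨(b : G) * u * (b : G)⁻¹, d.conj_mem b.2 u.2⟩ ↔
      (a : G)⁻¹ * b ∈ Subgroup.centralizer (P : Set G) := by
  constructor
  · intro h
    refine d.mem_centralizer_of_fix u.2 (fun h1 => hu (Subtype.ext h1)) (mul_mem (inv_mem a.2) b.2)
      (Subgroup.mem_centralizer_singleton_iff.2 ?_)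
    have h' : (a : G) * u * (a : G)⁻¹ = b * u * (b : G)⁻¹ := congrArg Subtype.val h
    calc (a : G)⁻¹ * b * u = (a : G)⁻¹ * (b * u * (b : G)⁻¹) * b := by group
      _ = u * ((a : G)⁻¹ * b) := by rw [← h']; group
  · intro h
    have h1 : (a : G)⁻¹ * b * u = u * ((a : G)⁻¹ * b) :=
      (Subgroup.mem_centralizer_iff.1 h u u.2).symm
    refine Subtype.ext ?_
    show (a : G) * u * (a : G)⁻¹ = b * u * (b : G)⁻¹
    calc (a : G) * u * (a : G)⁻¹ = a * (u * ((a : G)⁻¹ * b)) * (b : G)⁻¹ := by group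
      _ = b * u * (b : G)⁻¹ := by rw [← h1]; group

theorem card_orb {u : P} (hu : u ≠ 1) : (d.orb u).card = inIndex M P c := by
  have h := card_image_mul_card d.centralizer_le
    (fun t : inGroup M P c => (⟨(t : G) * u * (t : G)⁻¹, d.conj_mem t.2 u.2⟩ : P)) (d.conj_eq_iff hu)
  refine Nat.eq_of_mul_eq_mul_right (Nat.card_pos (α := Subgroup.centralizer (P : Set G))) ?_
  convert h.trans d.card_inGroup.symm using 4
  unfold orb; congr 1; exact Subsingleton.elim _ _

set_option maxHeartbeats 1600000 in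
/-- The orthogonality relation in terms of the subsections. -/
theorem identity {θ : IrrCharacter G → P → ℂ}
    (hθ : ∀ χ ψ : IrrCharacter G, ∀ u : P, u ≠ 1 →
      (Nat.card P : ℂ) * sectF p (Subgroup.centralizer ({(u : G)} : Set G)) u
          (blkSet M _ (eU p P (blk M (Subgroup.centralizer (P : Set G)) c) u)) χ.1 ψ.1 =
        θ χ u * conj (θ ψ u))
    {χ : IrrCharacter G} (hχ : χ ∈ B) (ψ : IrrCharacter G) :
    (Nat.card P : ℂ) * inIndex M P c * (if χ = ψ then 1 else 0) =
      (Nat.card P : ℂ) * inIndex M P c * regDot p χ.1 ψ.1 +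
        ∑ u ∈ Finset.univ.filter (fun u : P => u ≠ 1), θ χ u * conj (θ ψ u) := by
  have hpM := d.modular.2.2
  have hblk : ∀ H : Subgroup G, BrauerPairs.HasBlocks (AlgInt ⧸ M) H := fun H => hasBlocks M H
  have hBi := isBlockIdem_blkG d.block
  set e := blk M (Subgroup.centralizer (P : Set G)) c with he
  let F : G × MonoidAlgebra (AlgInt ⧸ M) G → ℂ := fun q =>
    (Nat.card (Subgroup.centralizer ({q.1} : Set G)) : ℂ) *
      sectF p (Subgroup.centralizer ({q.1} : Set G)) q.1
        (blkSet M (Subgroup.centralizer ({q.1} : Set G)) q.2) χ.1 ψ.1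
  have hmain : (Nat.card G : ℂ) * (if χ = ψ then 1 else 0) = ∑ q ∈ secPairs M p B, F q := by
    rw [← Char.classInner_irr]
    exact NilRank.classInner_eq_sum_secPairs (p := p) hpM d.block hχ ψ
  -- the pair at `1`
  have hone : (secPairs M p B).filter (fun q => q.1 = 1) = {((1 : G), eU p P e 1)} := by
    have hz : Subgroup.centralizer ({(1 : G)} : Set G) = ⊤ := NilRank.centralizer_one_eq_top
    have hbr : br (Subgroup.zpowers (1 : G)) (blkG M B) = blkG M B :=
      BrauerPairs.br_eq_self fun g hg => absurd (by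
        rw [centralizer_zpowers_eq, hz]; exact Subgroup.mem_top g) hg
    have heq : ∀ f, IsPairOf p (blkG M B) (Subgroup.zpowers (1 : G), f) → f = blkG M B := by
      rintro f ⟨⟨-, hf⟩, h⟩
      rw [hbr] at h
      have hf' : IsBlockIdem (Subgroup.centralizer ({(1 : G)} : Set G)) f :=
        centralizer_zpowers_eq (x := (1 : G)) ▸ hf
      exact BrauerPairs.IsBlockIdem.eq_of_mul_ne_zero (hz ▸ hf') hBi (by rw [h]; exact hf.ne_zero)
    have h1 := NilRank.isPairOf_eU hBi d.isMax.1 (one_mem P)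
    ext ⟨x, f⟩
    simp only [Finset.mem_filter, Finset.mem_singleton, Prod.mk.injEq, NilRank.mem_secPairs hpM d.block]
    constructor
    · rintro ⟨⟨-, hf⟩, rfl⟩
      exact ⟨rfl, (heq f hf).trans (heq _ h1).symm⟩
    · rintro ⟨rfl, rfl⟩
      exact ⟨⟨⟨0, by rw [orderOf_one, pow_zero]⟩, h1⟩, rfl⟩
  have hF1 : F (1, eU p P e 1) = (Nat.card G : ℂ) * regDot p χ.1 ψ.1 := by
    have hz : Subgroup.centralizer ({(1 : G)} : Set G) = ⊤ := NilRank.centralizer_one_eq_top
    have hcard : Nat.card (Subgroup.centralizer ({(1 : G)} : Set G)) = Nat.card G :=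
      Nat.card_congr ((MulEquiv.subgroupCongr hz).trans Subgroup.topEquiv).toEquiv
    haveI := Fintype.ofFinite (Subgroup.centralizer ({(1 : G)} : Set G))
    show (Nat.card (Subgroup.centralizer ({(1 : G)} : Set G)) : ℂ) * sectF p _ (1 : G) _ _ _ = _
    rw [hcard, ← NilRank.blkSet_eU_central hpM d.block d.isMax.1 (one_mem P) hz, sectF,
      finsum_eq_sum_of_fintype, regDot, classInner, hcard]
    congr 2
    refine Fintype.sum_equiv (MulEquiv.subgroupCongr hz |>.trans Subgroup.topEquiv).toEquiv _ _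
      fun s => ?_
    show _ = Char.regFun p χ.1 (s : G) * conj (ψ.1 (s : G))
    by_cases hs : IsPRegular p s
    · have hs' : ¬ p ∣ orderOf (s : G) := by rw [Subgroup.orderOf_coe]; exact hs
      have hg : IsPPart p (1 * (s : G)) 1 :=
        isPPart_mul (Commute.one_left _) ⟨0, by rw [orderOf_one, pow_zero]⟩ hs'
      have h := chiL_inducingSet hpM ⟨0, by rw [orderOf_one, pow_zero]⟩ d.block χ
        (g := (⟨1 * (s : G), mul_mem (one_mem _) s.2⟩ : Subgroup.centralizer ({(1 : G)} : Set G))) hg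
      rw [if_pos hχ] at h
      rw [if_pos hs, h, Char.regFun, if_neg hs']
      simp only [one_mul]
    · have hs' : p ∣ orderOf (s : G) := by rw [Subgroup.orderOf_coe]; exact not_not.1 hs
      rw [if_neg hs, Char.regFun, if_pos hs', zero_mul]
  -- the other pairs
  let X := {u : P // u ≠ 1}
  let q : G × X → G × MonoidAlgebra (AlgInt ⧸ M) G := fun gu =>
    (gu.1 * gu.2.1 * gu.1⁻¹, conjEl gu.1 (eU p P e gu.2.1))
  have hmem : ∀ gu, q gu ∈ (secPairs M p B).filter (fun q => ¬ q.1 = 1) := fun gu => by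
    have hpair := (NilRank.isPairOf_eU hBi d.isMax.1 gu.2.1.2).conj hBi gu.1
    rw [show conjPair gu.1 (Subgroup.zpowers (gu.2.1 : G), eU p P e gu.2.1) =
      (Subgroup.zpowers (q gu).1, (q gu).2) from Prod.ext (NilRank.map_conj_zpowers _ _) rfl] at hpair
    refine Finset.mem_filter.2 ⟨(NilRank.mem_secPairs hpM d.block _).2 ⟨?_, hpair⟩, fun h => gu.2.2 ?_⟩
    · obtain ⟨k, hk⟩ := NilRank.exists_orderOf_mem d.isPGroup gu.2.1.2
      exact ⟨k, by
        show orderOf (MulAut.conj gu.1 (gu.2.1 : G)) = _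
        rw [MulEquiv.orderOf_eq, hk]⟩
    · refine Subtype.ext ?_
      show (gu.2.1 : G) = 1
      simpa [q, mul_assoc] using congrArg (fun y => gu.1⁻¹ * y * gu.1) h
  have hFq : ∀ gu : G × X, F (q gu) =
      (Nat.card (Subgroup.centralizer ({(q gu).1} : Set G)) : ℂ) *
        sectF p (Subgroup.centralizer ({(gu.2.1 : G)} : Set G)) gu.2.1
          (blkSet M (Subgroup.centralizer ({(gu.2.1 : G)} : Set G)) (eU p P e gu.2.1)) χ.1 ψ.1 := by
    rintro ⟨g, u⟩
    have hH := mem_centralizer_singleton_conj (G := G) g (u.1 : G)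
    show (Nat.card (Subgroup.centralizer ({g * (u.1 : G) * g⁻¹} : Set G)) : ℂ) *
      sectF p _ (g * (u.1 : G) * g⁻¹) (blkSet M _ (conjEl g (eU p P e u.1))) _ _ = _
    rw [NilRank.blkSet_conj d.isMax.1.1 u.1.2 g hH, NilRank.sectF_conj g hH]
  have hfib : ∀ y ∈ (secPairs M p B).filter (fun q => ¬ q.1 = 1),
      (Finset.univ.filter (fun gu => q gu = y)).card =
        Nat.card (Subgroup.centralizer ({y.1} : Set G)) * inIndex M P c := by
    intro y hy
    obtain ⟨hy0, hy1⟩ := Finset.mem_filter.1 hy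
    obtain ⟨-, hy2⟩ := (NilRank.mem_secPairs hpM d.block y).1 hy0
    obtain ⟨g₁, hg₁⟩ := BrauerPairs.exists_conj_ple hblk hBi d.isMax hy2
    have hu0 : g₁ * y.1 * g₁⁻¹ ∈ P := by
      refine PLE.le hg₁ ?_
      show _ ∈ (Subgroup.zpowers y.1).map (MulAut.conj g₁).toMonoidHom
      exact ⟨y.1, Subgroup.mem_zpowers _, rfl⟩
    set u₀ : P := ⟨g₁ * y.1 * g₁⁻¹, hu0⟩ with hu₀
    have hu01 : u₀ ≠ 1 := fun h => hy1 (by
      simpa [hu₀, mul_assoc] using congrArg (fun w : P => g₁⁻¹ * (w : G) * g₁) h)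
    have he0 : eU p P e u₀ = conjEl g₁ y.2 := by
      refine NilRank.eU_eq d.isMax.1.1 hu0 ?_
      rwa [show conjPair g₁ (Subgroup.zpowers y.1, y.2) = (Subgroup.zpowers (u₀ : G), conjEl g₁ y.2)
        from Prod.ext (NilRank.map_conj_zpowers _ _) rfl] at hg₁
    set Cu := Subgroup.centralizer ({(u₀ : G)} : Set G) with hCu
    let π : Cu × inGroup M P c → G × X := fun ct =>
      (g₁⁻¹ * (ct.1 : G) * (ct.2 : G)⁻¹, ⟨⟨(ct.2 : G) * u₀ * (ct.2 : G)⁻¹, d.conj_mem ct.2.2 u₀.2⟩,
        fun h => hu01 (Subtype.ext (by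
          simpa [mul_assoc] using congrArg (fun w : P => (ct.2 : G)⁻¹ * (w : G) * ct.2) h))⟩)
    have hπq : ∀ ct, q (π ct) = y := by
      rintro ⟨a, t⟩
      have ha : (a : G) * u₀ * (a : G)⁻¹ = u₀ := by
        rw [Subgroup.mem_centralizer_singleton_iff.1 a.2, mul_inv_cancel_right]
      refine Prod.ext ?_ ?_
      · show g₁⁻¹ * (a : G) * (t : G)⁻¹ * ((t : G) * u₀ * (t : G)⁻¹) * (g₁⁻¹ * (a : G) * (t : G)⁻¹)⁻¹ = y.1
        calc _ = g₁⁻¹ * ((a : G) * u₀ * (a : G)⁻¹) * g₁ := by group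
          _ = y.1 := by rw [ha]; simp [hu₀, mul_assoc]
      · show conjEl (g₁⁻¹ * (a : G) * (t : G)⁻¹) (eU p P e ((t : G) * u₀ * (t : G)⁻¹)) = y.2
        rw [d.eU_stab t.2 u₀.2, BrauerPairs.conjEl_mul, BrauerPairs.conjEl_inv_conjEl,
          BrauerPairs.conjEl_mul, NilRank.conjEl_eU_of_mem d.isMax.1.1 u₀.2 a.2, he0,
          BrauerPairs.conjEl_inv_conjEl]
    have hsurj : ∀ gu, q gu = y → ∃ ct, π ct = gu := by
      rintro ⟨g, ⟨u, hu⟩⟩ h
      have h1 : g₁ * g * (u : G) * (g₁ * g)⁻¹ = u₀ := by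
        rw [hu₀]
        show _ = g₁ * y.1 * g₁⁻¹
        rw [← h]
        show _ = g₁ * (g * u * g⁻¹) * g₁⁻¹
        group
      have h2 : conjEl (g₁ * g) (eU p P e u) = eU p P e u₀ := by
        rw [he0, ← h, BrauerPairs.conjEl_mul]
      have hg : PLE p (conjPair (g₁ * g) (Subgroup.zpowers (u : G), eU p P e u)) (P, e) := by
        rw [show conjPair (g₁ * g) (Subgroup.zpowers (u : G), eU p P e u) =
          (Subgroup.zpowers (u₀ : G), eU p P e u₀) from
          Prod.ext (by rw [← h1]; exact NilRank.map_conj_zpowers _ _) h2]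
        exact NilRank.eU_spec d.isMax.1.1 u₀.2
      obtain ⟨k, hk, hkg⟩ := BrauerPairs.exists_mul_mem_stabOf_of_comm hblk hBi d.isMax d.le_centralizer
        (NilRank.eU_spec d.isMax.1.1 u.2) hg
      rw [NilRank.map_conj_zpowers, h1, centralizer_zpowers_eq] at hk
      set t : inGroup M P c := ⟨(k * (g₁ * g))⁻¹, inv_mem hkg⟩ with ht
      refine ⟨(⟨k⁻¹, inv_mem hk⟩, t), Prod.ext ?_ (Subtype.ext (Subtype.ext ?_))⟩
      · show g₁⁻¹ * k⁻¹ * ((k * (g₁ * g))⁻¹)⁻¹ = g
        group
      · show (k * (g₁ * g))⁻¹ * (u₀ : G) * ((k * (g₁ * g))⁻¹)⁻¹ = u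
        have hku : k⁻¹ * (u₀ : G) * k = u₀ := by
          rw [mul_assoc, ← Subgroup.mem_centralizer_singleton_iff.1 hk, inv_mul_cancel_left]
        calc _ = (g₁ * g)⁻¹ * (k⁻¹ * u₀ * k) * (g₁ * g) := by group
          _ = u := by rw [hku, ← h1]; group
    have himg : Finset.univ.filter (fun gu => q gu = y) = Finset.univ.image π := by
      ext gu
      simp only [Finset.mem_filter, Finset.mem_univ, true_and, Finset.mem_image]
      exact ⟨fun h => hsurj gu h, fun ⟨ct, h⟩ => h ▸ hπq ct⟩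
    have hcount : (Finset.univ.image π).card * Nat.card (Subgroup.centralizer (P : Set G)) =
        Nat.card Cu * Nat.card (inGroup M P c) := by
      rw [← Nat.card_prod, Nat.card_eq_fintype_card (α := Cu × inGroup M P c),
        ← Finset.card_univ (α := Cu × inGroup M P c), Finset.card_eq_sum_card_image π Finset.univ,
        Finset.sum_const_nat]
      intro x hx
      obtain ⟨⟨a, t⟩, -, rfl⟩ := Finset.mem_image.1 hx
      rw [Nat.card_eq_fintype_card, ← Finset.card_univ]
      symm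
      have hsub : ∀ x : Subgroup.centralizer (P : Set G), (x : G) ∈ Cu := fun x =>
        Subgroup.mem_centralizer_singleton_iff.2 (Subgroup.mem_centralizer_iff.1 x.2 u₀ u₀.2).symm
      refine Finset.card_bij
        (fun x _ => (a * ⟨(x : G), hsub x⟩, t * ⟨(x : G), d.centralizer_le x.2⟩)) (fun x _ => ?_)
        (fun x _ x' _ h => Subtype.ext (congrArg Subtype.val (mul_left_cancel (congrArg Prod.snd h)) :))
        fun ct hct => ?_
      · refine Finset.mem_filter.2 ⟨Finset.mem_univ _, Prod.ext ?_ (Subtype.ext (Subtype.ext ?_))⟩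
        · show g₁⁻¹ * ((a : G) * x) * ((t : G) * x)⁻¹ = g₁⁻¹ * (a : G) * (t : G)⁻¹
          group
        · show (t : G) * x * u₀ * ((t : G) * x)⁻¹ = (t : G) * u₀ * (t : G)⁻¹
          calc _ = (t : G) * ((x : G) * u₀ * (x : G)⁻¹) * (t : G)⁻¹ := by group
            _ = _ := by rw [Subgroup.mem_centralizer_singleton_iff.1 (hsub x), mul_inv_cancel_right]
      · obtain ⟨a', t'⟩ := ct
        have h := (Finset.mem_filter.1 hct).2
        simp only [π, Prod.mk.injEq] at h
        have h' : (a : G)⁻¹ * a' = (t : G)⁻¹ * t' := by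
          have := congrArg (fun z => (a : G)⁻¹ * (g₁ * z) * (t' : G)) h.1
          simpa [mul_assoc] using this
        have hx : (a : G)⁻¹ * a' ∈ Subgroup.centralizer (P : Set G) :=
          d.mem_centralizer_of_fix u₀.2 (fun h1 => hu01 (Subtype.ext h1))
            (h' ▸ mul_mem (inv_mem t.2) t'.2) (mul_mem (inv_mem a.2) a'.2)
        refine ⟨⟨_, hx⟩, Finset.mem_univ _, Prod.ext (Subtype.ext ?_) (Subtype.ext ?_)⟩
        · show (a : G) * ((a : G)⁻¹ * a') = a'
          rw [mul_inv_cancel_left]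
        · show (t : G) * ((a : G)⁻¹ * a') = t'
          rw [h', mul_inv_cancel_left]
    rw [himg]
    refine Nat.eq_of_mul_eq_mul_right (Nat.card_pos (α := Subgroup.centralizer (P : Set G))) ?_
    rw [hcount, mul_assoc, d.card_inGroup]
    congr 1
    refine (Nat.card_congr (Equiv.subtypeEquiv (MulAut.conj g₁).toEquiv fun x => ?_)).symm
    show x ∈ Subgroup.centralizer ({y.1} : Set G) ↔
      g₁ * x * g₁⁻¹ ∈ Subgroup.centralizer ({g₁ * y.1 * g₁⁻¹} : Set G)
    rw [mem_centralizer_singleton_conj]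
    simp [mul_assoc]
  have hrest : (inIndex M P c : ℂ) * ∑ y ∈ (secPairs M p B).filter (fun q => ¬ q.1 = 1), F y =
      (Nat.card G : ℂ) * ∑ u : X,
        sectF p (Subgroup.centralizer ({(u.1 : G)} : Set G)) u.1
          (blkSet M (Subgroup.centralizer ({(u.1 : G)} : Set G)) (eU p P e u.1)) χ.1 ψ.1 := by
    rw [Finset.mul_sum]
    calc _ = ∑ y ∈ (secPairs M p B).filter (fun q => ¬ q.1 = 1),
        ∑ gu ∈ Finset.univ.filter (fun gu => q gu = y),
          (Nat.card (Subgroup.centralizer ({(q gu).1} : Set G)) : ℂ)⁻¹ * F (q gu) := by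
          refine Finset.sum_congr rfl fun y hy => ?_
          rw [Finset.sum_congr rfl fun gu hgu => show
            (Nat.card (Subgroup.centralizer ({(q gu).1} : Set G)) : ℂ)⁻¹ * F (q gu) =
              (Nat.card (Subgroup.centralizer ({y.1} : Set G)) : ℂ)⁻¹ * F y by
              rw [(Finset.mem_filter.1 hgu).2], Finset.sum_const, hfib y hy, nsmul_eq_mul,
            Nat.cast_mul, mul_comm (Nat.card _ : ℂ), mul_assoc,
            mul_inv_cancel_left₀ (Nat.cast_ne_zero.2 Nat.card_pos.ne')]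
      _ = ∑ gu : G × X, (Nat.card (Subgroup.centralizer ({(q gu).1} : Set G)) : ℂ)⁻¹ * F (q gu) :=
          Finset.sum_fiberwise_of_maps_to (fun gu _ => hmem gu) _
      _ = _ := by
          rw [Finset.sum_congr rfl fun gu _ => by
            rw [hFq, inv_mul_cancel_left₀ (Nat.cast_ne_zero.2 Nat.card_pos.ne')], Fintype.sum_prod_type]
          simp only [Finset.sum_const, Finset.card_univ, nsmul_eq_mul, Nat.card_eq_fintype_card]
  rw [← Finset.sum_filter_add_sum_filter_not (secPairs M p B) (fun q => q.1 = 1), hone,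
    Finset.sum_singleton, hF1] at hmain
  have hX : (Nat.card P : ℂ) * ∑ u : X,
      sectF p (Subgroup.centralizer ({(u.1 : G)} : Set G)) u.1
        (blkSet M (Subgroup.centralizer ({(u.1 : G)} : Set G)) (eU p P e u.1)) χ.1 ψ.1 =
      ∑ u ∈ Finset.univ.filter (fun u : P => u ≠ 1), θ χ u * conj (θ ψ u) := by
    rw [Finset.mul_sum, Finset.sum_subtype (Finset.univ.filter (fun u : P => u ≠ 1)) (p := fun u => u ≠ 1)
      (by simp)]
    exact Finset.sum_congr rfl fun u _ => hθ χ ψ u.1 u.2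
  rw [← hX]
  refine mul_left_cancel₀ (Nat.cast_ne_zero.2 (Nat.card_pos (α := G)).ne' : (Nat.card G : ℂ) ≠ 0) ?_
  linear_combination ((Nat.card P : ℂ) * inIndex M P c) * hmain + (Nat.card P : ℂ) * hrest

variable {θ : IrrCharacter G → P → ℂ}
  (hθ : ∀ χ ψ : IrrCharacter G, ∀ u : P, u ≠ 1 →
    (Nat.card P : ℂ) * sectF p (Subgroup.centralizer ({(u : G)} : Set G)) u
        (blkSet M _ (eU p P (blk M (Subgroup.centralizer (P : Set G)) c) u)) χ.1 ψ.1 =
      θ χ u * conj (θ ψ u))
include hθ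

theorem norm_column {u : P} (hu : u ≠ 1) :
    ∑ χ ∈ Finset.univ.filter (· ∈ B), conj (θ χ u) * θ χ u = Nat.card P := by
  obtain ⟨k, hk⟩ := NilRank.exists_orderOf_mem d.isPGroup u.2
  have hb := NilRank.isInducedBlock_eU d.modular.2.2 d.block d.isMax.1 u.2
  have h := sum_contribution_self d.modular.2.2 hk hb
  rw [d.rank_eU u.2 fun h => hu (Subtype.ext h), Nat.cast_one] at h
  calc _ = ∑ χ ∈ Finset.univ.filter (· ∈ B), (Nat.card P : ℂ) * contribution p
        (blkSet M _ (eU p P (blk M (Subgroup.centralizer (P : Set G)) c) u)) χ.1 χ.1 :=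
        Finset.sum_congr rfl fun χ _ => by
          rw [← NilRank.sectF_eq_contribution, hθ χ χ u hu, mul_comm]
    _ = _ := by rw [← Finset.mul_sum, h, mul_one]

theorem reg_orth {χ : IrrCharacter G} (hχ : χ ∈ B) {u : P} (hu : u ≠ 1) :
    ∑ ψ ∈ Finset.univ.filter (· ∈ B), regDot p χ.1 ψ.1 * θ ψ u = 0 := by
  set S := Finset.univ.filter (fun χ : IrrCharacter G => χ ∈ B)
  set U := Finset.univ.filter (fun u : P => u ≠ 1)
  let v : P → ℂ := fun u => ∑ ψ ∈ S, regDot p χ.1 ψ.1 * θ ψ u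
  have hid := fun (χ : IrrCharacter G) (hχ : χ ∈ B) (ψ : IrrCharacter G) => d.identity hθ hχ ψ
  have h0 : ∑ w ∈ U, v w * conj (v w) = 0 := by
    calc ∑ w ∈ U, v w * conj (v w)
        = ∑ ψ ∈ S, ∑ ψ' ∈ S, regDot p χ.1 ψ.1 * regDot p χ.1 ψ'.1 *
            ∑ w ∈ U, θ ψ w * conj (θ ψ' w) := by
          simp only [v, map_sum, map_mul, conj_regDot_irr, Finset.sum_mul, Finset.mul_sum]
          rw [Finset.sum_comm]
          conv_rhs => rw [Finset.sum_comm]
          refine Finset.sum_congr rfl fun ψ _ => ?_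
          rw [Finset.sum_comm]
          exact Finset.sum_congr rfl fun ψ' _ => Finset.sum_congr rfl fun w _ => by ring
      _ = ∑ ψ ∈ S, ∑ ψ' ∈ S, regDot p χ.1 ψ.1 * regDot p χ.1 ψ'.1 *
            ((Nat.card P : ℂ) * inIndex M P c * ((if ψ = ψ' then 1 else 0) - regDot p ψ.1 ψ'.1)) := by
          refine Finset.sum_congr rfl fun ψ hψ => Finset.sum_congr rfl fun ψ' _ => ?_
          congr 1
          linear_combination -(hid ψ (Finset.mem_filter.1 hψ).2 ψ')
      _ = 0 := by
          refine Finset.sum_eq_zero fun ψ hψ => ?_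
          have e : ∑ ψ' ∈ S, regDot p χ.1 ψ.1 * regDot p χ.1 ψ'.1 *
              ((Nat.card P : ℂ) * inIndex M P c * ((if ψ = ψ' then 1 else 0) - regDot p ψ.1 ψ'.1)) =
            (Nat.card P : ℂ) * inIndex M P c * regDot p χ.1 ψ.1 *
              (regDot p χ.1 ψ.1 - ∑ ψ' ∈ S, regDot p χ.1 ψ'.1 * regDot p ψ'.1 ψ.1) := by
            rw [mul_sub, Finset.mul_sum, show regDot p χ.1 ψ.1 =
              ∑ ψ' ∈ S, (if ψ = ψ' then regDot p χ.1 ψ'.1 else 0) by rw [Finset.sum_ite_eq, if_pos hψ],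
              Finset.mul_sum, ← Finset.sum_sub_distrib]
            rw [Finset.sum_ite_eq, if_pos hψ]
            refine Finset.sum_congr rfl fun ψ' _ => ?_
            rw [BrauerPairs.regDot_comm hp.out ψ' ψ]
            split_ifs <;> ring
          rw [e, sum_regDot_mul_filter d.modular.2.2 d.block hχ, sub_self, mul_zero]
  have h1 : ∑ w ∈ U, Complex.normSq (v w) = 0 := by
    simp only [Complex.mul_conj] at h0
    exact_mod_cast h0
  exact Complex.normSq_eq_zero.1
    ((Finset.sum_eq_zero_iff_of_nonneg fun w _ => Complex.normSq_nonneg _).1 h1 u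
      (Finset.mem_filter.2 ⟨Finset.mem_univ _, hu⟩))

theorem column_orth
    (hinv : ∀ χ, ∀ t ∈ inGroup M P c, ∀ u v : P, (v : G) = t * u * t⁻¹ → θ χ v = θ χ u)
    {u w : P} (hu : u ≠ 1) (hw : w ≠ 1) :
    ∑ χ ∈ Finset.univ.filter (· ∈ B), conj (θ χ u) * θ χ w =
      if w ∈ d.orb u then (Nat.card P : ℂ) else 0 := by
  set S := Finset.univ.filter (fun χ : IrrCharacter G => χ ∈ B)
  set U := Finset.univ.filter (fun u : P => u ≠ 1)
  let K : P → P → ℂ := fun a b => ∑ χ ∈ S, conj (θ χ a) * θ χ b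
  have hid := fun (χ : IrrCharacter G) (hχ : χ ∈ B) (ψ : IrrCharacter G) => d.identity hθ hχ ψ
  have hK : ∀ v, v ∈ d.orb u → K u v = Nat.card P := by
    intro v hv
    obtain ⟨t, ht, htv⟩ := d.mem_orb.1 hv
    show ∑ χ ∈ S, conj (θ χ u) * θ χ v = _
    rw [Finset.sum_congr rfl fun χ _ => by rw [hinv χ t ht u v htv], d.norm_column hθ hu]
  by_cases hwo : w ∈ d.orb u
  · rw [if_pos hwo]; exact hK w hwo
  rw [if_neg hwo]
  have hsum : ∑ v ∈ U, K u v * conj (K u v) =
      ((Nat.card P : ℂ) * inIndex M P c) * Nat.card P := by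
    calc ∑ v ∈ U, K u v * conj (K u v)
        = ∑ χ ∈ S, ∑ ψ ∈ S, conj (θ χ u) * θ ψ u * ∑ v ∈ U, θ χ v * conj (θ ψ v) := by
          simp only [K, map_sum, map_mul, Complex.conj_conj, Finset.sum_mul, Finset.mul_sum]
          rw [Finset.sum_comm]
          conv_rhs => rw [Finset.sum_comm]
          refine Finset.sum_congr rfl fun χ _ => ?_
          rw [Finset.sum_comm]
          exact Finset.sum_congr rfl fun ψ _ => Finset.sum_congr rfl fun v _ => by ring
      _ = ∑ χ ∈ S, ∑ ψ ∈ S, conj (θ χ u) * θ ψ u *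
            ((Nat.card P : ℂ) * inIndex M P c * ((if χ = ψ then 1 else 0) - regDot p χ.1 ψ.1)) := by
          refine Finset.sum_congr rfl fun χ hχ => Finset.sum_congr rfl fun ψ _ => ?_
          congr 1
          linear_combination -(hid χ (Finset.mem_filter.1 hχ).2 ψ)
      _ = ∑ χ ∈ S, ((Nat.card P : ℂ) * inIndex M P c) * (conj (θ χ u) * θ χ u) := by
          refine Finset.sum_congr rfl fun χ hχ => ?_
          calc _ = (Nat.card P : ℂ) * inIndex M P c * conj (θ χ u) *
                (θ χ u - ∑ ψ ∈ S, regDot p χ.1 ψ.1 * θ ψ u) := by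
                rw [show θ χ u = ∑ ψ ∈ S, (if χ = ψ then θ ψ u else 0) by
                  rw [Finset.sum_ite_eq, if_pos hχ], ← Finset.sum_sub_distrib, Finset.mul_sum]
                refine Finset.sum_congr rfl fun ψ _ => ?_
                split_ifs <;> ring
            _ = _ := by rw [d.reg_orth hθ (Finset.mem_filter.1 hχ).2 hu]; ring
      _ = _ := by rw [← Finset.mul_sum, d.norm_column hθ hu]
  have hsub : d.orb u ⊆ U := fun v hv => by
    obtain ⟨t, ht, htv⟩ := d.mem_orb.1 hv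
    refine Finset.mem_filter.2 ⟨Finset.mem_univ _, fun h => hu (Subtype.ext ?_)⟩
    rw [h] at htv
    simpa [mul_assoc] using (congrArg (fun y => t⁻¹ * y * t) htv).symm
  have horb : ∑ v ∈ d.orb u, K u v * conj (K u v) =
      ((Nat.card P : ℂ) * inIndex M P c) * Nat.card P := by
    rw [Finset.sum_congr rfl fun v hv => by rw [hK v hv, map_natCast], Finset.sum_const, d.card_orb hu,
      nsmul_eq_mul]
    ring
  have hz : ∑ v ∈ U \ d.orb u, Complex.normSq (K u v) = 0 := by
    rw [← Finset.sum_sdiff hsub, horb] at hsum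
    have h0 : ∑ v ∈ U \ d.orb u, K u v * conj (K u v) = 0 := by linear_combination hsum
    simp only [Complex.mul_conj] at h0
    exact_mod_cast h0
  exact Complex.normSq_eq_zero.1 ((Finset.sum_eq_zero_iff_of_nonneg fun v _ => Complex.normSq_nonneg _).1
    hz w (Finset.mem_sdiff.2 ⟨Finset.mem_filter.2 ⟨Finset.mem_univ _, hw⟩, hwo⟩))

/-- `e k + 1 = e l + |P|`. -/
theorem card_eq : inIndex M P c * Nat.card B + 1 = inIndex M P c * blockRank p B + Nat.card P := by
  set S := Finset.univ.filter (fun χ : IrrCharacter G => χ ∈ B)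
  set U := Finset.univ.filter (fun u : P => u ≠ 1)
  have hU : U.card + 1 = Nat.card P := by
    rw [show U = Finset.univ.erase (1 : P) by ext; simp [U], Finset.card_erase_of_mem (Finset.mem_univ _),
      Finset.card_univ, Nat.card_eq_fintype_card]
    have := Fintype.card_pos (α := P)
    omega
  have h := Finset.sum_congr (s₁ := S) rfl fun χ hχ => d.identity hθ (Finset.mem_filter.1 hχ).2 χ
  simp only [if_true, mul_one, Finset.sum_const, nsmul_eq_mul, Finset.sum_add_distrib] at h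
  rw [Finset.sum_comm (s := S) (t := U),
    Finset.sum_congr (s₁ := U) rfl fun u hu => (Finset.sum_congr rfl fun χ _ => mul_comm _ _).trans
      (d.norm_column hθ (Finset.mem_filter.1 hu).2), Finset.sum_const, nsmul_eq_mul] at h
  rw [← Finset.mul_sum, ← show (blockRank p B : ℂ) = ∑ χ ∈ S, regDot p χ.1 χ.1 by
    rw [BrauerPairs.blockRank_eq_sum d.modular.2.2 hp.out d.block,
      Finset.sum_subtype (p := (· ∈ B)) S (by simp [S]) (fun χ : IrrCharacter G => regDot p χ.1 χ.1)]
    rfl] at h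
  have hk : S.card = Nat.card B := by rw [Nat.card_eq_fintype_card, Fintype.card_subtype]
  rw [hk] at h
  have hn : (Nat.card P : ℂ) ≠ 0 := Nat.cast_ne_zero.2 Nat.card_pos.ne'
  have h2 : (inIndex M P c : ℂ) * Nat.card B = inIndex M P c * blockRank p B + U.card := by
    refine mul_left_cancel₀ hn ?_
    linear_combination h
  have h3 : inIndex M P c * Nat.card B = inIndex M P c * blockRank p B + U.card := by exact_mod_cast h2
  omega

end Datum

end Cfsg.Agent.Blocks.CyclicDefect
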