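import Cfsg.Agent.Lib.Blocks.CyclicDefect.Reps
import Cfsg.Agent.Lib.BrauerPairs.Map

/-!
# Relative traces of linear maps between representations
-/

set_option autoImplicit false
set_option linter.unusedSectionVars false
set_option linter.style.haveILetI false

namespace Cfsg.Agent.Blocks.CyclicDefect

open scoped Classical

universe u v w

variable {k : Type w} [Field k] {G : Type u} [Group G]
  {V : Type v} [AddCommGroup V] [Module k V] {W : Type v} [AddCommGroup W] [Module k W]
  {U : Type v} [AddCommGroup U] [Module k U]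

/-- `f` commutes with the elements of `Q`. -/
def IntwOn (Q : Subgroup G) (ρ : Representation k G V) (σ : Representation k G W) (f : V →ₗ[k] W) :
    Prop :=
  ∀ g ∈ Q, ∀ x, f (ρ g x) = σ g (f x)

theorem intwOn_top {ρ : Representation k G V} {σ : Representation k G W} {f : V →ₗ[k] W} :
    IntwOn ⊤ ρ σ f ↔ Intw ρ σ f :=
  ⟨fun h g x => h g (Subgroup.mem_top g) x, fun h g _ x => h g x⟩

/-- `g` applied to a map. -/
def cjMap (ρ : Representation k G V) (σ : Representation k G W) (g : G) (f : V →ₗ[k] W) :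
    V →ₗ[k] W :=
  (σ g).comp (f.comp (ρ g⁻¹))

theorem cjMap_apply (ρ : Representation k G V) (σ : Representation k G W) (g : G) (f : V →ₗ[k] W)
    (x : V) : cjMap ρ σ g f x = σ g (f (ρ g⁻¹ x)) := rfl

theorem cjMap_mul (ρ : Representation k G V) (σ : Representation k G W) (g h : G) (f : V →ₗ[k] W) :
    cjMap ρ σ (g * h) f = cjMap ρ σ g (cjMap ρ σ h f) :=
  LinearMap.ext fun x => by simp [cjMap_apply, mul_inv_rev]

theorem cjMap_eq_self {Q : Subgroup G} {ρ : Representation k G V} {σ : Representation k G W}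
    {f : V →ₗ[k] W} (hf : IntwOn Q ρ σ f) {g : G} (hg : g ∈ Q) : cjMap ρ σ g f = f :=
  LinearMap.ext fun x => by rw [cjMap_apply, ← hf g hg]; simp

theorem intwOn_of_cjMap {Q : Subgroup G} {ρ : Representation k G V} {σ : Representation k G W}
    {f : V →ₗ[k] W} (h : ∀ g ∈ Q, cjMap ρ σ g f = f) : IntwOn Q ρ σ f := fun g hg x => by
  conv_lhs => rw [← h g hg]
  simp [cjMap_apply]

theorem IntwOn.mono {Q R : Subgroup G} (hQR : Q ≤ R) {ρ : Representation k G V}
    {σ : Representation k G W} {f : V →ₗ[k] W} (hf : IntwOn R ρ σ f) : IntwOn Q ρ σ f :=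
  fun g hg => hf g (hQR hg)

theorem IntwOn.comp {Q : Subgroup G} {ρ : Representation k G V} {σ : Representation k G W}
    {τ : Representation k G U} {f : V →ₗ[k] W} {g : W →ₗ[k] U} (hf : IntwOn Q ρ σ f)
    (hg : IntwOn Q σ τ g) : IntwOn Q ρ τ (g.comp f) := fun x hx y => by
  simp [hf x hx y, hg x hx]

theorem cjMap_comp (ρ : Representation k G V) (σ : Representation k G W) (τ : Representation k G U)
    (g : G) (f : V →ₗ[k] W) (f' : W →ₗ[k] U) :
    cjMap ρ τ g (f'.comp f) = (cjMap σ τ g f').comp (cjMap ρ σ g f) :=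
  LinearMap.ext fun x => by simp [cjMap_apply]

theorem cjMap_sum {ι : Type*} (ρ : Representation k G V) (σ : Representation k G W) (g : G)
    (s : Finset ι) (f : ι → V →ₗ[k] W) : cjMap ρ σ g (∑ i ∈ s, f i) = ∑ i ∈ s, cjMap ρ σ g (f i) :=
  LinearMap.ext fun x => by simp [cjMap_apply, LinearMap.sum_apply]

theorem asAlgebraHom_conjEl (ρ : Representation k G V) (g : G) (a : MonoidAlgebra k G) :
    ρ.asAlgebraHom (BrauerPairs.conjEl g a) = cjMap ρ ρ g (ρ.asAlgebraHom a) := by
  induction a using MonoidAlgebra.induction_on with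
  | of x =>
    refine LinearMap.ext fun y => ?_
    simp [BrauerPairs.conjEl, cjMap_apply, MonoidAlgebra.of_apply]
  | add a b ha hb => exact LinearMap.ext fun y => by simp [ha, hb, cjMap_apply]
  | smul c a ha => exact LinearMap.ext fun y => by simp [ha, cjMap_apply]

theorem intwOn_asAlgebraHom (ρ : Representation k G V) {Q : Subgroup G} {a : MonoidAlgebra k G}
    (ha : a ∈ BrauerPairs.fixedBy k Q) : IntwOn Q ρ ρ (ρ.asAlgebraHom a) :=
  intwOn_of_cjMap fun g hg => by rw [← asAlgebraHom_conjEl, ha g hg]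

variable [Finite G]

/-- The relative trace from `Q` to `H`. -/
noncomputable def trMap (Q H : Subgroup G) (ρ : Representation k G V) (σ : Representation k G W)
    (f : V →ₗ[k] W) : V →ₗ[k] W :=
  letI := Fintype.ofFinite (H ⧸ Q.subgroupOf H)
  ∑ q : H ⧸ Q.subgroupOf H, cjMap ρ σ ((q.out : H) : G) f

theorem cjMap_eq_of_quotient_eq {Q H : Subgroup G} {ρ : Representation k G V}
    {σ : Representation k G W} {f : V →ₗ[k] W} (hf : IntwOn Q ρ σ f) {h h' : H}
    (e : (h : H ⧸ Q.subgroupOf H) = h') : cjMap ρ σ (h : G) f = cjMap ρ σ (h' : G) f := by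
  rw [QuotientGroup.eq, Subgroup.mem_subgroupOf] at e
  conv_lhs => rw [← cjMap_eq_self hf e, ← cjMap_mul]
  simp

theorem intwOn_trMap {Q H : Subgroup G} {ρ : Representation k G V} {σ : Representation k G W}
    {f : V →ₗ[k] W} (hf : IntwOn Q ρ σ f) : IntwOn H ρ σ (trMap Q H ρ σ f) := by
  letI := Fintype.ofFinite (H ⧸ Q.subgroupOf H)
  refine intwOn_of_cjMap fun g hg => ?_
  rw [trMap, cjMap_sum]
  refine Fintype.sum_equiv (MulAction.toPerm (⟨g, hg⟩ : H)) _ _ fun q => ?_
  rw [← cjMap_mul]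
  refine cjMap_eq_of_quotient_eq (h := (⟨g, hg⟩ : H) * q.out) hf ?_
  rw [QuotientGroup.out_eq']
  show _ = (⟨g, hg⟩ : H) • q
  conv_rhs => rw [← QuotientGroup.out_eq' q]
  rfl

theorem asAlgebraHom_relTr (ρ : Representation k G V) (Q H : Subgroup G) (a : MonoidAlgebra k G) :
    ρ.asAlgebraHom (BrauerPairs.relTr Q H a) = trMap Q H ρ ρ (ρ.asAlgebraHom a) := by
  simp only [BrauerPairs.relTr, trMap, map_sum, asAlgebraHom_conjEl]

theorem trMap_comp_left {Q H : Subgroup G} {ρ : Representation k G V} {σ : Representation k G W}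
    {τ : Representation k G U} (f : V →ₗ[k] W) {g : W →ₗ[k] U} (hg : IntwOn H σ τ g) :
    g.comp (trMap Q H ρ σ f) = trMap Q H ρ τ (g.comp f) := by
  letI := Fintype.ofFinite (H ⧸ Q.subgroupOf H)
  refine LinearMap.ext fun x => ?_
  simp only [trMap, LinearMap.comp_apply, LinearMap.sum_apply, map_sum, cjMap_apply]
  exact Finset.sum_congr rfl fun q _ => hg _ (q.out : H).2 _

theorem trMap_comp_right {Q H : Subgroup G} {ρ : Representation k G V} {σ : Representation k G W}
    {τ : Representation k G U} {f : V →ₗ[k] W} (hf : IntwOn H ρ σ f) (g : W →ₗ[k] U) :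
    (trMap Q H σ τ g).comp f = trMap Q H ρ τ (g.comp f) := by
  letI := Fintype.ofFinite (H ⧸ Q.subgroupOf H)
  refine LinearMap.ext fun x => ?_
  simp only [trMap, LinearMap.comp_apply, LinearMap.sum_apply, cjMap_apply]
  exact Finset.sum_congr rfl fun q _ => by rw [hf _ (inv_mem (q.out : H).2)]

theorem trMap_add {Q H : Subgroup G} (ρ : Representation k G V) (σ : Representation k G W)
    (f g : V →ₗ[k] W) : trMap Q H ρ σ (f + g) = trMap Q H ρ σ f + trMap Q H ρ σ g := by
  letI := Fintype.ofFinite (H ⧸ Q.subgroupOf H)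
  refine LinearMap.ext fun x => ?_
  simp [trMap, cjMap_apply, LinearMap.sum_apply, Finset.sum_add_distrib]

theorem trMap_smul {Q H : Subgroup G} (ρ : Representation k G V) (σ : Representation k G W)
    (c : k) (f : V →ₗ[k] W) : trMap Q H ρ σ (c • f) = c • trMap Q H ρ σ f := by
  letI := Fintype.ofFinite (H ⧸ Q.subgroupOf H)
  refine LinearMap.ext fun x => ?_
  simp [trMap, cjMap_apply, LinearMap.sum_apply, Finset.smul_sum]

theorem comp_sum' {ι : Type*} (s : Finset ι) (f' : W →ₗ[k] U) (f : ι → V →ₗ[k] W) :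
    f'.comp (∑ i ∈ s, f i) = ∑ i ∈ s, f'.comp (f i) :=
  LinearMap.ext fun x => by simp [LinearMap.sum_apply, map_sum]

theorem sum_comp' {ι : Type*} (s : Finset ι) (f' : ι → W →ₗ[k] U) (f : V →ₗ[k] W) :
    (∑ i ∈ s, f' i).comp f = ∑ i ∈ s, (f' i).comp f :=
  LinearMap.ext fun x => by simp [LinearMap.sum_apply]

/-- A sum over a group along the cosets of a subgroup. -/
theorem sum_cosets [Fintype G] (Q : Subgroup G) [Fintype (G ⧸ Q)] [Fintype Q] {N : Type*}
    [AddCommMonoid N] (F : G → N) : ∑ g, F g = ∑ q : G ⧸ Q, ∑ u : Q, F (q.out * (u : G)) := by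
  rw [← Fintype.sum_prod_type']
  refine (Fintype.sum_bijective (fun x : (G ⧸ Q) × Q => x.1.out * (x.2 : G)) ⟨?_, ?_⟩ _ _
    (fun _ => rfl)).symm
  · rintro ⟨q, u⟩ ⟨q', u'⟩ h
    simp only at h
    have hq : q = q' := by
      rw [← QuotientGroup.out_eq' q, ← QuotientGroup.out_eq' q', ← QuotientGroup.mk_mul_of_mem q.out u.2,
        h, QuotientGroup.mk_mul_of_mem _ u'.2]
    subst hq
    exact Prod.ext rfl (Subtype.ext (mul_left_cancel h))
  · intro g
    refine ⟨(QuotientGroup.mk g, ⟨(QuotientGroup.mk (s := Q) g).out⁻¹ * g,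
      QuotientGroup.eq.1 (QuotientGroup.out_eq' _)⟩), ?_⟩
    simp

end Cfsg.Agent.Blocks.CyclicDefect
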