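import Mathlib.RepresentationTheory.Basic
import Mathlib.RingTheory.SimpleModule.Basic
import Mathlib.LinearAlgebra.Eigenspace.Triangularizable
import Mathlib.LinearAlgebra.Trace
import Mathlib.LinearAlgebra.FreeModule.Finite.Quotient
import Mathlib.FieldTheory.IsAlgClosed.Basic

/-!
# Representations over an algebraically closed field: irreducible quotients, traces

* `Irr`, `Intw`, `schur_scalar`, `bijective_of_intw`;
* `exists_irr_quotient`;
* `linearIndependent_trace`: pairwise non-isomorphic irreducibles have independent traces.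
-/

set_option autoImplicit false
set_option linter.unusedSectionVars false
set_option linter.style.haveILetI false

namespace Cfsg.Agent.Blocks.CyclicDefect

universe u v w

variable {k : Type w} [Field k] {G : Type u} [Monoid G]
  {V : Type v} [AddCommGroup V] [Module k V] {W : Type v} [AddCommGroup W] [Module k W]

/-- An invariant subspace. -/
def Inv (ρ : Representation k G V) (U : Submodule k V) : Prop := ∀ g, ∀ x ∈ U, ρ g x ∈ U

/-- An irreducible representation. -/
def Irr (ρ : Representation k G V) : Prop :=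
  Nontrivial V ∧ ∀ U : Submodule k V, Inv ρ U → U = ⊥ ∨ U = ⊤

/-- An intertwining map. -/
def Intw (ρ : Representation k G V) (σ : Representation k G W) (f : V →ₗ[k] W) : Prop :=
  ∀ g x, f (ρ g x) = σ g (f x)

variable {ρ : Representation k G V} {σ : Representation k G W} {f : V →ₗ[k] W}

theorem Intw.inv_ker (h : Intw ρ σ f) : Inv ρ (LinearMap.ker f) := fun g x hx => by
  rw [LinearMap.mem_ker] at hx ⊢
  rw [h, hx, map_zero]

theorem Intw.inv_range (h : Intw ρ σ f) : Inv σ (LinearMap.range f) := by
  rintro g _ ⟨x, rfl⟩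
  exact ⟨ρ g x, h g x⟩

theorem Intw.asAlgebraHom (h : Intw ρ σ f) (a : MonoidAlgebra k G) (x : V) :
    f (ρ.asAlgebraHom a x) = σ.asAlgebraHom a (f x) := by
  induction a using MonoidAlgebra.induction_on with
  | of g => simp [h g x]
  | add a b ha hb => simp [ha, hb]
  | smul c a ha => simp [ha]

theorem Inv.asAlgebraHom {U : Submodule k V} (hU : Inv ρ U) (a : MonoidAlgebra k G) {x : V}
    (hx : x ∈ U) : ρ.asAlgebraHom a x ∈ U := by
  induction a using MonoidAlgebra.induction_on with
  | of g => simpa using hU g x hx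
  | add a b ha hb => simpa using add_mem ha hb
  | smul c a ha => simpa using U.smul_mem c ha

theorem injective_of_intw (hρ : Irr ρ) (h : Intw ρ σ f) (hf : f ≠ 0) : Function.Injective f := by
  rcases hρ.2 _ h.inv_ker with h0 | h0
  · exact LinearMap.ker_eq_bot.1 h0
  · exact absurd (LinearMap.ker_eq_top.1 h0) hf

theorem surjective_of_intw (hσ : Irr σ) (h : Intw ρ σ f) (hf : f ≠ 0) : Function.Surjective f := by
  rcases hσ.2 _ h.inv_range with h0 | h0
  · exact absurd (LinearMap.range_eq_bot.1 h0) hf
  · exact LinearMap.range_eq_top.1 h0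

/-- Schur's lemma. -/
theorem schur_scalar [IsAlgClosed k] [FiniteDimensional k V] (hρ : Irr ρ) {T : V →ₗ[k] V}
    (hT : Intw ρ ρ T) : ∃ c : k, T = c • LinearMap.id := by
  haveI := hρ.1
  obtain ⟨c, hc⟩ := Module.End.exists_eigenvalue T
  refine ⟨c, ?_⟩
  have hI : Intw ρ ρ (T - c • (LinearMap.id : V →ₗ[k] V)) := fun g x => by simp [hT g x]
  by_contra hne
  obtain ⟨x, hx⟩ := hc.exists_hasEigenvector
  have hx0 : (T - c • (LinearMap.id : V →ₗ[k] V)) x = 0 := by simp [hx.apply_eq_smul]
  exact hx.2 (injective_of_intw hρ hI (sub_ne_zero.2 hne) (by rw [hx0, map_zero]))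

/-- The representation on an invariant subspace. -/
def resRep (ρ : Representation k G V) {U : Submodule k V} (hU : Inv ρ U) : Representation k G U where
  toFun g := (ρ g).restrict (hU g)
  map_one' := LinearMap.ext fun x => Subtype.ext (by simp)
  map_mul' g h := LinearMap.ext fun x => Subtype.ext (by simp)

theorem intw_subtype {U : Submodule k V} (hU : Inv ρ U) : Intw (resRep ρ hU) ρ U.subtype :=
  fun _ _ => rfl

/-- The representation on a quotient. -/
def quotRep (ρ : Representation k G V) {U : Submodule k V} (hU : Inv ρ U) :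
    Representation k G (V ⧸ U) where
  toFun g := U.mapQ U (ρ g) (hU g)
  map_one' := Submodule.linearMap_qext _ (LinearMap.ext fun x => by simp)
  map_mul' g h := Submodule.linearMap_qext _ (LinearMap.ext fun x => by simp)

theorem intw_mkQ {U : Submodule k V} (hU : Inv ρ U) : Intw ρ (quotRep ρ hU) U.mkQ :=
  fun _ _ => rfl

theorem asAlgebraHom_quotRep {U : Submodule k V} (hU : Inv ρ U) {a : MonoidAlgebra k G}
    (h : ρ.asAlgebraHom a = 1) : (quotRep ρ hU).asAlgebraHom a = 1 :=
  Submodule.linearMap_qext _ (LinearMap.ext fun x => by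
    show (quotRep ρ hU).asAlgebraHom a (U.mkQ x) = U.mkQ x
    rw [← (intw_mkQ hU).asAlgebraHom a x, h]; rfl)

theorem asAlgebraHom_resRep {U : Submodule k V} (hU : Inv ρ U) {a : MonoidAlgebra k G}
    (h : ρ.asAlgebraHom a = 1) : (resRep ρ hU).asAlgebraHom a = 1 :=
  LinearMap.ext fun x => Subtype.ext (by
    simpa [h] using (intw_subtype hU).asAlgebraHom a x)

/-- A nonzero finite-dimensional representation has an irreducible quotient. -/
theorem exists_irr_quotient [FiniteDimensional k V] [Nontrivial V] (ρ : Representation k G V) :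
    ∃ (U : Submodule k V) (hU : Inv ρ U), Irr (quotRep ρ hU) := by
  obtain ⟨U, ⟨hU, hne⟩, hmax⟩ := wellFounded_gt.has_min {U : Submodule k V | Inv ρ U ∧ U ≠ ⊤}
    ⟨⊥, fun g x hx => by simp [(Submodule.mem_bot k).1 hx], bot_ne_top⟩
  refine ⟨U, hU, Submodule.Quotient.nontrivial_iff.2 hne, fun X hX => ?_⟩
  rcases eq_or_ne (X.comap U.mkQ) ⊤ with h | h
  · refine Or.inr (eq_top_iff.2 fun y _ => ?_)
    obtain ⟨x, rfl⟩ := U.mkQ_surjective y
    exact (show x ∈ X.comap U.mkQ from h ▸ Submodule.mem_top)
  · refine Or.inl (eq_bot_iff.2 fun y hy => ?_)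
    obtain ⟨x, rfl⟩ := U.mkQ_surjective y
    have hle : U ≤ X.comap U.mkQ := fun z hz => by
      simp [Submodule.mem_comap, (Submodule.Quotient.mk_eq_zero U).2 hz]
    have heq : X.comap U.mkQ = U := by
      by_contra hne'
      exact hmax _ ⟨fun g z hz => hX g _ hz, h⟩ (lt_of_le_of_ne hle (Ne.symm hne'))
    exact (Submodule.mem_bot k).2 ((Submodule.Quotient.mk_eq_zero U).2 (heq.le hy))

section trace

variable [IsAlgClosed k] {ι : Type*} [Fintype ι] {X : ι → Type v} [∀ i, AddCommGroup (X i)]
  [∀ i, Module k (X i)] [∀ i, FiniteDimensional k (X i)] {τ : ∀ i, Representation k G (X i)}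

theorem linearIndependent_trace (hirr : ∀ i, Irr (τ i))
    (hne : ∀ i j, ∀ f : X i →ₗ[k] X j, Intw (τ i) (τ j) f → i ≠ j → f = 0) :
    LinearIndependent k fun (i : ι) (g : G) => LinearMap.trace k (X i) (τ i g) := by
  classical
  let A := MonoidAlgebra k G
  letI mX : ∀ i, Module A (X i) := fun i => Module.compHom (X i) (τ i).asAlgebraHom.toRingHom
  have hsmul : ∀ i (a : A) (x : X i), a • x = (τ i).asAlgebraHom a x := fun _ _ _ => rfl
  have hsingle : ∀ i (g : G) (c : k) (x : X i),
      (MonoidAlgebra.single g c : A) • x = c • τ i g x := fun i g c x => by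
    simp [hsmul]
  haveI hS : ∀ i, IsSimpleModule A (X i) := fun i => by
    haveI := (hirr i).1
    refine isSimpleModule_iff_toSpanSingleton_surjective.2 ⟨inferInstance, fun x hx y => ?_⟩
    let U : Submodule k (X i) :=
      { carrier := Set.range (LinearMap.toSpanSingleton A (X i) x)
        zero_mem' := ⟨0, by simp⟩
        add_mem' := by
          rintro _ _ ⟨a, rfl⟩ ⟨b, rfl⟩
          exact ⟨a + b, map_add _ a b⟩
        smul_mem' := by
          rintro c _ ⟨a, rfl⟩
          exact ⟨c • a, by simp [hsmul]⟩ }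
    have hU : Inv (τ i) U := by
      rintro g _ ⟨a, rfl⟩
      exact ⟨MonoidAlgebra.single g 1 * a, by simp [hsmul]⟩
    rcases (hirr i).2 U hU with h | h
    · exact absurd ((Submodule.mem_bot k).1 (h.le (show x ∈ U from ⟨1, by simp⟩))) hx
    · exact (h.ge (Submodule.mem_top : y ∈ _) : y ∈ U)
  rw [Fintype.linearIndependent_iff]
  intro c hc i₀
  haveI := (hirr i₀).1
  let b := Module.finBasis k (X i₀)
  have hn : 0 < Module.finrank k (X i₀) := Module.finrank_pos
  let n₀ : Fin (Module.finrank k (X i₀)) := ⟨0, hn⟩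
  let F : ∀ i, X i →ₗ[k] X i := fun i =>
    if h : i = i₀ then h ▸ ((b.coord n₀).smulRight (b n₀)) else 0
  let FF : (∀ i, X i) →ₗ[k] (∀ i, X i) := LinearMap.pi fun i => (F i).comp (LinearMap.proj i)
  -- every `A`-endomorphism of the product is diagonal with scalar entries
  have hend : ∀ φ : Module.End A (∀ i, X i), ∃ s : ι → k, ∀ x i, φ x i = s i • x i := by
    intro φ
    let φk : ∀ i j, X i →ₗ[k] X j := fun i j =>
      { toFun := fun x => φ (Pi.single i x) j
        map_add' := fun x y => by simp [Pi.single_add, map_add]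
        map_smul' := fun r x => by
          have e : Pi.single i (r • x) = (r • (1 : A)) • (Pi.single i x : ∀ i, X i) := by
            rw [← Pi.single_smul, hsmul]; simp
          rw [e, map_smul, Pi.smul_apply, hsmul]
          simp }
    have hint : ∀ i j, Intw (τ i) (τ j) (φk i j) := fun i j g x => by
      show φ (Pi.single i (τ i g x)) j = τ j g (φ (Pi.single i x) j)
      rw [← one_smul k (τ i g x), ← hsingle i g 1 x, Pi.single_smul, map_smul, Pi.smul_apply,
        hsingle, one_smul]
    choose s hs using fun i => schur_scalar (hirr i) (hint i i)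
    refine ⟨s, fun x j => ?_⟩
    conv_lhs => rw [show x = ∑ i, Pi.single i (x i) from (Finset.univ_sum_single x).symm]
    rw [map_sum, Finset.sum_apply, Finset.sum_eq_single j]
    · exact LinearMap.congr_fun (hs j) (x j)
    · exact fun i _ hij => LinearMap.congr_fun (hne i j _ (hint i j) hij) (x i)
    · exact fun h => absurd (Finset.mem_univ j) h
  let fE : Module.End (Module.End A (∀ i, X i)) (∀ i, X i) :=
    { toFun := FF
      map_add' := map_add FF
      map_smul' := fun φ x => by
        obtain ⟨s, hs⟩ := hend φ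
        funext j
        show F j ((φ x) j) = φ (FF x) j
        rw [hs, hs, map_smul]
        rfl }
  let t : Finset (∀ i, X i) :=
    Finset.univ.biUnion fun i => Finset.univ.image fun m => Pi.single i (Module.finBasis k (X i) m)
  obtain ⟨a, ha⟩ := jacobson_density fE t
  have haF : ∀ i, (τ i).asAlgebraHom a = F i := fun i =>
    (Module.finBasis k (X i)).ext fun m => by
      have h := congrFun (ha (Pi.single i (Module.finBasis k (X i) m))
        (Finset.mem_biUnion.2 ⟨i, Finset.mem_univ i, Finset.mem_image.2 ⟨m, Finset.mem_univ m, rfl⟩⟩)) i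
      rw [Pi.smul_apply, Pi.single_eq_same, hsmul] at h
      rw [← h]
      show F i ((Pi.single i (Module.finBasis k (X i) m) : ∀ i, X i) i) = _
      rw [Pi.single_eq_same]
  have key : ∀ z : A, ∑ i, c i * LinearMap.trace k (X i) ((τ i).asAlgebraHom z) = 0 := fun z => by
    induction z using MonoidAlgebra.induction_on with
    | of g => simpa [Finset.sum_apply] using congrFun hc g
    | add x y hx hy => simp [mul_add, Finset.sum_add_distrib, hx, hy]
    | smul r x hx =>
      simp only [map_smul, smul_eq_mul, mul_left_comm _ r, ← Finset.mul_sum, hx, mul_zero]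
  have h := key a
  simp only [haF] at h
  rw [Finset.sum_eq_single i₀] at h
  · simpa [F, LinearMap.trace_smulRight] using h
  · intro i _ hi
    simp [F, hi]
  · exact fun h => absurd (Finset.mem_univ i₀) h

end trace

end Cfsg.Agent.Blocks.CyclicDefect
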