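import Cfsg.Agent.Lib.Blocks.CyclicDefect.Degrees
import Cfsg.Agent.Lib.BlocksX.KleinSections

/-!
# The class function of a subsection

For a subsection `(u, b)` of `B` and `χ₀ ∈ B`, `x ↦ Σ_ψ m(χ₀, ψ) ψ(x)` lives on the section of
`u`, where its values are algebraic integers; times `p^d(b)` it is divisible by the orders of the
centralisers.
-/

set_option autoImplicit false
set_option linter.unusedSectionVars false
set_option linter.style.haveILetI false

namespace Cfsg.Agent.Blocks.CyclicDefect

open Cfsg Blocks
open Cfsg.Agent.BrauerPairs (regDot regDot_comm regDot_eq_zero)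
open scoped Classical ComplexConjugate Cfsg.Agent.Blocks

universe u

variable {G : Type u} [Group G] [Fintype G] {M : Ideal AlgInt} [M.IsMaximal] {p : ℕ}
  [hp : Fact p.Prime]

theorem card_centralizer_conj (g x : G) :
    Nat.card (Subgroup.centralizer ({g * x * g⁻¹} : Set G)) =
      Nat.card (Subgroup.centralizer ({x} : Set G)) := by
  refine (Nat.card_congr (Equiv.subtypeEquiv (MulAut.conj g).toEquiv fun a => ?_)).symm
  show a ∈ Subgroup.centralizer ({x} : Set G) ↔ g * a * g⁻¹ ∈ Subgroup.centralizer ({g * x * g⁻¹} : Set G)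
  rw [mem_centralizer_singleton_conj]
  simp [mul_assoc]

theorem card_centralizer_section {x z : G} (hz : IsPPart p x z)
    (s : Subgroup.centralizer ({z} : Set G)) (hs : z * (s : G) = x) :
    Nat.card (Subgroup.centralizer ({s} : Set (Subgroup.centralizer ({z} : Set G)))) =
      Nat.card (Subgroup.centralizer ({x} : Set G)) := by
  have hzx := Blocks.IsPPart.mem_zpowers hz
  refine Nat.card_congr
    { toFun := fun k => ⟨((k : Subgroup.centralizer ({z} : Set G)) : G),
        Subgroup.mem_centralizer_singleton_iff.2 (by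
          have h1 : Commute ((k : Subgroup.centralizer ({z} : Set G)) : G) z :=
            Subgroup.mem_centralizer_singleton_iff.1 (k : Subgroup.centralizer ({z} : Set G)).2
          have h2 : Commute ((k : Subgroup.centralizer ({z} : Set G)) : G) (s : G) :=
            congrArg Subtype.val (Subgroup.mem_centralizer_singleton_iff.1 k.2)
          rw [← hs]
          exact h1.mul_right h2)⟩
      invFun := fun g => ⟨⟨(g : G), Subgroup.mem_centralizer_singleton_iff.2 (by
          obtain ⟨i, hi⟩ := Subgroup.mem_zpowers_iff.1 hzx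
          rw [← hi]
          exact (show Commute (g : G) x from Subgroup.mem_centralizer_singleton_iff.1 g.2).zpow_right i)⟩,
        Subgroup.mem_centralizer_singleton_iff.2 (Subtype.ext (by
          have h0 : Commute (g : G) x := Subgroup.mem_centralizer_singleton_iff.1 g.2
          obtain ⟨i, hi⟩ := Subgroup.mem_zpowers_iff.1 hzx
          have h1 : Commute (g : G) z := hi ▸ h0.zpow_right i
          show (g : G) * s = s * g
          rw [show (s : G) = z⁻¹ * x by rw [← hs, inv_mul_cancel_left]]
          exact h1.inv_right.mul_right h0))⟩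
      left_inv := fun k => rfl
      right_inv := fun g => rfl }

variable {B : Set (IrrCharacter G)} {x : G} {b : Set (IrrCharacter (Subgroup.centralizer ({x} : Set G)))}

theorem contribution_sum_local (hpM : (p : AlgInt) ∈ M) {k : ℕ} (hx : orderOf x = p ^ k)
    (hb : IsInducedBlock M (Subgroup.centralizer ({x} : Set G)) b B) (χ₀ : IrrCharacter G) (g : G) :
    MemLocalRing M (∑ ψ ∈ Finset.univ.filter (· ∈ B), contribution p b χ₀.1 ψ.1 * ψ.1 g) ∧
      MemLocalRing M (((p ^ blockDefect p b : ℕ) : ℂ) *
        (∑ ψ ∈ Finset.univ.filter (· ∈ B), contribution p b χ₀.1 ψ.1 * ψ.1 g) /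
          (Nat.card (Subgroup.centralizer ({g} : Set G)) : ℂ)) := by
  set T := Finset.univ.filter (fun η : IrrCharacter (Subgroup.centralizer ({x} : Set G)) => η ∈ b)
    with hT
  set a : IrrCharacter (Subgroup.centralizer ({x} : Set G)) → ℂ :=
    fun η => classInner (secFun x χ₀.1) η.1 with ha
  have hai : ∀ η, IsIntegral ℤ (a η) := fun η => by
    obtain ⟨m, hm⟩ := Char.IsCharacter.exists_nat_classInner
      (Char.IsCharacter.restrict (Char.irr_isCharacter χ₀) (Subgroup.centralizer ({x} : Set G)))
      (Char.irr_isCharacter η)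
    simp only [a, classInner_secFun, hm]
    exact (IsIntegral.of_pow (pow_pos hp.out.pos k) (by
      rw [secScalar_pow hx]; exact isIntegral_one)).mul (isIntegral_natCast m)
  set c : Subgroup.centralizer ({x} : Set G) → ℂ := fun s => ∑ η ∈ T, a η * η.1 s with hc
  have hK : ∀ h : G, ∑ ψ ∈ Finset.univ.filter (· ∈ B), contribution p b χ₀.1 ψ.1 * ψ.1 h =
      (Nat.card (Subgroup.centralizer ({x} : Set G)) : ℂ)⁻¹ *
        ∑ s : Subgroup.centralizer ({x} : Set G), if p ∣ orderOf s then 0 else
          c s * ∑ ψ ∈ Finset.univ.filter (· ∈ B), ψ.1 h * conj (ψ.1 (x * s)) := by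
    intro h
    have hcon : ∀ ψ : IrrCharacter G, contribution p b χ₀.1 ψ.1 =
        (Nat.card (Subgroup.centralizer ({x} : Set G)) : ℂ)⁻¹ *
          ∑ s : Subgroup.centralizer ({x} : Set G), if p ∣ orderOf s then 0 else
            c s * conj (ψ.1 (x * s)) := fun ψ => by
      show ∑ η ∈ T, a η * conj (regDot p (secFun x ψ.1) η.1) = _
      simp only [regDot, classInner, map_mul, map_sum, map_inv₀, map_natCast, Complex.conj_conj,
        Finset.mul_sum]
      rw [Finset.sum_comm]
      refine Finset.sum_congr rfl fun s _ => ?_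
      by_cases hs : p ∣ orderOf s
      · simp [Char.regFun, hs]
      · simp only [Char.regFun, if_neg hs, secFun, hc, Finset.sum_mul, Finset.mul_sum]
        exact Finset.sum_congr rfl fun η _ => by ring
    simp only [hcon, mul_assoc, ← Finset.mul_sum, Finset.sum_mul]
    rw [Finset.sum_comm]
    congr 1
    refine Finset.sum_congr rfl fun s _ => ?_
    by_cases hs : p ∣ orderOf s
    · simp [hs]
    · simp only [if_neg hs, Finset.mul_sum]
      exact Finset.sum_congr rfl fun ψ _ => by ring
  obtain ⟨z, hz⟩ := Blocks.exists_isPPart (p := p) g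
  by_cases hconj : IsConj z x
  swap
  · have h0 : ∑ ψ ∈ Finset.univ.filter (· ∈ B), contribution p b χ₀.1 ψ.1 * ψ.1 g = 0 := by
      rw [hK, Finset.sum_eq_zero, mul_zero]
      intro s _
      by_cases hs : p ∣ orderOf s
      · simp [hs]
      rw [if_neg hs, block_orthogonality hpM hz
        (isPPart_mul (Subgroup.mem_centralizer_singleton_iff.1 s.2).symm ⟨k, hx⟩
          (by rw [IsPRegular, Subgroup.orderOf_coe]; exact hs)) hconj hb.2.1, mul_zero]
    rw [h0, mul_zero, zero_div]
    exact ⟨memLocalRing_zero, memLocalRing_zero⟩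
  obtain ⟨h, hh⟩ := isConj_iff.1 hconj
  have hz' : IsPPart p (h * g * h⁻¹) x := hh ▸ Blocks.IsPPart.conj hz h
  have hcl : ∀ ψ : IrrCharacter G, ψ.1 g = ψ.1 (h * g * h⁻¹) := fun ψ => (irr_classFun ψ g h).symm
  simp only [hcl]
  rw [← card_centralizer_conj h g]
  generalize h * g * h⁻¹ = g' at hz' ⊢
  obtain ⟨s₀, hs₀, hs₀r⟩ := exists_regular_factor hz'
  rw [← card_centralizer_section hz' s₀ hs₀]
  have hs₀' : ¬ p ∣ orderOf s₀ := hs₀r
  have hval : ∑ ψ ∈ Finset.univ.filter (· ∈ B), contribution p b χ₀.1 ψ.1 * ψ.1 g' = c s₀ := by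
    set U := Finset.univ.filter
      (· ∈ inducingSet M (Subgroup.centralizer ({x} : Set G)) B) with hU
    rw [hK, ← hs₀]
    calc _ = ∑ ν ∈ U, ν.1 s₀ * ∑ η ∈ T, a η * regDot p η.1 ν.1 := by
          simp only [regDot, classInner, Finset.mul_sum]
          rw [Finset.sum_congr rfl fun ν _ => Finset.sum_comm]
          rw [Finset.sum_comm]
          refine Finset.sum_congr rfl fun s _ => ?_
          by_cases hs : p ∣ orderOf s
          · simp [hs, Char.regFun]
          rw [if_neg hs, ← Finset.mul_sum, second_main_orth hpM ⟨k, hx⟩ hb.2.1 hs₀r hs]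
          simp only [hc, Char.regFun, if_neg hs, Finset.mul_sum, Finset.sum_mul]
          exact Finset.sum_congr rfl fun ν _ => Finset.sum_congr rfl fun η _ => by ring
      _ = _ := by
          simp only [Finset.mul_sum, hc]
          rw [Finset.sum_comm]
          refine Finset.sum_congr rfl fun η hη => ?_
          have hexp := congrFun (Char.eq_sum_classInner_smul (Char.isClassFunction_regFun p
            (irr_classFun η))) s₀
          rw [Char.regFun, if_neg hs₀', Finset.sum_apply] at hexp
          rw [hexp, Finset.mul_sum]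
          refine (Finset.sum_subset (Finset.subset_univ U) fun ν _ hν => ?_).trans
            (Finset.sum_congr rfl fun ν _ => ?_)
          · rw [regDot_eq_zero hpM hp.out hb.1 (Finset.mem_filter.1 hη).2 fun h => hν
              (Finset.mem_filter.2 ⟨Finset.mem_univ _, by
                show IsInducedBlock M _ (blockOf M ν.1) B
                rwa [← Blocks.block_eq hb.1 h]⟩), mul_zero, mul_zero]
          · show _ = a η * (regDot p η.1 ν.1 * ν.1 s₀)
            ring
  rw [hval]
  refine ⟨memLocalRing_of_isIntegral (IsIntegral.sum _ fun η _ =>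
    (hai η).mul (CharInt.isIntegral_char (Char.irr_isCharacter η) s₀)), ?_⟩
  choose! n hn using fun η (hη : η ∈ b) => BrauerPairs.exists_int_regDot hpM hp.out hb.1 hη
  set f : IrrCharacter (Subgroup.centralizer ({x} : Set G)) → ℂ :=
    fun ν => ∑ η ∈ T, a η * (n η ν : ℂ) with hf
  have hfs : ∀ t, ∑ ν, f ν * ν.1 t =
      ((p ^ blockDefect p b : ℕ) : ℂ) * ∑ η ∈ T, a η * Char.regFun p η.1 t := by
    intro t
    simp only [hf, Finset.sum_mul, Finset.mul_sum]
    rw [Finset.sum_comm]
    refine Finset.sum_congr rfl fun η hη => ?_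
    conv_rhs => rw [Char.eq_sum_classInner_smul (Char.isClassFunction_regFun p (irr_classFun η)),
      Finset.sum_apply, Finset.mul_sum, Finset.mul_sum]
    refine Finset.sum_congr rfl fun ν _ => ?_
    rw [← hn η (Finset.mem_filter.1 hη).2 ν]
    show _ = _ * (a η * (regDot p η.1 ν.1 * ν.1 t))
    ring
  have hmain := BlocksX.Klein.memLocalRing_div_centralizer (M := M) hpM f (fun ν => by
      refine MemLocalRing.sum _ fun η _ => memLocalRing_of_isIntegral ?_
      exact (hai η).mul (isIntegral_algebraMap (x := n η ν)))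
    (fun t ht => by
      rw [hfs t, Finset.sum_eq_zero, mul_zero]
      intro η _
      rw [Char.regFun, if_pos (not_not.1 ht), mul_zero]) s₀
  rw [hfs s₀] at hmain
  simpa [Char.regFun, hs₀', hc] using hmain

end Cfsg.Agent.Blocks.CyclicDefect
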