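import Cfsg.Agent.S4645
import Cfsg.Agent.Lib.BrauerPairs.CorrespondenceNormal
import Cfsg.Agent.Lib.Blocks.CyclicDefect.Lower

/-!
# Cyclic defect groups: the inertial group and the local blocks

For a maximal pair `(P, e)` with `P ≠ 1` cyclic: the stabiliser `T`, the local block at every
nontrivial `Q ≤ P`, and `|T : C(P)| ≤ l(B)`.
-/

set_option autoImplicit false
set_option linter.unusedSectionVars false
set_option linter.style.haveILetI false

namespace Cfsg.Agent.Blocks.CyclicDefect

open Cfsg
open Cfsg.Agent.BrauerPairs (blk blkG IsBlockIdem br conjEl IsMax PLE stabOf mem_stabOf hasBlocks incl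
  isBlockIdem_blkG)
open scoped Classical

universe u

variable {G : Type u} [Group G] [Fintype G] {M : Ideal AlgInt} [M.IsMaximal] {p : ℕ}
  [hp : Fact p.Prime] [CharP (AlgInt ⧸ M) p]

/-- A block with a maximal pair on a nontrivial cyclic group. -/
structure Datum (M : Ideal AlgInt) [M.IsMaximal] (p : ℕ) (B : Set (IrrCharacter G)) (P : Subgroup G)
    (c : Set (IrrCharacter (Subgroup.centralizer (P : Set G)))) : Prop where
  modular : IsPModular p M
  block : IsPBlock M B
  local_block : IsPBlock M c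
  isMax : IsMax p (blkG M B) (P, blk M (Subgroup.centralizer (P : Set G)) c)
  cyc : IsCyclic P
  ne : P ≠ ⊥

variable {B : Set (IrrCharacter G)} {P : Subgroup G}
  {c : Set (IrrCharacter (Subgroup.centralizer (P : Set G)))}

/-- The stabiliser of the pair. -/
noncomputable abbrev inGroup (M : Ideal AlgInt) [M.IsMaximal] (P : Subgroup G)
    (c : Set (IrrCharacter (Subgroup.centralizer (P : Set G)))) : Subgroup G :=
  stabOf P (blk M (Subgroup.centralizer (P : Set G)) c)

/-- The inertial index. -/
noncomputable abbrev inIndex (M : Ideal AlgInt) [M.IsMaximal] (P : Subgroup G)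
    (c : Set (IrrCharacter (Subgroup.centralizer (P : Set G)))) : ℕ :=
  (Subgroup.centralizer (P : Set G)).relIndex (inGroup M P c)

namespace Datum

variable (d : Datum M p B P c)
include d

theorem isPGroup : IsPGroup p P := d.isMax.1.1.1

theorem le_centralizer : P ≤ Subgroup.centralizer (P : Set G) := fun x hx =>
  Subgroup.mem_centralizer_iff.2 fun y hy =>
    congrArg Subtype.val (d.cyc.commGroup.mul_comm ⟨y, hy⟩ ⟨x, hx⟩)

theorem isDefectGroup : IsDefectGroup p M B P := BrauerPairs.isDefectGroup_of_isMax d.block d.isMax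

theorem induced : IsInducedBlock M (Subgroup.centralizer (P : Set G)) c B :=
  (BrauerPairs.isInducedBlock_iff_br d.modular.2.2 d.isPGroup d.le_centralizer le_rfl
    (Subgroup.centralizer_le_normalizer _) d.local_block d.block).2 d.isMax.1.2

theorem mem_inGroup (g : G) : g ∈ inGroup M P c ↔ (g ∈ Subgroup.normalizer (P : Set G) ∧
    StabilizesBlock (Subgroup.centralizer (P : Set G)) c g) := by
  rw [mem_stabOf]
  exact and_congr_right fun hg =>
    (BrauerPairs.stabilizesBlock_iff d.local_block
      (BrauerPairs.normalizer_le_normalizer_centralizer P hg)).symm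

theorem centralizer_le : Subgroup.centralizer (P : Set G) ≤ inGroup M P c :=
  BrauerPairs.centralizer_le_stabOf d.isMax.1.1.2

theorem normal_centralizer : ((Subgroup.centralizer (P : Set G)).subgroupOf (inGroup M P c)).Normal :=
  Subgroup.normal_subgroupOf_of_le_normalizer
    (fun _ hg => BrauerPairs.normalizer_le_normalizer_centralizer P hg.1)

theorem dvd_pred : inIndex M P c ∣ p - 1 :=
  letI := d.normal_centralizer
  (S4633.result p M d.modular B d.block P d.isDefectGroup d.ne d.cyc c d.induced _ d.mem_inGroup).2.1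

/-- The inertial group acts freely. -/
theorem free {g x : G} (hg : g ∈ inGroup M P c) (hx : x ∈ P) (hx1 : x ≠ 1) (h : g * x * g⁻¹ = x) :
    g ∈ Subgroup.centralizer (P : Set G) :=
  letI := d.normal_centralizer
  (S4633.result p M d.modular B d.block P d.isDefectGroup d.ne d.cyc c d.induced _ d.mem_inGroup).2.2
    g hg x hx hx1 h

theorem not_dvd_inIndex : ¬ p ∣ inIndex M P c := fun h => by
  have h1 := Nat.le_of_dvd (Nat.sub_pos_of_lt hp.out.one_lt) (h.trans d.dvd_pred)
  have := hp.out.pos
  omega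

theorem inIndex_pos : 0 < inIndex M P c := Nat.pos_of_ne_zero fun h => d.not_dvd_inIndex (by rw [h]; exact dvd_zero p)

theorem exists_generator : ∃ t ∈ inGroup M P c,
    Subgroup.centralizer (P : Set G) ⊔ Subgroup.zpowers t = inGroup M P c := by
  haveI := d.normal_centralizer
  obtain ⟨hc, -, -⟩ :=
    S4633.result p M d.modular B d.block P d.isDefectGroup d.ne d.cyc c d.induced _ d.mem_inGroup
  obtain ⟨q, hq⟩ := hc.exists_generator
  obtain ⟨t, rfl⟩ := QuotientGroup.mk_surjective q
  refine ⟨t, t.2, le_antisymm (sup_le d.centralizer_le (Subgroup.zpowers_le.2 t.2)) fun g hg => ?_⟩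
  obtain ⟨i, hi⟩ := Subgroup.mem_zpowers_iff.1 (hq ((⟨g, hg⟩ : inGroup M P c) : _ ⧸ _))
  rw [← QuotientGroup.mk_zpow, QuotientGroup.eq] at hi
  rw [Subgroup.mem_subgroupOf] at hi
  have h1 := mul_mem (Subgroup.mem_sup_right (S := Subgroup.centralizer (P : Set G))
    (Subgroup.zpow_mem_zpowers (t : G) i)) (Subgroup.mem_sup_left (T := Subgroup.zpowers (t : G)) hi)
  simpa [mul_inv_cancel_left] using h1

/-- The local block at a nontrivial subgroup of `P`. -/
theorem exists_local {Q : Subgroup G} (hQ : Q ≤ P) (hQ1 : Q ≠ ⊥) :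
    ∃ f : Set (IrrCharacter (Subgroup.centralizer (Q : Set G))), IsPBlock M f ∧
      PLE p (Q, blk M _ f) (P, blk M _ c) ∧
      inGroup M P c ⊔ Subgroup.centralizer (Q : Set G) = stabOf Q (blk M _ f) ∧
      (Subgroup.centralizer (Q : Set G)).relIndex (stabOf Q (blk M _ f)) = inIndex M P c ∧
      blockRank p f = 1 ∧ IsNilpotentBlock p M f ∧
      br P (blk M _ f) * blk M _ c = blk M _ c ∧
      BrauerPairs.DefectIn p (Subgroup.centralizer (Q : Set G)) (blk M _ f) P := by
  have hblk : ∀ H : Subgroup G, BrauerPairs.HasBlocks (AlgInt ⧸ M) H := fun H => hasBlocks M H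
  obtain ⟨fq, hfq⟩ := BrauerPairs.exists_ple hblk d.isMax.1.1 Q hQ
  have hst := BrauerPairs.step_of_ple_comm hblk d.isMax.1.1 d.le_centralizer hfq
  obtain ⟨f, hf, rfl⟩ := BrauerPairs.exists_eq_blk (Subgroup.centralizer (Q : Set G))
    (hfq.isPair_left d.isMax.1.1).2
  have hCle : Subgroup.centralizer (P : Set G) ≤ Subgroup.centralizer (Q : Set G) :=
    Subgroup.centralizer_le hQ
  have hin := BrauerPairs.isInducedBlockIn_of_br d.isPGroup (d.le_centralizer.trans hCle) hCle
    d.local_block hf hst.2.2.2.2.2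
  obtain ⟨h1, h2, h3, h4⟩ := S4645.result p M d.modular B d.block P d.isDefectGroup d.ne d.cyc c
    d.induced (inGroup M P c) d.mem_inGroup Q hQ hQ1 f hin (stabOf Q (blk M _ f)) fun g => by
      rw [mem_stabOf]
      exact and_congr_right fun hg => (BrauerPairs.stabilizesBlock_iff hf
        (BrauerPairs.normalizer_le_normalizer_centralizer Q hg)).symm
  exact ⟨f, hf, hfq, h1.symm, h2, h3, h4, hst.2.2.2.2.2,
    BrauerPairs.defectIn_centralizer_of_comm hblk (isBlockIdem_blkG d.block) d.isMax d.le_centralizer hfq⟩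

theorem exists_order_p : ∃ z ∈ P, orderOf z = p := by
  obtain ⟨n, hn⟩ := d.isPGroup.exists_card_eq
  have hn0 : n ≠ 0 := fun h => d.ne (Subgroup.card_eq_one.1 (by rw [hn, h, pow_zero]))
  obtain ⟨x, hx⟩ := exists_prime_orderOf_dvd_card' (G := P) p (by rw [hn]; exact dvd_pow_self p hn0)
  exact ⟨x, x.2, by rwa [Subgroup.orderOf_coe]⟩

/-- `|T : C(P)| ≤ l(B)`. -/
theorem inIndex_le_blockRank : inIndex M P c ≤ blockRank p B := by
  have hblk : ∀ H : Subgroup G, BrauerPairs.HasBlocks (AlgInt ⧸ M) H := fun H => hasBlocks M H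
  obtain ⟨z, hzP, hz⟩ := d.exists_order_p
  have hQP : Subgroup.zpowers z ≤ P := Subgroup.zpowers_le.2 hzP
  have hQ1 : Subgroup.zpowers z ≠ ⊥ := fun h => by
    rw [Subgroup.zpowers_eq_bot] at h
    rw [h, orderOf_one] at hz
    exact hp.out.ne_one hz.symm
  obtain ⟨f, hf, hfq, hsup, hidx, hrank, -, -, hD⟩ := d.exists_local hQP hQ1
  have hCH : (Subgroup.centralizer (Subgroup.zpowers z : Set G)) ≤ (stabOf (Subgroup.zpowers z) (blk M (Subgroup.centralizer (Subgroup.zpowers z : Set G)) f)) := hsup ▸ le_sup_right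
  obtain ⟨t, ht, htgen⟩ := d.exists_generator
  have hCle : Subgroup.centralizer (P : Set G) ≤ (Subgroup.centralizer (Subgroup.zpowers z : Set G)) := Subgroup.centralizer_le hQP
  have htH : t ∈ (stabOf (Subgroup.zpowers z) (blk M (Subgroup.centralizer (Subgroup.zpowers z : Set G)) f)) := hsup ▸ Subgroup.mem_sup_left ht
  have hgen : (Subgroup.centralizer (Subgroup.zpowers z : Set G)) ⊔ Subgroup.zpowers t = (stabOf (Subgroup.zpowers z) (blk M (Subgroup.centralizer (Subgroup.zpowers z : Set G)) f)) := by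
    rw [← hsup, ← htgen]
    refine le_antisymm (sup_le le_sup_right (le_sup_right.trans le_sup_left)) (sup_le ?_ le_sup_left)
    exact sup_le (hCle.trans le_sup_left) le_sup_right
  have hfi := BrauerPairs.isBlockIdem_blk (Subgroup.centralizer (Subgroup.zpowers z : Set G)) hf
  obtain ⟨a, haC, haP, hrel⟩ := hD.exists_relTr_eq hblk hfi
  have hpair := (BrauerPairs.ple_isPairOf_iff (isBlockIdem_blkG d.block) hfq).1 d.isMax.1
  refine hidx ▸ relIndex_le_blockRank d.block hz (N := Subgroup.normalizer (Subgroup.zpowers z : Set G))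
    rfl rfl hCH (fun g hg => hg.1) htH hgen (hidx ▸ d.not_dvd_inIndex) (d.le_centralizer.trans hCle)
    d.isPGroup d.cyc hf hrank.le (fun g hg => hg.2) haC haP hrel.symm hpair.2 (fun g hgN hgH => ?_)
    fun g hg u hu hu' => ?_
  · have hconj : IsBlockIdem (Subgroup.centralizer (Subgroup.zpowers z : Set G)) (conjEl g (blk M (Subgroup.centralizer (Subgroup.zpowers z : Set G)) f)) := by
      have h := hfi.conj g
      rwa [BrauerPairs.map_conj_centralizer, BrauerPairs.map_conj_eq_of_mem_normalizer hgN] at h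
    exact hconj.mul_eq_zero_of_ne hfi fun h => hgH ⟨hgN, h⟩
  · by_contra hu1
    refine hg (BrauerPairs.mem_normalizer_of_conj_le fun x hx => ?_)
    have hsub : (Subgroup.zpowers z).map (MulAut.conj g).toMonoidHom = Subgroup.zpowers z := by
      set R := (Subgroup.zpowers (g⁻¹ * u * g))
      have hR : R ≤ P := Subgroup.zpowers_le.2 hu'
      have hR1 : g⁻¹ * u * g ≠ 1 := fun h => hu1 (by simpa [mul_assoc] using congrArg (fun y => g * y * g⁻¹) h)
      obtain ⟨n, hn⟩ := d.isPGroup.exists_card_eq
      obtain ⟨m, -, hm⟩ := (Nat.dvd_prime_pow hp.out).1 (hn ▸ Subgroup.card_dvd_of_le hR)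
      have hm0 : m ≠ 0 := fun h => hR1 (by
        rw [h, pow_zero, Subgroup.card_eq_one, Subgroup.zpowers_eq_bot] at hm
        exact hm)
      obtain ⟨y, hy⟩ := exists_prime_orderOf_dvd_card' (G := R) p (by rw [hm]; exact dvd_pow_self p hm0)
      have hcardY : Nat.card (Subgroup.zpowers (y : G)) = Nat.card (Subgroup.zpowers z) := by
        rw [Nat.card_zpowers, Nat.card_zpowers, Subgroup.orderOf_coe, hy, hz]
      have hYz := S4645.le_of_card_eq_cyclic d.cyc hQP (Subgroup.zpowers_le.2 (hR y.2)) hcardY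
      have hzR : Subgroup.zpowers z ≤ R := hYz ▸ Subgroup.zpowers_le.2 y.2
      refine S4645.le_of_card_eq_cyclic d.cyc hQP ((Subgroup.map_mono hzR).trans ?_)
        (BrauerPairs.card_map_conj g _)
      rw [MonoidHom.map_zpowers, Subgroup.zpowers_le]
      simpa [mul_assoc] using hu
    exact hsub.le ⟨x, hx, rfl⟩

end Datum

/-- A cyclic defect group carries a datum. -/
theorem exists_datum (hM : IsPModular p M) (hB : IsPBlock M B) (hP : IsDefectGroup p M B P)
    (hcyc : IsCyclic P) (hne : P ≠ ⊥) : ∃ c, Datum M p B P c := by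
  obtain ⟨e, he, hmax⟩ := BrauerPairs.exists_isMax_of_isDefectGroup hB hP
  exact ⟨e, hM, hB, he, hmax, hcyc, hne⟩

end Cfsg.Agent.Blocks.CyclicDefect
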