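import Cfsg.Agent.Lib.Blocks.CyclicDefect.Vec
import Cfsg.Agent.Lib.DefectOne.Vectors

/-!
# The shape of a block with cyclic defect group

`shape`: the block is `X ∪ Y` with `|X| = e`, `e |Y| + 1 = |P|`; `θ χ = ± 1` on `X` and, on `Y`,
a fixed sign times the sum over a class of nontrivial characters of `P`.
-/

set_option autoImplicit false
set_option linter.unusedSectionVars false
set_option linter.style.haveILetI false

namespace Cfsg.Agent.Blocks.CyclicDefect

open Cfsg Blocks MonoidAlgebra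
open Cfsg.Agent.BrauerPairs (blk blkG IsBlockIdem regDot)
open Cfsg.Agent.Blocks.NilRank (sectF eU blkSet)
open scoped Classical ComplexConjugate

universe u

variable {G : Type u} [Group G] [Fintype G] {M : Ideal AlgInt} [M.IsMaximal] {p : ℕ}
  [hp : Fact p.Prime] [CharP (AlgInt ⧸ M) p]

theorem unit_of_sum_sq {ι : Type*} {s : Finset ι} {w : ι → ℤ} {N : ℤ} (h0 : ∀ x ∈ s, w x ≠ 0)
    (h : ∑ x ∈ s, w x ^ 2 ≤ N) (hN : N ≤ s.card) :
    (∀ x ∈ s, w x = 1 ∨ w x = -1) ∧ (s.card : ℤ) = N := by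
  have h1 : ∀ x ∈ s, (1 : ℤ) ≤ w x ^ 2 := fun x hx => by
    have := h0 x hx
    nlinarith [Int.one_le_abs this, sq_abs (w x), abs_nonneg (w x)]
  have hle : (s.card : ℤ) ≤ ∑ x ∈ s, w x ^ 2 := by
    calc (s.card : ℤ) = ∑ x ∈ s, (1 : ℤ) := by simp
      _ ≤ _ := Finset.sum_le_sum h1
  have heq : ∑ x ∈ s, w x ^ 2 = ∑ x ∈ s, (1 : ℤ) := by simp; omega
  refine ⟨fun x hx => ?_, by omega⟩
  exact sq_eq_one_iff.1 ((Finset.sum_eq_sum_iff_of_le h1).1 heq.symm x hx).symm

/-- Vectors of Gram matrix `e J + I`, without zero columns, at least `e + |Ω|` coordinates: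
a common sign vector off the image of `f`, a common sign on it. -/
theorem exists_sign_shape {X Ω : Type*} [Fintype X] [Fintype Ω] [DecidableEq X] [DecidableEq Ω]
    [Nonempty Ω] {e : ℕ} (c : Ω → X → ℤ)
    (hgram : ∀ i j, ∑ x, c i x * c j x = (e : ℤ) + if i = j then 1 else 0) {D : X → ℤ}
    (hD : ∀ x, 0 < D x) (horth : ∀ i, ∑ x, D x * c i x = 0) (hne : ∀ x, ∃ i, c i x ≠ 0)
    (hcard : e + Fintype.card Ω ≤ Fintype.card X) :
    Fintype.card X = e + Fintype.card Ω ∧ ∃ (w : X → ℤ) (δ : ℤ) (f : Ω → X),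
      (δ = 1 ∨ δ = -1) ∧ Function.Injective f ∧ (∀ i, w (f i) = 0) ∧
      (∀ x, (∀ i, f i ≠ x) → (w x = 1 ∨ w x = -1)) ∧
      ∀ i x, c i x = w x + if x = f i then δ else 0 := by
  rcases subsingleton_or_nontrivial Ω with h | h
  · obtain ⟨i₀⟩ := (inferInstance : Nonempty Ω)
    have hΩ : Fintype.card Ω = 1 :=
      Fintype.card_eq_one_iff.2 ⟨i₀, fun j => Subsingleton.elim j i₀⟩
    have h0 : ∀ x ∈ (Finset.univ : Finset X), c i₀ x ≠ 0 := fun x _ => by
      obtain ⟨i, hi⟩ := hne x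
      rwa [Subsingleton.elim i i₀] at hi
    have hg := hgram i₀ i₀
    rw [if_pos rfl] at hg
    obtain ⟨hu, hcX⟩ := unit_of_sum_sq h0 (N := (e : ℤ) + 1) (by simp only [pow_two, hg, le_refl])
      (by rw [Finset.card_univ]; omega)
    rw [Finset.card_univ] at hcX
    refine ⟨by omega, ?_⟩
    obtain ⟨x₀⟩ : Nonempty X := Fintype.card_pos_iff.1 (by omega)
    refine ⟨fun x => if x = x₀ then 0 else c i₀ x, c i₀ x₀, fun _ => x₀, hu x₀ (Finset.mem_univ _),
      fun a b _ => Subsingleton.elim a b, fun _ => if_pos rfl, fun x hx => ?_, fun i x => ?_⟩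
    · simp only [if_neg (hx i₀).symm]; exact hu x (Finset.mem_univ _)
    · rw [Subsingleton.elim i i₀]
      show _ = (if x = x₀ then 0 else c i₀ x) + _
      split_ifs with hx
      · subst hx; simp
      · simp
  obtain ⟨w, δ, f, a, hδ, hf, hc, hwf, hnorm⟩ :=
    DefectOne.exists_exceptional (e : ℤ) c hgram hD horth
  set F := Finset.univ.image f with hF
  have hFcard : F.card = Fintype.card Ω := Finset.card_image_of_injective _ hf
  have hout : ∀ x ∈ Fᶜ, w x ≠ 0 := fun x hx h0 => by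
    obtain ⟨i, hi⟩ := hne x
    rw [hc, h0, if_neg fun he => Finset.mem_compl.1 hx (Finset.mem_image.2 ⟨i, Finset.mem_univ _, he.symm⟩),
      add_zero] at hi
    exact hi rfl
  have hsplit : ∑ x ∈ Fᶜ, w x ^ 2 + (Fintype.card Ω : ℤ) * a ^ 2 + 2 * δ * a = e := by
    rw [← hnorm, ← Finset.sum_compl_add_sum F, Finset.sum_congr (s₁ := F) rfl
      (g := fun _ => a ^ 2) fun x hx => by
        obtain ⟨i, -, rfl⟩ := Finset.mem_image.1 hx
        rw [hwf], Finset.sum_const, hFcard, nsmul_eq_mul]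
  have hcompl : (Fᶜ.card : ℤ) = Fintype.card X - Fintype.card Ω := by
    rw [Finset.card_compl, hFcard, Nat.cast_sub]
    exact (hFcard.symm ▸ Finset.card_le_univ F)
  have hlow : (e : ℤ) ≤ ∑ x ∈ Fᶜ, w x ^ 2 := by
    refine le_trans (show (e : ℤ) ≤ Fᶜ.card by omega) ?_
    calc (Fᶜ.card : ℤ) = ∑ x ∈ Fᶜ, (1 : ℤ) := by simp
      _ ≤ _ := Finset.sum_le_sum fun x hx => by
        have := hout x hx
        nlinarith [Int.one_le_abs this, sq_abs (w x), abs_nonneg (w x)]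
  have hr : 2 ≤ Fintype.card Ω := Fintype.one_lt_card
  have ha : a = 0 ∨ (Fintype.card Ω = 2 ∧ a = -δ) := by
    have hr2 : (2 : ℤ) ≤ (Fintype.card Ω : ℤ) := by exact_mod_cast hr
    have hle : (Fintype.card Ω : ℤ) * a ^ 2 + 2 * δ * a ≤ 0 := by omega
    rcases eq_or_ne a 0 with h0 | h0
    · exact Or.inl h0
    · right
      have ha1 : a = 1 ∨ a = -1 := by
        have hb : -2 < a ∧ a < 2 := by rcases hδ with rfl | rfl <;> constructor <;> nlinarith
        omega
      rcases hδ with rfl | rfl <;> rcases ha1 with rfl | rfl <;> constructor <;>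
        first | omega | nlinarith
  have hzero : (Fintype.card Ω : ℤ) * a ^ 2 + 2 * δ * a = 0 := by
    rcases ha with rfl | ⟨h2, rfl⟩
    · ring
    · rw [h2]; rcases hδ with rfl | rfl <;> norm_num
  obtain ⟨hu, hcX⟩ := unit_of_sum_sq hout (N := (e : ℤ)) (by omega) (by omega)
  refine ⟨by omega, ?_⟩
  have hoff : ∀ x, (∀ i, f i ≠ x) → w x = 1 ∨ w x = -1 := fun x hx => hu x (Finset.mem_compl.2 fun hm => by
    obtain ⟨i, -, hi⟩ := Finset.mem_image.1 hm
    exact hx i hi)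
  rcases ha with rfl | ⟨h2, rfl⟩
  · exact ⟨w, δ, f, hδ, hf, hwf, hoff, hc⟩
  · obtain ⟨i₀, i₁, h01, huniv⟩ := Finset.card_eq_two.1
      (show (Finset.univ : Finset Ω).card = 2 by rw [Finset.card_univ, h2])
    have hall : ∀ i, i = i₀ ∨ i = i₁ := fun i => by
      have := Finset.mem_univ i
      rw [huniv] at this
      simpa using this
    set σ := Equiv.swap i₀ i₁
    have hσ : ∀ i j, j = σ i ↔ j ≠ i := fun i j => by
      rcases hall i with rfl | rfl <;> rcases hall j with rfl | rfl <;>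
        simp [σ, h01, h01.symm]
    refine ⟨fun x => if x ∈ F then 0 else w x, -δ, f ∘ σ, by omega, hf.comp σ.injective, fun i => ?_,
      fun x hx => ?_, fun i x => ?_⟩
    · exact if_pos (Finset.mem_image.2 ⟨_, Finset.mem_univ _, rfl⟩)
    · have hx' : ∀ i, f i ≠ x := fun i => by simpa using hx (σ.symm i)
      have hm : x ∉ F := fun hm => by
        obtain ⟨i, -, hi⟩ := Finset.mem_image.1 hm
        exact hx' i hi
      simp only [if_neg hm]
      exact hoff x hx'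
    · show _ = (if x ∈ F then 0 else w x) + if x = f (σ i) then -δ else 0
      rw [hc]
      by_cases hm : x ∈ F
      · obtain ⟨j, -, rfl⟩ := Finset.mem_image.1 hm
        rw [if_pos hm, hwf]
        simp only [hf.eq_iff, hσ]
        split_ifs <;> first | contradiction | omega
      · rw [if_neg hm, if_neg fun he => hm (Finset.mem_image.2 ⟨i, Finset.mem_univ _, he.symm⟩),
          if_neg fun he => hm (Finset.mem_image.2 ⟨σ i, Finset.mem_univ _, he.symm⟩)]

variable {B : Set (IrrCharacter G)} {P : Subgroup G}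
  {c : Set (IrrCharacter (Subgroup.centralizer (P : Set G)))}

/-- The shape of a block with cyclic defect group, for given `θ`. -/
structure Shape (d : Datum M p B P c) (θ : IrrCharacter G → P → ℂ) where
  X : Finset (IrrCharacter G)
  Y : Finset (IrrCharacter G)
  sgn : IrrCharacter G → ℤ
  sgn₀ : ℤ
  chr : IrrCharacter G → IrrCharacter P
  mem_iff : ∀ χ, χ ∈ B ↔ χ ∈ X ∨ χ ∈ Y
  disj : Disjoint X Y
  card_X : X.card = inIndex M P c
  card_Y : Y.card * inIndex M P c + 1 = Nat.card P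
  rank_eq : blockRank p B = inIndex M P c
  sgn_unit : ∀ χ ∈ X, sgn χ = 1 ∨ sgn χ = -1
  sgn₀_unit : sgn₀ = 1 ∨ sgn₀ = -1
  theta_X : ∀ χ ∈ X, ∀ u : P, u ≠ 1 → θ χ u = sgn χ
  theta_Y : ∀ ψ ∈ Y, ∀ u : P, u ≠ 1 → θ ψ u = -(sgn₀ : ℂ) * ∑ w ∈ d.orb u, (chr ψ).1 w
  chr_ne : ∀ ψ ∈ Y, chr ψ ≠ Char.trivialChar P
  chr_inj : ∀ ψ ∈ Y, ∀ ψ' ∈ Y, chr ψ' ∈ d.cls (chr ψ) → ψ' = ψ
  chr_surj : ∀ l, l ≠ Char.trivialChar P → ∃ ψ ∈ Y, l ∈ d.cls (chr ψ)
  agree : ∀ ψ ∈ Y, ∀ ψ' ∈ Y, ∀ g : G, ¬ p ∣ orderOf g → ψ.1 g = ψ'.1 g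
  relation : ∀ ψ ∈ Y, ∀ g : G, ¬ p ∣ orderOf g →
    (sgn₀ : ℂ) * ψ.1 g + ∑ χ ∈ X, (sgn χ : ℂ) * χ.1 g = 0

namespace Datum

variable (d : Datum M p B P c) {θ : IrrCharacter G → P → ℂ}
include d

theorem shape (hint : ∀ χ (l : IrrCharacter P), ∃ m : ℤ, classInner (θ χ) l.1 = m)
    (hinv : ∀ χ, ∀ t ∈ inGroup M P c, ∀ u v : P, (v : G) = t * u * t⁻¹ → θ χ v = θ χ u)
    (hθ : ∀ χ ψ : IrrCharacter G, ∀ u : P, u ≠ 1 →
      (Nat.card P : ℂ) * sectF p (Subgroup.centralizer ({(u : G)} : Set G)) u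
          (blkSet M _ (eU p P (blk M (Subgroup.centralizer (P : Set G)) c) u)) χ.1 ψ.1 =
        θ χ u * conj (θ ψ u)) : Nonempty (Shape d θ) := by
  let L := {l : IrrCharacter P // l ≠ Char.trivialChar P}
  let St : Setoid L := ⟨fun l m => m.1 ∈ d.cls l.1,
    ⟨fun l => d.mem_cls_self _, fun h => d.mem_cls_symm h, fun h h' => d.mem_cls_trans h h'⟩⟩
  let Ω := Quotient St
  haveI : Fintype Ω := Fintype.ofFinite _
  have hE := d.inIndex_pos
  have hcardL : Fintype.card L + 1 = Nat.card P := by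
    rw [← d.card_irr_P, Fintype.card_subtype_compl, Fintype.card_subtype_eq]
    have : 0 < Fintype.card (IrrCharacter P) := Fintype.card_pos_iff.2 ⟨Char.trivialChar _⟩
    omega
  have hfib : ∀ C : Ω, (Finset.univ.filter fun l : L => (Quotient.mk St l : Ω) = C).card =
      inIndex M P c := by
    intro C
    obtain ⟨l₀, rfl⟩ := Quotient.exists_rep C
    rw [← d.card_cls l₀.2]
    refine Finset.card_bij (fun l _ => l.1) (fun l hl => ?_) (fun a _ b _ hab => Subtype.ext hab)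
      fun l hl => ?_
    · exact d.mem_cls_symm (Quotient.exact (Finset.mem_filter.1 hl).2)
    · obtain ⟨t, ht⟩ := d.mem_cls.1 hl
      exact ⟨⟨l, ht ▸ d.twist_ne l₀.2⟩,
        Finset.mem_filter.2 ⟨Finset.mem_univ _, Quotient.sound (d.mem_cls_symm hl)⟩, rfl⟩
  have hcardΩ : Fintype.card Ω * inIndex M P c + 1 = Nat.card P := by
    rw [← hcardL, ← Finset.card_univ, ← Finset.card_univ,
      Finset.card_eq_sum_card_fiberwise (s := (Finset.univ : Finset L))
        (t := (Finset.univ : Finset Ω)) (f := fun l => (Quotient.mk St l : Ω)) (fun x _ => Finset.mem_univ _),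
      Finset.sum_congr rfl fun C _ => hfib C, Finset.sum_const, smul_eq_mul]
  haveI : Nonempty Ω := Fintype.card_pos_iff.1 (by
    rcases Nat.eq_zero_or_pos (Fintype.card Ω) with h | h
    · have := d.one_lt_card
      rw [h] at hcardΩ
      omega
    · exact h)
  let S := Finset.univ.filter (fun χ : IrrCharacter G => χ ∈ B)
  have hSB : ∀ χ, χ ∈ S ↔ χ ∈ B := fun χ => by simp [S]
  have hkB : Fintype.card S = Nat.card B := by
    rw [Fintype.card_coe, Nat.card_eq_fintype_card, Fintype.card_subtype]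
  -- `k = l + |Ω|`
  have hrank : Nat.card B = blockRank p B + Fintype.card Ω := by
    have := d.card_eq hθ
    refine Nat.eq_of_mul_eq_mul_left hE ?_
    rw [mul_add, mul_comm _ (Fintype.card Ω)]
    omega
  have hle := d.inIndex_le_blockRank
  choose vI hvI using fun χ l => d.vec_int (θ := θ) hint χ l
  let cc : Ω → S → ℤ := fun C χ => Quotient.liftOn C (fun l => vI χ.1 l.1) fun l m (hlm : m.1 ∈ d.cls l.1) =>
    Int.cast_inj.1 (show (vI χ.1 l.1 : ℂ) = vI χ.1 m.1 by rw [← hvI, ← hvI, d.vec_of_mem_cls hinv _ hlm])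
  have hcc : ∀ (l : L) (χ : S), (cc (Quotient.mk St l) χ : ℂ) = vec θ χ.1 l.1 := fun l χ => (hvI _ _).symm
  have hgram : ∀ i j, ∑ χ : S, cc i χ * cc j χ = (inIndex M P c : ℤ) + if i = j then 1 else 0 := by
    intro i j
    obtain ⟨l, rfl⟩ := Quotient.exists_rep i
    obtain ⟨m, rfl⟩ := Quotient.exists_rep j
    refine Int.cast_inj (α := ℂ) |>.1 ?_
    push_cast
    simp only [hcc]
    rw [Finset.sum_coe_sort S fun χ => vec θ χ l.1 * vec θ χ m.1, d.gram hθ hint hinv l.2 m.2]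
    congr 1
    by_cases hh : l.1 ∈ d.cls m.1
    · rw [if_pos hh, if_pos (Quotient.sound (d.mem_cls_symm hh))]
    · rw [if_neg hh, if_neg fun he => hh (d.mem_cls_symm (Quotient.exact he))]
  have h1 : ¬ p ∣ orderOf (1 : G) := by simp [hp.out.ne_one]
  have horth : ∀ i, ∑ χ : S, (Char.degree χ.1 : ℤ) * cc i χ = 0 := by
    intro i
    obtain ⟨l, rfl⟩ := Quotient.exists_rep i
    refine Int.cast_inj (α := ℂ) |>.1 ?_
    push_cast
    simp only [hcc, ← Char.apply_one_eq_degree]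
    rw [Finset.sum_coe_sort S fun χ => χ.1 1 * vec θ χ l.1, ← d.sum_vec_mul_regular hθ l.1 h1]
    exact Finset.sum_congr rfl fun χ _ => CommMonoid.mul_comm _ _
  have hk2 : 1 < Nat.card B := by
    have := Fintype.card_pos (α := Ω)
    omega
  have hne : ∀ χ : S, ∃ i, cc i χ ≠ 0 := by
    intro χ
    obtain ⟨l, hl⟩ := d.exists_vec_ne_zero hθ hk2 ((hSB _).1 χ.2)
    refine ⟨Quotient.mk St ⟨l, fun he => hl (he ▸ d.vec_trivial χ.1)⟩, fun h => hl ?_⟩
    rw [← hcc ⟨l, fun he => hl (he ▸ d.vec_trivial χ.1)⟩ χ, h, Int.cast_zero]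
  obtain ⟨hcardS, w, δ, f, hδ, hf, hwf, hoff, hc⟩ :=
    exists_sign_shape cc hgram (fun χ => by exact_mod_cast Char.degree_pos χ.1) horth hne
      (by rw [hkB]; omega)
  let Y : Finset (IrrCharacter G) := Finset.univ.image fun C => (f C).1
  let sgn : IrrCharacter G → ℤ := fun χ => if hχ : χ ∈ S then w ⟨χ, hχ⟩ else 0
  let chr : IrrCharacter G → IrrCharacter P := fun χ =>
    if h : ∃ C, (f C).1 = χ then ((Quotient.out h.choose : L) : IrrCharacter P) else Char.trivialChar P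
  have hYS : Y ⊆ S := fun χ hχ => by
    obtain ⟨C, -, rfl⟩ := Finset.mem_image.1 hχ
    exact (f C).2
  have hYcard : Y.card = Fintype.card Ω :=
    Finset.card_image_of_injective _ fun a b hab => hf (Subtype.ext hab)
  have hchr : ∀ C, Quotient.mk St (Quotient.out C) = C ∧ chr (f C).1 = (Quotient.out C).1 := fun C => by
    refine ⟨Quotient.out_eq C, ?_⟩
    have hex : ∃ D, (f D).1 = (f C).1 := ⟨C, rfl⟩
    simp only [chr, dif_pos hex, hf (Subtype.ext hex.choose_spec)]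
  -- the values of `θ`
  have hval : ∀ (χ : S) (u : P), u ≠ 1 → θ χ.1 u = (w χ : ℂ) -
      ∑ l : L, (if χ = f (Quotient.mk St l) then (δ : ℂ) else 0) * l.1.1 u := by
    intro χ u hu
    rw [d.theta_eq_vec (θ := θ) χ.1 hu]
    have h0 := d.sum_apply_eq_zero hu
    rw [← Fintype.sum_subtype_add_sum_subtype (fun l => l ≠ Char.trivialChar P)] at h0 ⊢
    have hT : ∀ F : IrrCharacter P → ℂ,
        ∑ l : {l : IrrCharacter P // ¬ l ≠ Char.trivialChar P}, F l.1 = F (Char.trivialChar P) := fun F => by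
      rw [Fintype.sum_eq_single ⟨Char.trivialChar P, not_not.2 rfl⟩ fun b hb =>
        absurd (Subtype.ext (not_not.1 b.2)) hb]
    rw [hT (fun l => vec θ χ.1 l * l.1 u), d.vec_trivial, zero_mul, add_zero]
    rw [hT (fun l => l.1 u)] at h0
    rw [Finset.sum_congr rfl fun (l : L) _ => show vec θ χ.1 l.1 * l.1.1 u = (w χ : ℂ) * l.1.1 u +
      (if χ = f (Quotient.mk St l) then (δ : ℂ) else 0) * l.1.1 u by
        rw [← hcc, hc]; push_cast; ring, Finset.sum_add_distrib, ← Finset.mul_sum]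
    simp only [Char.trivialChar_apply] at h0
    linear_combination (-(w χ : ℂ)) * h0
  have hoffY : ∀ χ : S, χ.1 ∉ Y → ∀ i, f i ≠ χ := fun χ hχ i he =>
    hχ (Finset.mem_image.2 ⟨i, Finset.mem_univ _, by rw [he]⟩)
  -- the relation
  have hrel : ∀ (C : Ω) (g : G), ¬ p ∣ orderOf g →
      ∑ χ : S, (w χ : ℂ) * χ.1.1 g + (δ : ℂ) * (f C).1.1 g = 0 := by
    intro C g hg
    obtain ⟨l, rfl⟩ := Quotient.exists_rep C
    rw [← d.sum_vec_mul_regular hθ l.1 hg, ← Finset.sum_coe_sort S fun χ => vec θ χ l.1 * χ.1 g,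
      Finset.sum_congr rfl (s₁ := (Finset.univ : Finset S)) (f := fun χ => vec θ χ.1 l.1 * χ.1.1 g)
        fun χ _ => by rw [← hcc l χ, hc]]
    push_cast
    simp only [add_mul, Finset.sum_add_distrib, ite_mul, zero_mul, Finset.sum_ite_eq',
      Finset.mem_univ, if_true]
  refine ⟨⟨S \ Y, Y, sgn, δ, chr, fun χ => ?_, Finset.sdiff_disjoint, ?_, hYcard ▸ hcardΩ, ?_,
    fun χ hχ => ?_, hδ, fun χ hχ u hu => ?_, fun ψ hψ u hu => ?_, fun ψ hψ => ?_,
    fun ψ hψ ψ' hψ' h => ?_, fun l hl => ?_, fun ψ hψ ψ' hψ' g hg => ?_, fun ψ hψ g hg => ?_⟩⟩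
  · rw [← hSB, Finset.mem_sdiff]
    exact ⟨fun h => or_iff_not_imp_right.2 fun h' => ⟨h, h'⟩, fun h => h.elim And.left fun h => hYS h⟩
  · rw [Finset.card_sdiff_of_subset hYS, hYcard, ← Fintype.card_coe, hcardS]
    omega
  · rw [hkB] at hcardS
    omega
  · obtain ⟨hχS, hχY⟩ := Finset.mem_sdiff.1 hχ
    simp only [sgn, dif_pos hχS]
    exact hoff ⟨χ, hχS⟩ (hoffY ⟨χ, hχS⟩ hχY)
  · obtain ⟨hχS, hχY⟩ := Finset.mem_sdiff.1 hχ
    rw [hval ⟨χ, hχS⟩ u hu, Finset.sum_eq_zero fun l _ => by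
      rw [if_neg fun he => hoffY ⟨χ, hχS⟩ hχY _ he.symm, zero_mul], sub_zero]
    simp only [sgn, dif_pos hχS]
  · obtain ⟨C, -, rfl⟩ := Finset.mem_image.1 hψ
    obtain ⟨hC, hC'⟩ := hchr C
    rw [hval (f C) u hu, hwf, hC', ← d.sum_cls_apply (Quotient.out C).2 hu, Int.cast_zero, zero_sub,
      neg_mul, Finset.mul_sum]
    congr 1
    rw [Finset.sum_congr rfl fun (l : L) _ => show (if f C = f (Quotient.mk St l) then (δ : ℂ) else 0) *
        l.1.1 u = if l.1 ∈ d.cls (Quotient.out C).1 then (δ : ℂ) * l.1.1 u else 0 by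
      by_cases hh : l.1 ∈ d.cls (Quotient.out C).1
      · rw [if_pos hh, if_pos]
        exact congrArg f (hC.symm.trans (Quotient.sound hh))
      · rw [if_neg hh, if_neg, zero_mul]
        exact fun he => hh (Quotient.exact (hC.trans (hf he)))]
    rw [← Finset.sum_subtype (Finset.univ.filter fun l => l ≠ Char.trivialChar P) (by simp)
      fun l => if l ∈ d.cls (Quotient.out C).1 then (δ : ℂ) * l.1 u else 0, ← Finset.sum_filter]
    refine Finset.sum_congr ?_ fun _ _ => rfl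
    ext l
    simp only [Finset.mem_filter, Finset.mem_univ, true_and]
    exact ⟨And.right, fun h => ⟨by obtain ⟨t, rfl⟩ := d.mem_cls.1 h; exact d.twist_ne (Quotient.out C).2, h⟩⟩
  · obtain ⟨C, -, rfl⟩ := Finset.mem_image.1 hψ
    rw [(hchr C).2]
    exact (Quotient.out C).2
  · obtain ⟨C, -, rfl⟩ := Finset.mem_image.1 hψ
    obtain ⟨C', -, rfl⟩ := Finset.mem_image.1 hψ'
    rw [(hchr C).2, (hchr C').2] at h
    rw [← (hchr C).1, ← (hchr C').1, Quotient.sound (a := Quotient.out C) (b := Quotient.out C') h]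
  · refine ⟨(f (Quotient.mk St ⟨l, hl⟩)).1, Finset.mem_image.2 ⟨_, Finset.mem_univ _, rfl⟩, ?_⟩
    rw [(hchr _).2]
    exact Quotient.exact (hchr (Quotient.mk St ⟨l, hl⟩)).1
  · obtain ⟨C, -, rfl⟩ := Finset.mem_image.1 hψ
    obtain ⟨C', -, rfl⟩ := Finset.mem_image.1 hψ'
    have := (hrel C g hg).trans (hrel C' g hg).symm
    rcases hδ with rfl | rfl <;> push_cast at this <;>
      first | linear_combination this | linear_combination -this
  · obtain ⟨C, -, rfl⟩ := Finset.mem_image.1 hψ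
    rw [← hrel C g hg, Finset.sum_congr (s₁ := (Finset.univ : Finset S)) rfl fun χ _ => show
      (w χ : ℂ) * χ.1.1 g = (sgn χ.1 : ℂ) * χ.1.1 g by simp only [sgn, dif_pos χ.2],
      Finset.sum_coe_sort S fun χ => (sgn χ : ℂ) * χ.1 g, add_comm]
    congr 1
    refine Finset.sum_subset Finset.sdiff_subset fun χ hχS hχ => ?_
    obtain ⟨D, -, rfl⟩ := Finset.mem_image.1 (by
      simpa [hχS] using hχ : χ ∈ Y)
    simp only [sgn, dif_pos (f D).2]
    rw [show (⟨(f D).1, (f D).2⟩ : S) = f D from rfl, hwf, Int.cast_zero, zero_mul]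

end Datum

end Cfsg.Agent.Blocks.CyclicDefect
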