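import Cfsg.Agent.Lib.Blocks.CyclicDefect.Uniserial
import Cfsg.Agent.Lib.BrauerPairs.Sub

/-!
# Maps which are not traces from the trivial subgroup

* `TrOne`: maps that are relative traces from `1`;
* `fix_of_central`: a `p`-element generating a normal subgroup acts trivially on irreducibles;
* `exists_irr_not_trOne`: an irreducible `W` of a subgroup has a map, not such a trace, into some
  irreducible module of a block `β` of the group as soon as `β` restricted to the subgroup acts
  as `1` on `W`;
* `irr_restrict`, `twist`: irreducibles of a cyclic extension.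
-/

set_option autoImplicit false
set_option linter.unusedSectionVars false
set_option linter.style.haveILetI false

namespace Cfsg.Agent.Blocks.CyclicDefect

open MonoidAlgebra
open Cfsg.Agent.BrauerPairs (incl coeff_incl_coe coeff_incl_of_notMem)
open scoped Classical

universe u v w

variable {k : Type w} [Field k] {G : Type u} [Group G] [Finite G]

section trOne

variable {V : Type v} [AddCommGroup V] [Module k V] {W : Type v} [AddCommGroup W] [Module k W]
  {U : Type v} [AddCommGroup U] [Module k U]

/-- `f` is a relative trace from the trivial subgroup. -/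
def TrOne (ρ : Representation k G V) (σ : Representation k G W) (f : V →ₗ[k] W) : Prop :=
  ∃ g : V →ₗ[k] W, f = (letI := Fintype.ofFinite G; ∑ h : G, cjMap ρ σ h g)

theorem cjMap_add (ρ : Representation k G V) (σ : Representation k G W) (g : G) (f f' : V →ₗ[k] W) :
    cjMap ρ σ g (f + f') = cjMap ρ σ g f + cjMap ρ σ g f' :=
  LinearMap.ext fun x => by simp [cjMap_apply]

theorem cjMap_smul (ρ : Representation k G V) (σ : Representation k G W) (g : G) (c : k)
    (f : V →ₗ[k] W) : cjMap ρ σ g (c • f) = c • cjMap ρ σ g f :=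
  LinearMap.ext fun x => by simp [cjMap_apply]

theorem cjMap_comp_left {ρ : Representation k G V} {σ : Representation k G W}
    {τ : Representation k G U} {f' : W →ₗ[k] U} (hf' : Intw σ τ f') (g : G) (f : V →ₗ[k] W) :
    f'.comp (cjMap ρ σ g f) = cjMap ρ τ g (f'.comp f) :=
  LinearMap.ext fun x => by simp [cjMap_apply, hf' g]

theorem cjMap_comp_right {ρ : Representation k G V} {σ : Representation k G W}
    {τ : Representation k G U} {f : V →ₗ[k] W} (hf : Intw ρ σ f) (g : G) (f' : W →ₗ[k] U) :
    (cjMap σ τ g f').comp f = cjMap ρ τ g (f'.comp f) :=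
  LinearMap.ext fun x => by simp [cjMap_apply, hf g⁻¹]

theorem TrOne.zero (ρ : Representation k G V) (σ : Representation k G W) : TrOne ρ σ 0 :=
  ⟨0, by simp [cjMap]⟩

theorem TrOne.add {ρ : Representation k G V} {σ : Representation k G W} {f f' : V →ₗ[k] W}
    (h : TrOne ρ σ f) (h' : TrOne ρ σ f') : TrOne ρ σ (f + f') := by
  obtain ⟨g, rfl⟩ := h
  obtain ⟨g', rfl⟩ := h'
  exact ⟨g + g', by simp only [cjMap_add, Finset.sum_add_distrib]⟩

theorem TrOne.smul {ρ : Representation k G V} {σ : Representation k G W} {f : V →ₗ[k] W}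
    (h : TrOne ρ σ f) (c : k) : TrOne ρ σ (c • f) := by
  obtain ⟨g, rfl⟩ := h
  exact ⟨c • g, by simp only [cjMap_smul, Finset.smul_sum]⟩

theorem TrOne.sub {ρ : Representation k G V} {σ : Representation k G W} {f f' : V →ₗ[k] W}
    (h : TrOne ρ σ f) (h' : TrOne ρ σ f') : TrOne ρ σ (f - f') := by
  rw [sub_eq_add_neg, ← neg_one_smul k f']
  exact h.add (h'.smul _)

theorem TrOne.comp_left {ρ : Representation k G V} {σ : Representation k G W}
    {τ : Representation k G U} {f : V →ₗ[k] W} (h : TrOne ρ σ f) {f' : W →ₗ[k] U}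
    (hf' : Intw σ τ f') : TrOne ρ τ (f'.comp f) := by
  obtain ⟨g, rfl⟩ := h
  refine ⟨f'.comp g, ?_⟩
  simp only [comp_sum', cjMap_comp_left hf']

theorem TrOne.comp_right {ρ : Representation k G V} {σ : Representation k G W}
    {τ : Representation k G U} {f : V →ₗ[k] W} (hf : Intw ρ σ f) {f' : W →ₗ[k] U}
    (h : TrOne σ τ f') : TrOne ρ τ (f'.comp f) := by
  obtain ⟨g, rfl⟩ := h
  refine ⟨g.comp f, ?_⟩
  simp only [sum_comp', cjMap_comp_right hf]

theorem intw_sum_cjMap (ρ : Representation k G V) (σ : Representation k G W) (g : V →ₗ[k] W)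
    [Fintype G] : Intw ρ σ (∑ h : G, cjMap ρ σ h g) := by
  refine intwOn_top.1 (intwOn_of_cjMap fun x _ => ?_)
  rw [cjMap_sum]
  exact Fintype.sum_equiv (Equiv.mulLeft x) _ _ fun h => (cjMap_mul ρ σ x h g).symm

end trOne

/-- The restriction to a subgroup. -/
noncomputable def res {V : Type v} [AddCommGroup V] [Module k V] (H : Subgroup G)
    (ρ : Representation k G V) : Representation k H V :=
  ρ.comp H.subtype

theorem res_apply {V : Type v} [AddCommGroup V] [Module k V] (H : Subgroup G)
    (ρ : Representation k G V) (h : H) : res H ρ h = ρ (h : G) := rfl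

theorem asAlgebraHom_res {V : Type v} [AddCommGroup V] [Module k V] (H : Subgroup G)
    (ρ : Representation k G V) (a : MonoidAlgebra k H) :
    (res H ρ).asAlgebraHom a = ρ.asAlgebraHom (incl H k a) := by
  induction a using MonoidAlgebra.induction_on with
  | of g => simp [res, BrauerPairs.incl]
  | add a b ha hb => simp [ha, hb]
  | smul c a ha => simp [ha]

/-- If all maps into irreducibles of `β` are traces, so are all maps into modules of `β`. -/
theorem trOne_of_irr {H : Subgroup G} {W : Type v} [AddCommGroup W] [Module k W]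
    {τ : Representation k H W} {β : MonoidAlgebra k G}
    (hall : ∀ (S : Type v) [AddCommGroup S] [Module k S] [FiniteDimensional k S]
      (σ : Representation k G S), Irr σ → σ.asAlgebraHom β = 1 →
      ∀ φ : W →ₗ[k] S, Intw τ (res H σ) φ → TrOne τ (res H σ) φ) :
    ∀ (n : ℕ) (V : Type v) [AddCommGroup V] [Module k V] [FiniteDimensional k V]
      (ρ : Representation k G V), Module.finrank k V ≤ n → ρ.asAlgebraHom β = 1 →
      ∀ φ : W →ₗ[k] V, Intw τ (res H ρ) φ → TrOne τ (res H ρ) φ := by
  intro n
  induction n with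
  | zero =>
    intro V _ _ _ ρ hn _ φ _
    haveI : Subsingleton V := Module.finrank_zero_iff.1 (Nat.le_zero.1 hn)
    rw [Subsingleton.elim φ 0]
    exact TrOne.zero _ _
  | succ n ih =>
    intro V _ _ _ ρ hn hρ φ hφ
    rcases subsingleton_or_nontrivial V with hV | hV
    · rw [Subsingleton.elim φ 0]; exact TrOne.zero _ _
    obtain ⟨U, hU, hirr⟩ := exists_irr_quotient ρ
    have hUt : U ≠ ⊤ := Submodule.Quotient.nontrivial_iff.1 hirr.1
    have hQ : Intw (res H ρ) (res H (quotRep ρ hU)) U.mkQ := fun g x => intw_mkQ hU (g : G) x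
    obtain ⟨g, hg⟩ := hall _ (quotRep ρ hU) hirr (asAlgebraHom_quotRep hU hρ) (U.mkQ.comp φ)
      (fun h x => by simp only [LinearMap.comp_apply, hφ h x, hQ h])
    letI := Fintype.ofFinite H
    obtain ⟨lift, hlift⟩ := U.mkQ.exists_rightInverse_of_surjective (Submodule.range_mkQ U)
    set φ' := φ - ∑ h : H, cjMap τ (res H ρ) h (lift.comp g)
    have hmem : ∀ x, φ' x ∈ U := by
      intro x
      rw [← Submodule.Quotient.mk_eq_zero, ← Submodule.mkQ_apply, LinearMap.sub_apply, map_sub]
      have h1 : U.mkQ.comp (∑ h : H, cjMap τ (res H ρ) h (lift.comp g)) =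
          ∑ h : H, cjMap τ (res H (quotRep ρ hU)) h g := by
        rw [comp_sum']
        exact Finset.sum_congr rfl fun h _ => by
          rw [cjMap_comp_left hQ, ← LinearMap.comp_assoc, hlift, LinearMap.id_comp]
      have h2 := LinearMap.congr_fun h1 x
      have h3 := LinearMap.congr_fun hg x
      simp only [LinearMap.comp_apply] at h2 h3
      rw [h2, h3, sub_eq_zero]
    have hφ' : Intw τ (res H (resRep ρ hU)) (φ'.codRestrict U hmem) := fun h x => Subtype.ext (by
      show φ' (τ h x) = ρ (h : G) (φ' x)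
      simp only [φ', LinearMap.sub_apply, map_sub, hφ h x, intw_sum_cjMap τ (res H ρ) _ h x]
      rfl)
    have hsub : Module.finrank k U ≤ n := by
      have := Submodule.finrank_lt hUt
      omega
    have hI : Intw (res H (resRep ρ hU)) (res H ρ) U.subtype := fun _ _ => rfl
    have h4 := (ih _ (resRep ρ hU) hsub (asAlgebraHom_resRep hU hρ) _ hφ').comp_left hI
    rw [LinearMap.subtype_comp_codRestrict] at h4
    have h5 : TrOne τ (res H ρ) (∑ h : H, cjMap τ (res H ρ) h (lift.comp g)) := ⟨lift.comp g, by congr!⟩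
    simpa [φ'] using h4.add h5

variable {p : ℕ} [hp : Fact p.Prime] [CharP k p]

include hp in
/-- A `p`-element normalised by the group acts trivially on irreducibles. -/
theorem fix_of_normal {W : Type v} [AddCommGroup W] [Module k W] {τ : Representation k G W}
    [FiniteDimensional k W] (hτ : Irr τ) {z : G} {n : ℕ} (hz : z ^ p ^ n = 1)
    (hnorm : ∀ g : G, g * z * g⁻¹ ∈ Subgroup.zpowers z) : τ z = 1 := by
  haveI := hτ.1
  haveI : CharP (Module.End k W) p := charP_of_injective_algebraMap (algebraMap k _).injective p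
  have hpow : ∀ m : ℕ, ∀ x, τ z x = x → τ (z ^ m) x = x := fun m x hx => by
    induction m with
    | zero => simp
    | succ m ih => rw [pow_succ, map_mul, Module.End.mul_apply, hx, ih]
  have hinv : Inv τ (LinearMap.ker (τ z - 1)) := by
    intro g x hx
    rw [LinearMap.mem_ker, LinearMap.sub_apply, Module.End.one_apply, sub_eq_zero] at hx ⊢
    obtain ⟨i, hi⟩ := Subgroup.mem_zpowers_iff.1 (hnorm g⁻¹)
    obtain ⟨m, hm⟩ : ∃ m : ℕ, g⁻¹ * z * g⁻¹⁻¹ = z ^ m := by
      refine ⟨(i % (orderOf z : ℤ)).toNat, ?_⟩
      rw [← zpow_natCast z, Int.toNat_of_nonneg (Int.emod_nonneg _ (by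
        exact_mod_cast (orderOf_pos z).ne')), zpow_mod_orderOf, hi]
    rw [inv_inv] at hm
    rw [show τ z (τ g x) = τ (g * (g⁻¹ * z * g)) x by
      rw [← mul_assoc, ← mul_assoc, mul_inv_cancel, one_mul, map_mul]; rfl, hm, map_mul,
      Module.End.mul_apply, hpow m x hx]
  have hne : LinearMap.ker (τ z - 1) ≠ ⊥ := by
    intro h
    have hinj := LinearMap.ker_eq_bot.1 h
    set T : Module.End k W := τ z - 1 with hT
    have h0 : T ^ p ^ n = 0 := by
      rw [hT]
      rw [sub_pow_char_pow_of_commute p n (Commute.one_right _), one_pow, ← map_pow, hz, map_one, sub_self]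
    have hinj' : Function.Injective (T ^ p ^ n) := by
      rw [Module.End.coe_pow]; exact hinj.iterate _
    obtain ⟨x, hx⟩ := exists_ne (0 : W)
    exact hx (hinj' (by rw [h0]; rfl))
  exact sub_eq_zero.1 (LinearMap.ker_eq_top.1 ((hτ.2 _ hinv).resolve_left hne))

include hp in
/-- The identity of an irreducible is not a trace when a `p`-element acts trivially. -/
theorem not_trOne_id {W : Type v} [AddCommGroup W] [Module k W] [Nontrivial W]
    {τ : Representation k G W} {z : G} (hz : orderOf z = p) (hfix : τ z = 1) :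
    ¬ TrOne τ τ LinearMap.id := by
  rintro ⟨g, hg⟩
  letI := Fintype.ofFinite G
  letI := Fintype.ofFinite (G ⧸ Subgroup.zpowers z)
  letI := Fintype.ofFinite (Subgroup.zpowers z)
  have hzq : ∀ u : Subgroup.zpowers z, τ (u : G) = 1 := by
    intro u
    have hker : Subgroup.zpowers z ≤ τ.ker := Subgroup.zpowers_le.2 hfix
    exact hker u.2
  have h0 : ∑ h : G, cjMap τ τ h g = 0 := by
    rw [sum_cosets (Subgroup.zpowers z)]
    refine Finset.sum_eq_zero fun q _ => ?_
    rw [Finset.sum_congr rfl fun (u : Subgroup.zpowers z) _ => show cjMap τ τ (q.out * (u : G)) g = cjMap τ τ q.out g by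
      rw [cjMap_mul]
      congr 1
      refine cjMap_eq_self (Q := Subgroup.zpowers z) (fun y hy x => ?_) u.2
      rw [hzq ⟨y, hy⟩]; rfl, Finset.sum_const, Finset.card_univ, ← Nat.card_eq_fintype_card,
      Nat.card_zpowers, hz, ← Nat.cast_smul_eq_nsmul k, CharP.cast_eq_zero, zero_smul]
  obtain ⟨x, hx⟩ := exists_ne (0 : W)
  refine hx ?_
  have := LinearMap.congr_fun hg x
  simp only [LinearMap.id_apply] at this
  rw [this]
  rw [← LinearMap.zero_apply (σ₁₂ := RingHom.id k) (M₂ := W) x]
  convert LinearMap.congr_fun h0 x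

/-- If all maps into irreducibles of `β` are traces, so is `β φ` for every map `φ`. -/
theorem trOne_beta {H : Subgroup G} {W : Type v} [AddCommGroup W] [Module k W]
    {τ : Representation k H W} {β : MonoidAlgebra k G} (hββ : β * β = β) (hβc : ∀ a, β * a = a * β)
    (hall : ∀ (S : Type v) [AddCommGroup S] [Module k S] [FiniteDimensional k S]
      (σ : Representation k G S), Irr σ → σ.asAlgebraHom β = 1 →
      ∀ φ : W →ₗ[k] S, Intw τ (res H σ) φ → TrOne τ (res H σ) φ)
    {V : Type v} [AddCommGroup V] [Module k V] [FiniteDimensional k V] (ρ : Representation k G V)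
    (φ : W →ₗ[k] V) (hφ : Intw τ (res H ρ) φ) :
    TrOne τ (res H ρ) ((ρ.asAlgebraHom β).comp φ) := by
  set P : Module.End k V := ρ.asAlgebraHom β with hP
  have hcomm : ∀ g x, P (ρ g x) = ρ g (P x) := fun g x => by
    have h := congrArg (fun a => ρ.asAlgebraHom a x) (hβc (MonoidAlgebra.single g 1))
    simpa using h
  have hI : Inv ρ (LinearMap.range P) := by
    rintro g _ ⟨x, rfl⟩
    exact ⟨ρ g x, hcomm g x⟩
  have hone : (resRep ρ hI).asAlgebraHom β = 1 := LinearMap.ext fun ⟨_, x, rfl⟩ => Subtype.ext (by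
    refine ((intw_subtype hI).asAlgebraHom β _).trans ?_
    show P (P x) = P x
    rw [← Module.End.mul_apply, hP, ← map_mul, hββ])
  have h1 : Intw τ (res H (resRep ρ hI)) ((P.comp φ).codRestrict (LinearMap.range P) fun w => ⟨φ w, rfl⟩) :=
    fun h w => Subtype.ext (by
      show P (φ (τ h w)) = ρ (h : G) (P (φ w))
      rw [hφ h w, res_apply, hcomm])
  have hsub : Intw (res H (resRep ρ hI)) (res H ρ) (LinearMap.range P).subtype := fun _ _ => rfl
  have h2 := (trOne_of_irr hall _ _ (resRep ρ hI) le_rfl hone _ h1).comp_left hsub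
  exact h2

/-- The functions `F : G → W` with `F (h g) = h (F g)`. -/
def coindSpace {H : Subgroup G} {W : Type v} [AddCommGroup W] [Module k W]
    (τ : Representation k H W) : Submodule k (G → W) where
  carrier := {F | ∀ (h : H) (g : G), F ((h : G) * g) = τ h (F g)}
  zero_mem' := fun h g => by simp
  add_mem' := fun {F F'} hF hF' h g => by simp [hF h g, hF' h g]
  smul_mem' := fun c F hF h g => by simp [hF h g]

/-- Right translation. -/
def coindRep {H : Subgroup G} {W : Type v} [AddCommGroup W] [Module k W]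
    (τ : Representation k H W) : Representation k G (coindSpace τ) where
  toFun g :=
    { toFun := fun F => ⟨fun x => F.1 (x * g), fun h x => by simpa [mul_assoc] using F.2 h (x * g)⟩
      map_add' := fun F F' => rfl
      map_smul' := fun c F => rfl }
  map_one' := LinearMap.ext fun F => Subtype.ext (funext fun x => congrArg F.1 (mul_one x))
  map_mul' g g' := LinearMap.ext fun F => Subtype.ext (funext fun x =>
    congrArg F.1 (mul_assoc x g g').symm)

theorem coindRep_apply {H : Subgroup G} {W : Type v} [AddCommGroup W] [Module k W]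
    (τ : Representation k H W) (g : G) (F : coindSpace τ) (x : G) :
    (coindRep τ g F).1 x = F.1 (x * g) := rfl

theorem coindRep_asAlgebraHom [Fintype G] {H : Subgroup G} {W : Type v} [AddCommGroup W] [Module k W]
    (τ : Representation k H W) (a : MonoidAlgebra k G) (F : coindSpace τ) :
    ((coindRep τ).asAlgebraHom a F).1 1 = ∑ x, a.coeff x • F.1 x := by
  induction a using MonoidAlgebra.induction_on with
  | of x =>
    rw [Finset.sum_eq_single x]
    · simp [coindRep_apply]
    · intro y _ hy; simp [MonoidAlgebra.of_apply, Finsupp.single_apply, Ne.symm hy]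
    · exact fun h => absurd (Finset.mem_univ x) h
  | add a b ha hb => simp [ha, hb, add_smul, Finset.sum_add_distrib]
  | smul c a ha => simp [ha, Finset.smul_sum, smul_smul]

/-- The functions supported on `H`. -/
noncomputable def coindDelta {H : Subgroup G} {W : Type v} [AddCommGroup W] [Module k W]
    (τ : Representation k H W) : W →ₗ[k] coindSpace τ where
  toFun w := ⟨fun g => if h : g ∈ H then τ ⟨g, h⟩ w else 0, fun h g => by
    show (if h' : (h : G) * g ∈ H then τ ⟨(h : G) * g, h'⟩ w else 0) =
      τ h (if h' : g ∈ H then τ ⟨g, h'⟩ w else 0)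
    by_cases hg : g ∈ H
    · rw [dif_pos (mul_mem h.2 hg), dif_pos hg, ← Module.End.mul_apply, ← map_mul]
      rfl
    · rw [dif_neg fun h' => hg ?_, dif_neg hg, map_zero]
      have := mul_mem (inv_mem h.2) h'
      simpa [← mul_assoc] using this⟩
  map_add' a b := Subtype.ext (funext fun g => by
    show (if h : g ∈ H then τ ⟨g, h⟩ (a + b) else 0) = _
    by_cases hg : g ∈ H <;> simp [hg])
  map_smul' c a := Subtype.ext (funext fun g => by
    show (if h : g ∈ H then τ ⟨g, h⟩ (c • a) else 0) = _
    by_cases hg : g ∈ H <;> simp [hg])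

theorem intw_coindDelta {H : Subgroup G} {W : Type (max u v)} [AddCommGroup W] [Module k W]
    (τ : Representation k H W) : Intw τ (res H (coindRep τ)) (coindDelta τ) :=
  fun h w => Subtype.ext (funext fun g => by
    show (if h' : g ∈ H then τ ⟨g, h'⟩ (τ h w) else 0) =
      (if h' : g * (h : G) ∈ H then τ ⟨g * h, h'⟩ w else 0)
    by_cases hg : g ∈ H
    · rw [dif_pos hg, dif_pos (mul_mem hg h.2), ← Module.End.mul_apply, ← map_mul]; rfl
    · rw [dif_neg hg, dif_neg fun h' => hg (by simpa [mul_assoc] using mul_mem h' (inv_mem h.2))])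

/-- Evaluation at `1`. -/
def coindEval {H : Subgroup G} {W : Type v} [AddCommGroup W] [Module k W]
    (τ : Representation k H W) : coindSpace τ →ₗ[k] W where
  toFun F := F.1 1
  map_add' _ _ := rfl
  map_smul' _ _ := rfl

theorem intw_coindEval {H : Subgroup G} {W : Type (max u v)} [AddCommGroup W] [Module k W]
    (τ : Representation k H W) : Intw (res H (coindRep τ)) τ (coindEval τ) := fun h F => by
  show F.1 (1 * (h : G)) = τ h (F.1 1)
  rw [one_mul]
  simpa using F.2 h 1

include hp in
/-- A non-trace map from `W` into an irreducible of `β`. -/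
theorem exists_irr_not_trOne {β : MonoidAlgebra k G} (hββ : β * β = β) (hβc : ∀ a, β * a = a * β)
    {H : Subgroup G} {W : Type (max u v)} [AddCommGroup W] [Module k W] [FiniteDimensional k W]
    [Nontrivial W] {τ : Representation k H W} {βH : MonoidAlgebra k H}
    (hβH : ∀ h : H, βH.coeff h = β.coeff (h : G)) (hone : τ.asAlgebraHom βH = 1) {z : H}
    (hz : orderOf z = p) (hfix : τ z = 1) :
    ∃ (S : Type (max u v)) (_ : AddCommGroup S) (_ : Module k S) (_ : FiniteDimensional k S)
      (σ : Representation k G S) (φ : W →ₗ[k] S), Irr σ ∧ σ.asAlgebraHom β = 1 ∧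
        Intw τ (res H σ) φ ∧ ¬ TrOne τ (res H σ) φ := by
  by_contra hcon
  push Not at hcon
  letI := Fintype.ofFinite G
  letI := Fintype.ofFinite H
  have hall : ∀ (S : Type (max u v)) [AddCommGroup S] [Module k S] [FiniteDimensional k S]
      (σ : Representation k G S), Irr σ → σ.asAlgebraHom β = 1 →
      ∀ φ : W →ₗ[k] S, Intw τ (res H σ) φ → TrOne τ (res H σ) φ :=
    fun S _ _ _ σ hσ hσβ φ hφ => hcon S inferInstance inferInstance inferInstance σ φ hσ hσβ hφ
  obtain ⟨g, hg⟩ := (trOne_beta.{u, max u v, w} hββ hβc hall (coindRep τ) (coindDelta τ)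
    (intw_coindDelta τ)).comp_left (intw_coindEval τ)
  refine not_trOne_id (p := p) hz hfix ⟨g, ?_⟩
  rw [← hg]
  refine LinearMap.ext fun w => ?_
  show w = ((coindRep τ).asAlgebraHom β (coindDelta τ w)).1 1
  rw [coindRep_asAlgebraHom]
  conv_lhs => rw [show w = τ.asAlgebraHom βH w by rw [hone]; rfl, Blocks.eq_sum_single βH]
  simp only [map_sum, LinearMap.sum_apply, Representation.asAlgebraHom_single, LinearMap.smul_apply, hβH]
  rw [← Finset.sum_subset (Finset.subset_univ (Finset.univ.filter fun x => x ∈ H)) fun x _ hx => by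
    show β.coeff x • (if h : x ∈ H then τ ⟨x, h⟩ w else 0) = 0
    rw [dif_neg (by simpa using hx), smul_zero]]
  rw [Finset.sum_subtype (p := (· ∈ H)) (Finset.univ.filter fun x => x ∈ H) (by simp)]
  refine Finset.sum_congr rfl fun h _ => ?_
  show _ = β.coeff (h : G) • (if h' : (h : G) ∈ H then τ ⟨h, h'⟩ w else 0)
  rw [dif_pos h.2]

end Cfsg.Agent.Blocks.CyclicDefect
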