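import Cfsg.Agent.Lib.Blocks.CyclicDefect.StableExist

/-!
# Separating two irreducible submodules over a group with a uniserial normal block

`H` has a normal subgroup `C` of index prime to `p`, `f` is a central idempotent of `k[H]`
supported on `C` whose basic algebra is spanned by `e` and the powers of a nilpotent `x`.
`exists_separating`: for two non-isomorphic irreducibles in a module on which `f` is `1` there is
an endomorphism that kills one and fixes the other.
-/

set_option autoImplicit false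
set_option linter.unusedSectionVars false
set_option linter.style.haveILetI false

namespace Cfsg.Agent.Blocks.CyclicDefect

open MonoidAlgebra
open Cfsg.Agent.BrauerPairs (suppIn conjEl fixedBy)
open scoped Classical

universe u v w

variable {k : Type w} [Field k] {H : Type u} [Group H] [Finite H]

local notation "A" => MonoidAlgebra k H

/-- The data of a uniserial block of the normal subgroup `C`. -/
structure UniBlock (C : Subgroup H) (f e x : MonoidAlgebra k H) : Prop where
  central : f ∈ fixedBy k (⊤ : Subgroup H)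
  supp_e : e ∈ suppIn k C
  supp_x : x ∈ suppIn k C
  idem : e * e = e
  mul_e : f * e = e
  e_mul : e * f = e
  mul_x : e * x * e = x
  nilp : IsNilpotent x
  span : ∀ a ∈ suppIn k C, ∃ c : k,
    e * a * e - c • e ∈ Submodule.span k (Set.range fun i : ℕ => x ^ (i + 1))
  full : ∃ (n : ℕ) (a b : Fin n → MonoidAlgebra k H),
    (∀ i, a i ∈ suppIn k C) ∧ (∀ i, b i ∈ suppIn k C) ∧ ∑ i, a i * e * b i = f

theorem conjEl_mem_suppIn {C : Subgroup H} [hC : C.Normal] (g : H) {a : A} (ha : a ∈ suppIn k C) :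
    conjEl g a ∈ suppIn k C := fun y hy => by
  rw [BrauerPairs.coeff_conjEl]
  refine ha _ fun h => hy ?_
  have := hC.conj_mem _ h g
  simpa [mul_assoc] using this

theorem single_mem_suppIn {C : Subgroup H} {g : H} (hg : g ∈ C) (c : k) :
    MonoidAlgebra.single g c ∈ suppIn k C := fun y hy => by
  simp [Finsupp.single_apply, show g ≠ y from fun h => hy (h ▸ hg)]

theorem conjEl_eq_mul_mul (g : H) (a : A) :
    conjEl g a = MonoidAlgebra.single g 1 * a * MonoidAlgebra.single g⁻¹ 1 := by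
  induction a using MonoidAlgebra.induction_on with
  | of x => simp [BrauerPairs.conjEl, MonoidAlgebra.of_apply, MonoidAlgebra.single_mul_single]
  | add a b ha hb => simp [ha, hb, mul_add, add_mul]
  | smul c a ha => simp [ha]

namespace UniBlock

variable {C : Subgroup H} {f e x : MonoidAlgebra k H}

theorem e_x (d : UniBlock C f e x) : e * x = x := by
  rw [← d.mul_x, ← mul_assoc, ← mul_assoc, d.idem]

theorem x_e (d : UniBlock C f e x) : x * e = x := by rw [← d.mul_x, mul_assoc, d.idem]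

theorem comm_pow (d : UniBlock C f e x) (i : ℕ) : e * x ^ i = x ^ i * e := by
  induction i with
  | zero => simp
  | succ i ih =>
    conv_lhs => rw [pow_succ, ← mul_assoc, ih, mul_assoc, d.e_x]
    conv_rhs => rw [pow_succ, mul_assoc, d.x_e]

theorem pow_e_mem (d : UniBlock C f e x) (i : ℕ) : x ^ i * e ∈ suppIn k C :=
  mul_mem (pow_mem d.supp_x i) d.supp_e

theorem commute_eae (d : UniBlock C f e x) {a : A} (ha : a ∈ suppIn k C) (i : ℕ) :
    e * a * e * (x ^ i * e) = x ^ i * e * (e * a * e) := by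
  obtain ⟨c, hc⟩ := d.span a ha
  have hcomm : ∀ z ∈ Submodule.span k (Set.range fun i : ℕ => x ^ (i + 1)),
      z * (x ^ i * e) = x ^ i * e * z := by
    intro z hz
    induction hz using Submodule.span_induction with
    | mem z hz =>
      obtain ⟨j, rfl⟩ := hz
      show x ^ (j + 1) * (x ^ i * e) = x ^ i * e * x ^ (j + 1)
      rw [mul_assoc (x ^ i), d.comm_pow, ← mul_assoc, ← mul_assoc, (Commute.pow_pow_self x (j + 1) i).eq]
    | zero => simp
    | add y z _ _ hy hz => rw [add_mul, mul_add, hy, hz]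
    | smul r y _ hy => rw [smul_mul_assoc, mul_smul_comm, hy]
  have h1 := hcomm _ hc
  rw [sub_mul, mul_sub, sub_eq_iff_eq_add] at h1
  have h2 : e * (x ^ i * e) = x ^ i * e := by rw [← mul_assoc, d.comm_pow, mul_assoc, d.idem]
  rw [h1, smul_mul_assoc, mul_smul_comm, h2, mul_assoc (x ^ i) e e, d.idem, sub_add_cancel]

variable {W : Type v} [AddCommGroup W] [Module k W] {τ : Representation k H W}

theorem apply_e_ne_zero (d : UniBlock C f e x) [Nontrivial W] (hf : τ.asAlgebraHom f = 1) :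
    τ.asAlgebraHom e ≠ 0 := by
  intro h
  obtain ⟨n, a, b, -, -, hab⟩ := d.full
  have h1 := congrArg τ.asAlgebraHom hab
  rw [hf, map_sum] at h1
  simp only [map_mul, h, mul_zero, zero_mul, Finset.sum_const_zero] at h1
  exact one_ne_zero h1.symm

/-- `x` is zero on a module irreducible on `C`. -/
theorem apply_x (d : UniBlock C f e x) (hτ : Irr (res C τ)) (hf : τ.asAlgebraHom f = 1) :
    τ.asAlgebraHom x = 0 := by
  haveI := hτ.1
  set E := τ.asAlgebraHom e with hE
  set X := τ.asAlgebraHom x with hX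
  obtain ⟨v, hv0, hvE, hvX⟩ : ∃ v, v ≠ 0 ∧ E v = v ∧ X v = 0 := by
    obtain ⟨w, hw⟩ : ∃ w, E w ≠ 0 := by
      by_contra h
      push Not at h
      exact d.apply_e_ne_zero hf (LinearMap.ext h)
    obtain ⟨N, hN⟩ := d.nilp
    have key : ∀ n (u : W), E u = u → u ≠ 0 → (X ^ n) u = 0 → ∃ v, v ≠ 0 ∧ E v = v ∧ X v = 0 := by
      intro n
      induction n with
      | zero => intro u _ hu hn; exact absurd hn hu
      | succ n ih =>
        intro u hu hu0 hn
        by_cases h : X u = 0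
        · exact ⟨u, hu0, hu, h⟩
        · refine ih (X u) ?_ h ?_
          · rw [hE, hX, ← Module.End.mul_apply, ← map_mul, d.e_x]
          · rwa [← Module.End.mul_apply, ← pow_succ]
    refine key N (E w) ?_ hw ?_
    · rw [hE, ← Module.End.mul_apply, ← map_mul, d.idem]
    · rw [hX, ← map_pow, hN, map_zero]; rfl
  have heae : ∀ a ∈ suppIn k C, ∃ c : k, E (τ.asAlgebraHom a v) = c • v := by
    intro a ha
    obtain ⟨c, hc⟩ := d.span a ha
    have hz : ∀ z ∈ Submodule.span k (Set.range fun i : ℕ => x ^ (i + 1)), τ.asAlgebraHom z v = 0 := by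
      intro z hz
      induction hz using Submodule.span_induction with
      | mem z hz =>
        obtain ⟨j, rfl⟩ := hz
        show τ.asAlgebraHom (x ^ (j + 1)) v = 0
        rw [pow_succ, map_mul, Module.End.mul_apply, ← hX, hvX, map_zero]
      | zero => simp
      | add y z _ _ hy hz => simp [hy, hz]
      | smul r y _ hy => simp [hy]
    refine ⟨c, ?_⟩
    have h1 := hz _ hc
    rw [map_sub, map_smul, LinearMap.sub_apply, LinearMap.smul_apply, ← hE, hvE, sub_eq_zero,
      map_mul, map_mul, Module.End.mul_apply, Module.End.mul_apply, ← hE, hvE] at h1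
    exact h1
  let U : Submodule k W :=
    { carrier := {u | ∃ a ∈ suppIn k C, τ.asAlgebraHom a v = u}
      zero_mem' := ⟨0, zero_mem _, by simp⟩
      add_mem' := by
        rintro _ _ ⟨a, ha, rfl⟩ ⟨b, hb, rfl⟩
        exact ⟨a + b, add_mem ha hb, by simp⟩
      smul_mem' := by
        rintro c _ ⟨a, ha, rfl⟩
        exact ⟨c • a, Subalgebra.smul_mem _ ha c, by simp⟩ }
  have hU : Inv (res C τ) U := by
    rintro g _ ⟨a, ha, rfl⟩
    exact ⟨_, mul_mem (single_mem_suppIn g.2 1) ha, by simp [res_apply]⟩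
  have hUtop : U = ⊤ := (hτ.2 U hU).resolve_left fun h =>
    hv0 ((Submodule.mem_bot k).1 (h.le ⟨1, one_mem _, by simp⟩))
  refine LinearMap.ext fun w => ?_
  obtain ⟨a, ha, rfl⟩ := hUtop.ge (Submodule.mem_top (x := w))
  obtain ⟨c, hc⟩ := heae a ha
  show X (τ.asAlgebraHom a v) = 0
  rw [show X (τ.asAlgebraHom a v) = X (E (τ.asAlgebraHom a v)) by
    rw [hX, hE, ← Module.End.mul_apply (f := τ.asAlgebraHom x) (g := τ.asAlgebraHom e), ← map_mul, d.x_e],
    hc, map_smul, hvX, smul_zero]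

variable [hCn : C.Normal]

/-- Conjugates of `x` are in the radical. -/
theorem exists_conj_mul (d : UniBlock C f e x) (hτ : Irr (res C τ)) (hf : τ.asAlgebraHom f = 1) (g : H) :
    ∀ (h : ℕ) (a : A), a ∈ suppIn k C → ∃ y, e * a * conjEl g (x ^ h * e) = x ^ h * e * y := by
  haveI := hτ.1
  intro h
  induction h with
  | zero => intro a _; exact ⟨a * conjEl g e, by simp [mul_assoc]⟩
  | succ h ih =>
    intro a ha
    obtain ⟨n, a', b', ha', hb', hab⟩ := d.full
    have hterm : ∀ i, ∃ y, e * a * conjEl g x * (a' i * e * b' i) * conjEl g (x ^ h * e) =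
        x ^ (h + 1) * e * y := by
      intro i
      have hsup : a * conjEl g x * a' i ∈ suppIn k C :=
        mul_mem (mul_mem ha (conjEl_mem_suppIn g d.supp_x)) (ha' i)
      obtain ⟨c, hc⟩ := d.span _ hsup
      have hc0 : c = 0 := by
        have h0 : ∀ z ∈ Submodule.span k (Set.range fun i : ℕ => x ^ (i + 1)), τ.asAlgebraHom z = 0 := by
          intro z hz
          induction hz using Submodule.span_induction with
          | mem z hz =>
            obtain ⟨j, rfl⟩ := hz
            show τ.asAlgebraHom (x ^ (j + 1)) = 0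
            rw [pow_succ, map_mul, d.apply_x hτ hf, mul_zero]
          | zero => simp
          | add y z _ _ hy hz => simp [hy, hz]
          | smul r y _ hy => simp [hy]
        have h1 := h0 _ hc
        have hx' : τ.asAlgebraHom (conjEl g x) = 0 := by
          rw [asAlgebraHom_conjEl, d.apply_x hτ hf]
          exact LinearMap.ext fun y => by simp [cjMap_apply]
        rw [map_sub, map_smul, map_mul, map_mul, map_mul, map_mul, hx'] at h1
        simp only [mul_zero, zero_mul, zero_sub, neg_eq_zero, smul_eq_zero] at h1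
        exact h1.resolve_right (d.apply_e_ne_zero hf)
      rw [hc0, zero_smul, sub_zero] at hc
      obtain ⟨r, hr, hxr⟩ : ∃ r ∈ suppIn k C, e * (a * conjEl g x * a' i) * e = x * e * r := by
        clear hc0
        generalize e * (a * conjEl g x * a' i) * e = z at hc
        induction hc using Submodule.span_induction with
        | mem z hz =>
          obtain ⟨j, rfl⟩ := hz
          exact ⟨x ^ j * e, d.pow_e_mem j, by
            show x ^ (j + 1) = x * e * (x ^ j * e)
            rw [mul_assoc x e, ← mul_assoc e, d.comm_pow, mul_assoc (x ^ j) e e, d.idem, ← mul_assoc x,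
              ← pow_succ', pow_succ, mul_assoc, d.x_e]⟩
        | zero => exact ⟨0, zero_mem _, by simp⟩
        | add y z _ _ hy hz =>
          obtain ⟨r, hr, rfl⟩ := hy
          obtain ⟨r', hr', rfl⟩ := hz
          exact ⟨r + r', add_mem hr hr', by rw [mul_add]⟩
        | smul q y _ hy =>
          obtain ⟨r, hr, rfl⟩ := hy
          exact ⟨q • r, Subalgebra.smul_mem _ hr q, by rw [mul_smul_comm]⟩
      obtain ⟨y, hy⟩ := ih (r * b' i) (mul_mem hr (hb' i))
      refine ⟨y, ?_⟩
      calc e * a * conjEl g x * (a' i * e * b' i) * conjEl g (x ^ h * e)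
          = e * (a * conjEl g x * a' i) * e * b' i * conjEl g (x ^ h * e) := by simp only [mul_assoc]
        _ = x * (e * (r * b' i) * conjEl g (x ^ h * e)) := by rw [hxr]; simp only [mul_assoc]
        _ = x ^ (h + 1) * e * y := by rw [hy, ← mul_assoc, ← mul_assoc, ← pow_succ']
    choose y hy using hterm
    refine ⟨∑ i, y i, ?_⟩
    rw [Finset.mul_sum, ← Finset.sum_congr rfl fun i _ => hy i, ← Finset.sum_mul, ← Finset.mul_sum, hab,
      show x ^ (h + 1) * e = x * (x ^ h * e) by rw [pow_succ', mul_assoc], map_mul,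
      mul_assoc _ f, ← mul_assoc, ← mul_assoc]
    congr 1
    have hfg : conjEl g f = f := d.central g (Subgroup.mem_top g)
    rw [mul_assoc _ (conjEl g x) f]
    congr 1
    conv_rhs => rw [← hfg, ← map_mul]
    congr 1
    rw [← d.x_e, mul_assoc, d.e_mul]

variable {U : Type v} [AddCommGroup U] [Module k U]

/-- The filtration by the powers of the radical. -/
noncomputable def fil (_d : UniBlock C f e x) (ρ : Representation k H U) (h : ℕ) : Submodule k U where
  carrier := {u | ∀ a ∈ suppIn k C,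
    ρ.asAlgebraHom (e * a) u ∈ LinearMap.range (ρ.asAlgebraHom (x ^ h * e))}
  zero_mem' a _ := by simp
  add_mem' hu hu' a ha := by rw [map_add]; exact add_mem (hu a ha) (hu' a ha)
  smul_mem' c u hu a ha := by rw [map_smul]; exact Submodule.smul_mem _ _ (hu a ha)

theorem fil_zero (d : UniBlock C f e x) (ρ : Representation k H U) : d.fil ρ 0 = ⊤ :=
  eq_top_iff.2 fun u _ a _ => ⟨ρ.asAlgebraHom a u, by simp⟩

theorem fil_anti (d : UniBlock C f e x) (ρ : Representation k H U) {h h' : ℕ} (hle : h ≤ h') :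
    d.fil ρ h' ≤ d.fil ρ h := fun u hu a ha => by
  obtain ⟨y, hy⟩ := hu a ha
  refine ⟨ρ.asAlgebraHom (x ^ (h' - h) * e) y, ?_⟩
  rw [← hy, ← Module.End.mul_apply, ← map_mul]
  congr 2
  rw [mul_assoc (x ^ h) e, ← mul_assoc e, d.comm_pow, mul_assoc (x ^ (h' - h)), d.idem, ← mul_assoc,
    ← pow_add, Nat.add_sub_cancel' hle]

theorem fil_eq_bot (d : UniBlock C f e x) (ρ : Representation k H U) (hf : ρ.asAlgebraHom f = 1)
    {N : ℕ} (hN : x ^ N = 0) : d.fil ρ N = ⊥ := eq_bot_iff.2 fun u hu => by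
  obtain ⟨n, a, b, ha, hb, hab⟩ := d.full
  rw [Submodule.mem_bot, show u = ρ.asAlgebraHom f u by rw [hf]; rfl, ← hab, map_sum, LinearMap.sum_apply]
  refine Finset.sum_eq_zero fun i _ => ?_
  obtain ⟨y, hy⟩ := hu (b i) (hb i)
  rw [hN, zero_mul, map_zero, LinearMap.zero_apply] at hy
  rw [mul_assoc, map_mul, Module.End.mul_apply, ← hy, map_zero]

theorem expand (d : UniBlock C f e x) (g : H) (a : A) {n : ℕ} {a' b' : Fin n → A}
    (hab : ∑ i, a' i * e * b' i = f) :
    e * a * MonoidAlgebra.single g 1 * f =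
      ∑ i, e * (a * conjEl g (a' i)) * MonoidAlgebra.single g 1 * (e * b' i) := by
  rw [← hab, Finset.mul_sum]
  refine Finset.sum_congr rfl fun i _ => ?_
  have hs : conjEl g (a' i) * MonoidAlgebra.single g 1 = MonoidAlgebra.single g 1 * a' i := by
    rw [conjEl_eq_mul_mul, mul_assoc, MonoidAlgebra.single_mul_single, inv_mul_cancel, one_mul,
      ← MonoidAlgebra.one_def, mul_one]
  calc e * a * MonoidAlgebra.single g 1 * (a' i * e * b' i)
      = e * a * (MonoidAlgebra.single g 1 * a' i) * (e * b' i) := by simp only [mul_assoc]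
    _ = _ := by rw [← hs]; simp only [mul_assoc]

theorem inv_fil (d : UniBlock C f e x) (hτ : Irr (res C τ)) (hτf : τ.asAlgebraHom f = 1)
    (ρ : Representation k H U) (hf : ρ.asAlgebraHom f = 1) (h : ℕ) : Inv ρ (d.fil ρ h) := by
  intro g u hu a ha
  obtain ⟨n, a', b', ha', hb', hab⟩ := d.full
  have h0 : ρ.asAlgebraHom (e * a) (ρ g u) = ρ.asAlgebraHom (e * a * MonoidAlgebra.single g 1 * f) u := by
    rw [map_mul ρ.asAlgebraHom _ f, hf, mul_one, map_mul ρ.asAlgebraHom (e * a), Module.End.mul_apply,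
      Representation.asAlgebraHom_single, one_smul]
  rw [h0, d.expand g a hab, map_sum, LinearMap.sum_apply]
  refine Submodule.sum_mem _ fun i _ => ?_
  obtain ⟨y, hy⟩ := hu (b' i) (hb' i)
  rw [map_mul ρ.asAlgebraHom _ (e * b' i), Module.End.mul_apply, ← hy, ← Module.End.mul_apply, ← map_mul]
  obtain ⟨z, hz⟩ := d.exists_conj_mul hτ hτf g h (a * conjEl g (a' i))
    (mul_mem ha (conjEl_mem_suppIn g (ha' i)))
  refine ⟨ρ.asAlgebraHom (z * MonoidAlgebra.single g 1) y, ?_⟩
  rw [← Module.End.mul_apply, ← map_mul, ← mul_assoc, ← hz]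
  refine congrArg (fun t => ρ.asAlgebraHom t y) ?_
  rw [conjEl_eq_mul_mul g (x ^ h * e)]
  simp only [mul_assoc, MonoidAlgebra.single_mul_single, inv_mul_cancel, one_mul, ← MonoidAlgebra.one_def, mul_one]

end UniBlock

section

variable {C : Subgroup H} [C.Normal] {f e x : MonoidAlgebra k H}
  {W : Type v} [AddCommGroup W] [Module k W] {W' : Type v} [AddCommGroup W'] [Module k W']
  {U : Type v} [AddCommGroup U] [Module k U]
  {τ : Representation k H W} {τ' : Representation k H W'} {ρ : Representation k H U}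

theorem irr_of_irr_res (hτ : Irr (res C τ)) : Irr τ :=
  ⟨hτ.1, fun V hV => hτ.2 V fun g v hv => hV (g : H) v hv⟩

set_option maxHeartbeats 800000 in
/-- The ordered case of `exists_separating`. -/
theorem UniBlock.separating_of_le (d : UniBlock C f e x) (hρ : ρ.asAlgebraHom f = 1)
    (hidx : (C.index : k) ≠ 0)
    (hτ : Irr (res C τ)) (hτf : τ.asAlgebraHom f = 1) (hτ' : Irr (res C τ'))
    (hτf' : τ'.asAlgebraHom f = 1) (hne : ∀ j : W' →ₗ[k] W, Intw τ' τ j → j = 0)
    {φ : W →ₗ[k] U} {φ' : W' →ₗ[k] U} (hφ : Intw τ ρ φ) (hφ' : Intw τ' ρ φ') {h h' : ℕ}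
    (hh : h ≤ h') (hsel : ∀ w, φ w ∈ d.fil ρ (h + 1) → w = 0) (hin : ∀ w, φ w ∈ d.fil ρ h)
    (hsel' : ∀ w, φ' w ∈ d.fil ρ (h' + 1) → w = 0) (hin' : ∀ w, φ' w ∈ d.fil ρ h') :
    ∃ Φ : U →ₗ[k] U, Intw ρ ρ Φ ∧ Φ.comp φ = 0 ∧ Φ.comp φ' = φ' := by
  haveI := hτ'.1
  set F := d.fil ρ
  let D := F (h' + 1) ⊔ LinearMap.range φ
  have hD : Inv ρ D := fun g u hu => by
    obtain ⟨y, hy, z, hz, rfl⟩ := Submodule.mem_sup.1 hu
    rw [map_add]
    exact Submodule.add_mem_sup (d.inv_fil hτ hτf ρ hρ _ g y hy) (hφ.inv_range g z hz)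
  have hcom : ∀ w, φ' w ∈ D → w = 0 := by
    rcases (irr_of_irr_res hτ').2 (D.comap φ') (fun g w hw => by
        rw [Submodule.mem_comap, hφ']; exact hD g _ hw) with h0 | h0
    · exact fun w hw => (Submodule.mem_bot k).1 (h0.le hw)
    exfalso
    have hall : ∀ w, ∃ v, φ' w - φ v ∈ F (h' + 1) := fun w => by
      obtain ⟨y, hy, z, ⟨v, rfl⟩, hyz⟩ := Submodule.mem_sup.1
        (show φ' w ∈ D from h0.ge (Submodule.mem_top (x := w)))
      exact ⟨v, by rw [← hyz, add_sub_cancel_right]; exact hy⟩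
    obtain ⟨w₀, hw₀⟩ := exists_ne (0 : W')
    rcases hh.lt_or_eq with hlt | heq
    · obtain ⟨v, hv⟩ := hall w₀
      have h2 : φ v ∈ F (h + 1) := d.fil_anti ρ hlt (by
        rw [← sub_sub_cancel (φ' w₀) (φ v)]
        exact sub_mem (hin' w₀) (d.fil_anti ρ (Nat.le_succ h') hv))
      rw [hsel v h2, map_zero, sub_zero] at hv
      exact hw₀ (hsel' w₀ hv)
    · subst heq
      choose j hj using hall
      have huniq : ∀ w v, φ' w - φ v ∈ F (h + 1) → j w = v := fun w v hv => by
        refine sub_eq_zero.1 (hsel _ ?_)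
        rw [map_sub, ← sub_sub_sub_cancel_left _ _ (φ' w)]
        exact sub_mem hv (hj w)
      let jl : W' →ₗ[k] W :=
        { toFun := j
          map_add' := fun a b => huniq _ _ (by
            rw [map_add, map_add, add_sub_add_comm]; exact add_mem (hj a) (hj b))
          map_smul' := fun c a => huniq _ _ (by
            rw [RingHom.id_apply, map_smul, map_smul, ← smul_sub]; exact Submodule.smul_mem _ _ (hj a)) }
      have hjl : jl = 0 := hne jl fun g w => huniq _ _ (by
        rw [hφ', hφ, ← map_sub]; exact d.inv_fil hτ hτf ρ hρ _ g _ (hj w))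
      have h3 := hj w₀
      rw [show j w₀ = 0 from LinearMap.congr_fun hjl w₀, map_zero, sub_zero] at h3
      exact hw₀ (hsel' w₀ h3)
  let Pw : ℕ → Module.End k U := fun i => ρ.asAlgebraHom (x ^ i * e)
  let Ee := Pw 0
  let E' := LinearMap.range ((Pw 0).comp φ')
  let D1 := LinearMap.range (Pw (h' + 1)) ⊔ LinearMap.range ((Pw 0).comp φ)
  have hPw0 : Pw 0 = ρ.asAlgebraHom e := by simp [Pw]
  have hdis : Disjoint E' D1 := by
    rw [Submodule.disjoint_def]
    rintro _ ⟨w, rfl⟩ hv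
    have hle : D1 ≤ D := by
      refine sup_le (fun u hu => Submodule.mem_sup_left ?_) (fun u hu => Submodule.mem_sup_right ?_)
      · obtain ⟨y, rfl⟩ := hu
        intro a ha
        refine ⟨ρ.asAlgebraHom (e * a * e) y, ?_⟩
        rw [← Module.End.mul_apply, ← Module.End.mul_apply, ← map_mul]
        show _ = (ρ.asAlgebraHom (e * a) * ρ.asAlgebraHom (x ^ (h' + 1) * e)) y
        rw [← map_mul, ← d.commute_eae ha, mul_assoc (e * a) e, ← mul_assoc e, d.comm_pow, mul_assoc _ e e,
          d.idem]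
      · obtain ⟨y, rfl⟩ := hu
        exact ⟨τ.asAlgebraHom e y, by simp [hPw0, hφ.asAlgebraHom]⟩
    have h1 := hle hv
    rw [LinearMap.comp_apply, hPw0, ← hφ'.asAlgebraHom] at h1 ⊢
    rw [hcom _ h1, map_zero]
  obtain ⟨Q, hQ⟩ := Submodule.exists_isCompl (E' ⊔ D1)
  have hcompl : IsCompl E' (D1 ⊔ Q) := IsCompl.of_eq (by
      rw [← disjoint_iff]
      exact hdis.disjoint_sup_right_of_disjoint_sup_left hQ.disjoint)
    (by rw [← sup_assoc]; exact hQ.sup_eq_top)
  let L : U →ₗ[k] E' := Submodule.projectionOnto E' (D1 ⊔ Q) hcompl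
  have hlift : ∀ v : E', ∃ y, Pw h' y = v := by
    rintro ⟨_, w, rfl⟩
    obtain ⟨y, hy⟩ := hin' w 1 (one_mem _)
    exact ⟨y, by simpa [Pw] using hy⟩
  obtain ⟨s, hs⟩ := (LinearMap.rangeRestrict (Pw h')).exists_rightInverse_of_surjective
    (LinearMap.range_rangeRestrict _)
  let σ : E' →ₗ[k] U := s.comp (Submodule.inclusion fun v hv => hlift ⟨v, hv⟩)
  have hσ : ∀ v : E', Pw h' (σ v) = v := fun v =>
    congrArg Subtype.val (LinearMap.congr_fun hs (Submodule.inclusion (fun v hv => hlift ⟨v, hv⟩) v))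
  let T := σ.comp L
  let g : Module.End k U := ∑ j ∈ Finset.range (h' + 1), Pw (h' - j) * T * Pw j
  have hPP : ∀ i j, Pw i * Pw j = Pw (i + j) := fun i j => by
    show ρ.asAlgebraHom _ * ρ.asAlgebraHom _ = _
    rw [← map_mul, mul_assoc, ← mul_assoc e, d.comm_pow, mul_assoc (x ^ j), d.idem, ← mul_assoc, ← pow_add]
  have hEg : Pw 0 * g = g := by
    simp only [g, Finset.mul_sum, ← mul_assoc, hPP, zero_add]
  have hgE : g * Pw 0 = g := by
    simp only [g, Finset.sum_mul, mul_assoc, hPP, add_zero]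
  have hX' : ∀ w, Pw 1 (φ' w) = 0 := fun w => by
    show ρ.asAlgebraHom (x ^ 1 * e) (φ' w) = 0
    rw [← hφ'.asAlgebraHom, pow_one, d.x_e, d.apply_x hτ' hτf', LinearMap.zero_apply, map_zero]
  have hX : ∀ w, Pw 1 (φ w) = 0 := fun w => by
    show ρ.asAlgebraHom (x ^ 1 * e) (φ w) = 0
    rw [← hφ.asAlgebraHom, pow_one, d.x_e, d.apply_x hτ hτf, LinearMap.zero_apply, map_zero]
  have hgX : g * Pw 1 = Pw 1 * g := by
    have e1 : g * Pw 1 = ∑ j ∈ Finset.range h', Pw (h' - j) * T * Pw (j + 1) := by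
      simp only [g, Finset.sum_mul, mul_assoc, hPP]
      rw [Finset.sum_range_succ, add_eq_left]
      refine LinearMap.ext fun u => ?_
      have h1 : L (Pw (h' + 1) u) = 0 := Submodule.projectionOnto_apply_right hcompl
        ⟨_, Submodule.mem_sup_left (Submodule.mem_sup_left ⟨u, rfl⟩)⟩
      show Pw (h' - h') (σ (L (Pw (h' + 1) u))) = 0
      rw [h1, map_zero, map_zero]
    have e2 : Pw 1 * g = ∑ j ∈ Finset.range h', Pw (h' - j) * T * Pw (j + 1) := by
      simp only [g, Finset.mul_sum, ← mul_assoc, hPP]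
      rw [Finset.sum_range_succ']
      have h0 : Pw (1 + (h' - 0)) * T * Pw 0 = 0 := LinearMap.ext fun u => by
        obtain ⟨w, hw⟩ := (L (Pw 0 u)).2
        show Pw (1 + (h' - 0)) (σ (L (Pw 0 u))) = 0
        rw [Nat.sub_zero, ← hPP, Module.End.mul_apply, hσ, ← hw]
        show Pw 1 (Pw 0 (φ' w)) = 0
        rw [← Module.End.mul_apply, hPP, hX']
      rw [h0, add_zero]
      refine Finset.sum_congr rfl fun j hj => ?_
      rw [Finset.mem_range] at hj
      congr 3
      omega
    rw [e1, e2]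
  have hgR : ∀ a ∈ suppIn k C, g * ρ.asAlgebraHom (e * a * e) = ρ.asAlgebraHom (e * a * e) * g := by
    intro a ha
    obtain ⟨c, hc⟩ := d.span a ha
    have hpow : ∀ i, Commute g (Pw i) := fun i => by
      induction i with
      | zero => exact hgE.trans hEg.symm
      | succ i ih => rw [← hPP]; exact ih.mul_right hgX
    have hz : ∀ z ∈ Submodule.span k (Set.range fun i : ℕ => x ^ (i + 1)),
        Commute g (ρ.asAlgebraHom z) := by
      intro z hz
      induction hz using Submodule.span_induction with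
      | mem z hz =>
        obtain ⟨j, rfl⟩ := hz
        show Commute g (ρ.asAlgebraHom (x ^ (j + 1)))
        rw [show x ^ (j + 1) = x ^ (j + 1) * e by rw [pow_succ, mul_assoc, d.x_e]]
        exact hpow _
      | zero => simp
      | add y z _ _ hy hz => rw [map_add]; exact hy.add_right hz
      | smul r y _ hy => rw [map_smul]; exact hy.smul_right r
    have h1 := (hz _ hc).add_right ((hpow 0).smul_right c)
    rwa [hPw0, ← map_smul, ← map_add, sub_add_cancel] at h1
  obtain ⟨n, a', b', ha', hb', hab⟩ := d.full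
  have hab1 : ∑ i, ρ.asAlgebraHom (a' i) * Pw 0 * ρ.asAlgebraHom (b' i) = 1 := by
    rw [← hρ, ← hab, map_sum]
    simp [hPw0, map_mul]
  let Φ0 : Module.End k U := ∑ i, ρ.asAlgebraHom (a' i) * g * ρ.asAlgebraHom (b' i)
  have hΦC : IntwOn C ρ ρ Φ0 := by
    intro c hc u
    have hρc : ρ c = ρ.asAlgebraHom (MonoidAlgebra.single c 1) := by simp
    suffices h : Φ0 * ρ.asAlgebraHom (MonoidAlgebra.single c 1) =
        ρ.asAlgebraHom (MonoidAlgebra.single c 1) * Φ0 by
      rw [hρc, ← Module.End.mul_apply, h]; rfl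
    set cc := ρ.asAlgebraHom (MonoidAlgebra.single c 1) with hcc
    have hswap : ∀ i j, g * ρ.asAlgebraHom (b' i) * cc * ρ.asAlgebraHom (a' j) * Pw 0 =
        Pw 0 * ρ.asAlgebraHom (b' i) * cc * ρ.asAlgebraHom (a' j) * g := by
      intro i j
      have h1 := hgR (b' i * MonoidAlgebra.single c 1 * a' j)
        (mul_mem (mul_mem (hb' i) (single_mem_suppIn hc 1)) (ha' j))
      simp only [map_mul, ← hPw0] at h1
      calc g * ρ.asAlgebraHom (b' i) * cc * ρ.asAlgebraHom (a' j) * Pw 0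
          = g * Pw 0 * ρ.asAlgebraHom (b' i) * cc * ρ.asAlgebraHom (a' j) * Pw 0 := by rw [hgE]
        _ = g * (Pw 0 * (ρ.asAlgebraHom (b' i) * cc * ρ.asAlgebraHom (a' j)) * Pw 0) := by
          simp only [mul_assoc]
        _ = _ := by rw [h1]
        _ = _ := by simp only [mul_assoc, hEg, hcc]
    calc Φ0 * cc = Φ0 * cc * 1 := (mul_one _).symm
      _ = ∑ i, ∑ j, ρ.asAlgebraHom (a' i) * (g * ρ.asAlgebraHom (b' i) * cc * ρ.asAlgebraHom (a' j) * Pw 0) *
          ρ.asAlgebraHom (b' j) := by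
        rw [← hab1]; simp only [Φ0, Finset.sum_mul, Finset.mul_sum, mul_assoc]
        exact Finset.sum_comm
      _ = ∑ j, ∑ i, (ρ.asAlgebraHom (a' i) * Pw 0 * ρ.asAlgebraHom (b' i)) *
          (cc * ρ.asAlgebraHom (a' j) * g * ρ.asAlgebraHom (b' j)) := by
        simp only [hswap]; rw [Finset.sum_comm]; simp only [mul_assoc]
      _ = cc * Φ0 := by
        rw [show cc * Φ0 = ∑ j, cc * ρ.asAlgebraHom (a' j) * g * ρ.asAlgebraHom (b' j) by
          simp only [Φ0, Finset.mul_sum, mul_assoc]]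
        exact Finset.sum_congr rfl fun j _ => by rw [← Finset.sum_mul, hab1, one_mul]
  have hgv : ∀ v, Pw 1 v = 0 → g v = Pw h' (σ (L (Pw 0 v))) := fun v hv => by
    show (∑ j ∈ Finset.range (h' + 1), Pw (h' - j) * T * Pw j) v = _
    rw [LinearMap.sum_apply, Finset.sum_range_succ', Finset.sum_eq_zero fun j _ => ?_, zero_add]
    · rfl
    · show Pw (h' - (j + 1)) (T (Pw (j + 1) v)) = 0
      rw [← hPP, Module.End.mul_apply, hv, map_zero, map_zero, map_zero]
  have hφ0 : Φ0.comp φ = 0 := LinearMap.ext fun w => by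
    show Φ0 (φ w) = 0
    simp only [Φ0, LinearMap.sum_apply, Module.End.mul_apply]
    refine Finset.sum_eq_zero fun i _ => ?_
    rw [← hφ.asAlgebraHom, hgv _ (hX _), show L (Pw 0 (φ (τ.asAlgebraHom (b' i) w))) = 0 from
      Submodule.projectionOnto_apply_right hcompl ⟨_, Submodule.mem_sup_left (Submodule.mem_sup_right ⟨_, rfl⟩)⟩,
      map_zero, map_zero, map_zero]
  have hφ0' : Φ0.comp φ' = φ' := LinearMap.ext fun w => by
    show Φ0 (φ' w) = φ' w
    conv_rhs => rw [← Module.End.one_apply (R := k) (φ' w), ← hab1]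
    simp only [Φ0, LinearMap.sum_apply, Module.End.mul_apply]
    refine Finset.sum_congr rfl fun i _ => ?_
    rw [← hφ'.asAlgebraHom, hgv _ (hX' _)]
    congr 1
    rw [show L (Pw 0 (φ' (τ'.asAlgebraHom (b' i) w))) =
      ⟨Pw 0 (φ' (τ'.asAlgebraHom (b' i) w)), ⟨_, rfl⟩⟩ from
        Submodule.projectionOnto_apply_left hcompl (⟨_, ⟨_, rfl⟩⟩ : E'), hσ]
  letI := Fintype.ofFinite ((⊤ : Subgroup H) ⧸ C.subgroupOf ⊤)
  refine ⟨(C.index : k)⁻¹ • trMap C ⊤ ρ ρ Φ0, ?_, ?_, ?_⟩
  · intro g u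
    simp [intwOn_top.1 (intwOn_trMap hΦC) g u]
  · rw [LinearMap.smul_comp, trMap_comp_right (intwOn_top.2 hφ) Φ0, hφ0]
    simp [trMap, cjMap]
  · rw [LinearMap.smul_comp, trMap_comp_right (intwOn_top.2 hφ') Φ0, hφ0', trMap,
      Finset.sum_congr rfl fun q _ => cjMap_eq_self (intwOn_top.2 hφ') (Subgroup.mem_top _),
      Finset.sum_const, Finset.card_univ, ← Nat.card_eq_fintype_card,
      show Nat.card ((⊤ : Subgroup H) ⧸ C.subgroupOf ⊤) = C.index from Subgroup.relIndex_top_right C,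
      ← Nat.cast_smul_eq_nsmul k, inv_smul_smul₀ hidx]

/-- An endomorphism separating two irreducibles. -/
theorem UniBlock.exists_separating (d : UniBlock C f e x) (hρ : ρ.asAlgebraHom f = 1)
    (hidx : (C.index : k) ≠ 0)
    (hτ : Irr (res C τ)) (hτf : τ.asAlgebraHom f = 1) (hτ' : Irr (res C τ'))
    (hτf' : τ'.asAlgebraHom f = 1) (hne : ∀ j : W' →ₗ[k] W, Intw τ' τ j → j = 0)
    (hne' : ∀ j : W →ₗ[k] W', Intw τ τ' j → j = 0)
    {φ : W →ₗ[k] U} {φ' : W' →ₗ[k] U} (hφ : Intw τ ρ φ) (hφ' : Intw τ' ρ φ') (h0 : φ ≠ 0)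
    (h0' : φ' ≠ 0) :
    ∃ Φ : U →ₗ[k] U, Intw ρ ρ Φ ∧
      ((Φ.comp φ = 0 ∧ Φ.comp φ' = φ') ∨ (Φ.comp φ' = 0 ∧ Φ.comp φ = φ)) := by
  obtain ⟨N, hN⟩ := d.nilp
  have key : ∀ {Z : Type v} [AddCommGroup Z] [Module k Z] (κ : Representation k H Z),
      Irr (res C κ) → κ.asAlgebraHom f = 1 → ∀ ψ : Z →ₗ[k] U, Intw κ ρ ψ → ψ ≠ 0 →
      ∃ h, (∀ z, ψ z ∈ d.fil ρ h) ∧ ∀ z, ψ z ∈ d.fil ρ (h + 1) → z = 0 := by
    intro Z _ _ κ hκ hκf ψ hψ hψ0
    have hex : ∃ h, ¬ ∀ z, ψ z ∈ d.fil ρ h := ⟨N, fun hall => hψ0 (LinearMap.ext fun z => by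
      have := hall z
      rw [d.fil_eq_bot ρ hρ hN, Submodule.mem_bot] at this
      exact this)⟩
    have hpos : Nat.find hex ≠ 0 := fun h => by
      have := Nat.find_spec hex
      rw [h] at this
      exact this fun z => by rw [d.fil_zero]; exact Submodule.mem_top
    obtain ⟨h, hh⟩ := Nat.exists_eq_succ_of_ne_zero hpos
    refine ⟨h, not_not.1 (Nat.find_min hex (m := h) (by omega)), ?_⟩
    rcases (irr_of_irr_res hκ).2 ((d.fil ρ (h + 1)).comap ψ) (fun g z hz => by
        rw [Submodule.mem_comap, hψ]; exact d.inv_fil hκ hκf ρ hρ _ g _ hz) with h1 | h1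
    · exact fun z hz => (Submodule.mem_bot k).1 (h1.le hz)
    · have hspec := Nat.find_spec hex
      rw [hh] at hspec
      exact absurd (fun z => h1.ge (Submodule.mem_top (x := z))) hspec
  obtain ⟨h, hin, hsel⟩ := key τ hτ hτf φ hφ h0
  obtain ⟨h', hin', hsel'⟩ := key τ' hτ' hτf' φ' hφ' h0'
  rcases le_total h h' with hle | hle
  · obtain ⟨Φ, hΦ, h1, h2⟩ := d.separating_of_le hρ hidx hτ hτf hτ' hτf' hne hφ hφ' hle hsel hin hsel' hin'
    exact ⟨Φ, hΦ, Or.inl ⟨h1, h2⟩⟩
  · obtain ⟨Φ, hΦ, h1, h2⟩ := d.separating_of_le hρ hidx hτ' hτf' hτ hτf hne' hφ' hφ hle hsel' hin' hsel hin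
    exact ⟨Φ, hΦ, Or.inr ⟨h1, h2⟩⟩

end

end Cfsg.Agent.Blocks.CyclicDefect
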