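import Cfsg.Agent.Lib.Blocks.NilpotentRank.Pairs

/-!
# Contributions and subgroups

`sectF` on arbitrary functions: linearity, conjugation, and passage to a subgroup containing the
centralizer.
-/

set_option autoImplicit false
set_option linter.unusedSectionVars false
set_option linter.style.haveILetI false

namespace Cfsg.Agent.Blocks.NilRank

open Cfsg Blocks MonoidAlgebra
open Cfsg.Agent.BrauerPairs (blk blkG IsBlockIdem incl mapBlock conjIso)
open scoped Classical ComplexConjugate

universe u

variable {G : Type u} [Group G] [Fintype G] {M : Ideal AlgInt} [M.IsMaximal] {p : ℕ}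
  [hp : Fact p.Prime]

section apply

variable {H : Subgroup G} [Fintype H] {x : G}

theorem sectF_apply (hxH : x ∈ H) (b : Set (IrrCharacter H)) (φ ψ : G → ℂ) :
    sectF p H x b φ ψ = (Nat.card H : ℂ)⁻¹ * ∑ s : H, if IsPRegular p s then
      (∑ c : H, blockCoeff b c * φ ((c : G) * (x * (s : G)))) * conj (ψ (x * (s : G))) else 0 := by
  rw [sectF, finsum_eq_sum_of_fintype]
  congr 1
  refine Finset.sum_congr rfl fun s _ => ?_
  by_cases hs : IsPRegular p s
  · rw [if_pos hs, if_pos hs, show x * (s : G) = ((⟨x, hxH⟩ * s : H) : G) from rfl,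
      chiL_inclA_mul_single]
    simp only [coeff_blockIdem]
  · rw [if_neg hs, if_neg hs]

theorem sectF_congr (hxH : x ∈ H) (b : Set (IrrCharacter H)) {φ φ' ψ ψ' : G → ℂ}
    (h : ∀ g ∈ H, φ g = φ' g) (h' : ∀ g ∈ H, ψ g = ψ' g) :
    sectF p H x b φ ψ = sectF p H x b φ' ψ' := by
  rw [sectF_apply hxH, sectF_apply hxH]
  congr 1
  refine Finset.sum_congr rfl fun s _ => ?_
  rw [h' _ (mul_mem hxH s.2)]
  simp only [h _ (mul_mem (SetLike.coe_mem _) (mul_mem hxH s.2))]

theorem sectF_sum_sum (hxH : x ∈ H) (b : Set (IrrCharacter H)) {ι κ : Type*} (S : Finset ι)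
    (T : Finset κ) (a : ι → ℂ) (a' : κ → ℂ) (φ : ι → G → ℂ) (ψ : κ → G → ℂ) :
    sectF p H x b (fun g => ∑ i ∈ S, a i * φ i g) (fun g => ∑ j ∈ T, a' j * ψ j g) =
      ∑ i ∈ S, ∑ j ∈ T, a i * conj (a' j) * sectF p H x b (φ i) (ψ j) := by
  simp only [sectF_apply hxH, Finset.mul_sum]
  rw [Finset.sum_comm]
  refine Eq.symm (Eq.trans (Finset.sum_congr rfl fun i _ => Finset.sum_comm) ?_)
  rw [Finset.sum_comm]
  refine Finset.sum_congr rfl fun s _ => ?_
  by_cases hs : IsPRegular p s
  · simp only [if_pos hs, map_sum, map_mul, Finset.sum_mul, Finset.mul_sum]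
    rw [Finset.sum_comm (s := T) (t := Finset.univ)]
    refine Eq.trans ?_ Finset.sum_comm
    refine Finset.sum_congr rfl fun i _ => ?_
    rw [Finset.sum_comm]
    exact Finset.sum_congr rfl fun j _ => Finset.sum_congr rfl fun c _ => by ring
  · simp [hs]

end apply

/-- Conjugation, for arbitrary functions. -/
theorem sectF_conj' (g : G) {x : G} {H H' : Subgroup G} (hH : ∀ c, c ∈ H' ↔ g⁻¹ * c * g ∈ H)
    (hxH : x ∈ H) (b : Set (IrrCharacter H)) (φ ψ : G → ℂ) :
    sectF p H' (g * x * g⁻¹) (mapBlock (conjIso g hH) b) φ ψ =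
      sectF p H x b (fun y => φ (g * y * g⁻¹)) (fun y => ψ (g * y * g⁻¹)) := by
  haveI := Fintype.ofFinite H
  haveI := Fintype.ofFinite H'
  have hx' : g * x * g⁻¹ ∈ H' := (hH _).2 (by simpa [mul_assoc] using hxH)
  rw [sectF_apply hxH, sectF_apply hx', Nat.card_congr (conjIso g hH).toEquiv]
  congr 1
  refine Fintype.sum_equiv (conjIso g hH).toEquiv _ _ fun s => ?_
  set e := conjIso g hH
  have hec : ∀ c : H', ((e c : H) : G) = g⁻¹ * (c : G) * g := fun c => rfl
  have hreg : IsPRegular p s ↔ IsPRegular p (e s) := by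
    simp only [IsPRegular, MulEquiv.orderOf_eq]
  refine if_congr hreg ?_ rfl
  congr 1
  · refine Fintype.sum_equiv e.toEquiv _ _ fun c => ?_
    rw [BrauerPairs.blockCoeff_mapBlock]
    congr 2
    show _ = g * (((e c : H) : G) * (x * ((e s : H) : G))) * g⁻¹
    rw [hec, hec]
    group
  · congr 2
    show _ = g * (x * ((e s : H) : G)) * g⁻¹
    rw [hec]
    group

/-- The blocks of `C(u)` seen in `G` and in a subgroup `C` containing it. -/
theorem sectF_subgroup {C : Subgroup G} [Fintype C] {u : C}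
    (hle : Subgroup.centralizer ({(u : G)} : Set G) ≤ C)
    {e' : MonoidAlgebra (AlgInt ⧸ M) C} (he' : IsBlockIdem (Subgroup.centralizer ({u} : Set C)) e')
    (φ ψ : G → ℂ) :
    sectF p (Subgroup.centralizer ({(u : G)} : Set G)) u
        (blkSet M (Subgroup.centralizer ({(u : G)} : Set G)) (incl C (AlgInt ⧸ M) e')) φ ψ =
      sectF p (Subgroup.centralizer ({u} : Set C)) u
        (blkSet M (Subgroup.centralizer ({u} : Set C)) e') (fun c => φ c) (fun c => ψ c) := by
  haveI := Fintype.ofFinite (Subgroup.centralizer ({(u : G)} : Set G))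
  haveI := Fintype.ofFinite (Subgroup.centralizer ({u} : Set C))
  let E : Subgroup.centralizer ({(u : G)} : Set G) ≃* Subgroup.centralizer ({u} : Set C) :=
    { toFun := fun c => ⟨⟨c, hle c.2⟩, Subgroup.mem_centralizer_singleton_iff.2
        (Subtype.ext (Subgroup.mem_centralizer_singleton_iff.1 c.2))⟩
      invFun := fun c => ⟨c.1, Subgroup.mem_centralizer_singleton_iff.2
        (congrArg Subtype.val (Subgroup.mem_centralizer_singleton_iff.1 c.2))⟩
      left_inv := fun c => rfl
      right_inv := fun c => rfl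
      map_mul' := fun a b => rfl }
  obtain ⟨hb, hbe⟩ := blkSet_spec he'
  set b' := blkSet M (Subgroup.centralizer ({u} : Set C)) e'
  have hset : blkSet M (Subgroup.centralizer ({(u : G)} : Set G)) (incl C (AlgInt ⧸ M) e') =
      mapBlock E b' := by
    have h : blk M (Subgroup.centralizer ({(u : G)} : Set G)) (mapBlock E b') =
        incl C (AlgInt ⧸ M) e' := by
      refine alg_ext fun g => ?_
      rw [BrauerPairs.coeff_blk]
      unfold subgroupBlockCoeff
      by_cases hg : g ∈ Subgroup.centralizer ({(u : G)} : Set G)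
      · rw [dif_pos hg, BrauerPairs.blockCoeff_mapBlock]
        refine Eq.trans ?_ (BrauerPairs.coeff_incl_coe C e' (⟨g, hle hg⟩ : C)).symm
        conv_rhs => rw [← hbe, BrauerPairs.coeff_blk]
        unfold subgroupBlockCoeff
        rw [dif_pos (Subgroup.mem_centralizer_singleton_iff.2
          (Subtype.ext (Subgroup.mem_centralizer_singleton_iff.1 hg)))]
        rfl
      · rw [dif_neg hg, red_zero]
        by_cases hgC : g ∈ C
        · refine ((BrauerPairs.coeff_incl_coe C e' (⟨g, hgC⟩ : C)).trans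
            (he'.mem.1 _ fun h => hg ?_)).symm
          exact Subgroup.mem_centralizer_singleton_iff.2
            (congrArg Subtype.val (Subgroup.mem_centralizer_singleton_iff.1 h))
        · exact (BrauerPairs.coeff_incl_of_notMem C e' hgC).symm
    rw [← h, blkSet_blk (BrauerPairs.isPBlock_mapBlock E hb)]
  rw [hset, sectF_apply (Subgroup.mem_centralizer_singleton_iff.2 rfl),
    sectF_apply (Subgroup.mem_centralizer_singleton_iff.2 rfl), Nat.card_congr E.toEquiv]
  congr 1
  refine Fintype.sum_equiv E.toEquiv _ _ fun s => ?_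
  have hreg : IsPRegular p s ↔ IsPRegular p (E s) := by
    simp only [IsPRegular, MulEquiv.orderOf_eq]
  refine if_congr hreg ?_ rfl
  congr 1
  refine Fintype.sum_equiv E.toEquiv _ _ fun c => ?_
  rw [BrauerPairs.blockCoeff_mapBlock]
  rfl

end Cfsg.Agent.Blocks.NilRank
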