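import Cfsg.Agent.Lib.Blocks.CyclicDefect.Setup
import Cfsg.Agent.Lib.Blocks.CyclicDefect.LinearParam
import Cfsg.Agent.Lib.Blocks.CyclicDefect.Transfer

/-!
# The characters `θ_χ` of a cyclic defect group

`exists_theta`: virtual characters `θ χ` of `P`, fixed by the inertial group, with
`|P| sectF (u, b_u) χ ψ = θ χ u * conj (θ ψ u)` for `1 ≠ u ∈ P`.
-/

set_option autoImplicit false
set_option linter.unusedSectionVars false
set_option linter.style.haveILetI false

namespace Cfsg.Agent.Blocks.CyclicDefect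

open Cfsg Blocks MonoidAlgebra
open Cfsg.Agent.BrauerPairs (blk blkG IsBlockIdem br conjEl conjPair IsMax PLE stabOf hasBlocks incl
  isBlockIdem_blkG compIrr mapBlock conjIso regDot)
open Cfsg.Agent.Blocks.NilRank (sectF eU blkSet TT Tof)
open scoped Classical ComplexConjugate

universe u

variable {G : Type u} [Group G] [Fintype G] {M : Ideal AlgInt} [M.IsMaximal] {p : ℕ}
  [hp : Fact p.Prime] [CharP (AlgInt ⧸ M) p]

theorem mem_centralizer_singleton_conj (g u c : G) :
    c ∈ Subgroup.centralizer ({g * u * g⁻¹} : Set G) ↔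
      g⁻¹ * c * g ∈ Subgroup.centralizer ({u} : Set G) := by
  simp only [Subgroup.mem_centralizer_singleton_iff]
  constructor
  · intro h
    have := congrArg (fun y => g⁻¹ * y * g) h
    simpa [mul_assoc] using this
  · intro h
    have := congrArg (fun y => g * y * g⁻¹) h
    simpa [mul_assoc] using this

/-- The extension by zero of a function on a subgroup. -/
noncomputable def extFun (C : Subgroup G) (η : C → ℂ) : G → ℂ :=
  fun g => if h : g ∈ C then η ⟨g, h⟩ else 0

theorem extFun_coe (C : Subgroup G) (η : C → ℂ) (c : C) : extFun C η c = η c := dif_pos c.2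

/-- In a cyclic `p`-group the subgroup of order `p` lies in every nontrivial one. -/
theorem zpowers_le_zpowers {P : Subgroup G} (hP : IsPGroup p P) (hcyc : IsCyclic P) {z u : G}
    (hzP : z ∈ P) (hz : orderOf z = p) (hu : u ∈ P) (hu1 : u ≠ 1) :
    Subgroup.zpowers z ≤ Subgroup.zpowers u := by
  obtain ⟨k, hk⟩ := Blocks.NilRank.exists_orderOf_mem hP hu
  have hk0 : k ≠ 0 := fun h => hu1 (orderOf_eq_one_iff.1 (by rw [hk, h, pow_zero]))
  set w := u ^ p ^ (k - 1) with hw
  have hwo : orderOf w = p := by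
    rw [hw, orderOf_pow_of_dvd (pow_ne_zero _ hp.out.ne_zero) (by rw [hk]; exact pow_dvd_pow p (Nat.sub_le k 1)),
      hk, Nat.pow_div (Nat.sub_le k 1) hp.out.pos, Nat.sub_sub_self (Nat.one_le_iff_ne_zero.2 hk0), pow_one]
  have h := S4645.le_of_card_eq_cyclic hcyc (Subgroup.zpowers_le.2 hzP)
    (Subgroup.zpowers_le.2 (pow_mem hu (p ^ (k - 1)))) (by
      rw [Nat.card_zpowers, Nat.card_zpowers, hz]; exact hwo)
  rw [← h]
  exact Subgroup.zpowers_le.2 (pow_mem (Subgroup.mem_zpowers u) _)

variable {B : Set (IrrCharacter G)} {P : Subgroup G}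
  {c : Set (IrrCharacter (Subgroup.centralizer (P : Set G)))}

namespace Datum

variable (d : Datum M p B P c)
include d

theorem comm_P (x y : P) : x * y = y * x :=
  Subtype.ext (Subgroup.mem_centralizer_iff.1 (d.le_centralizer y.2) x x.2)

theorem conj_mem {t u : G} (ht : t ∈ inGroup M P c) (hu : u ∈ P) : t * u * t⁻¹ ∈ P :=
  (Subgroup.mem_normalizer_iff.1 ht.1 u).1 hu

/-- The pairs below `(P, c)` move with the inertial group. -/
theorem eU_stab {t u : G} (ht : t ∈ inGroup M P c) (hu : u ∈ P) :
    eU p P (blk M (Subgroup.centralizer (P : Set G)) c) (t * u * t⁻¹) =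
      conjEl t (eU p P (blk M (Subgroup.centralizer (P : Set G)) c) u) := by
  refine NilRank.eU_eq d.isMax.1.1 (d.conj_mem ht hu) ?_
  have h := (NilRank.eU_spec d.isMax.1.1 hu).conj t
  rw [show conjPair t (P, blk M (Subgroup.centralizer (P : Set G)) c) =
      (P, blk M (Subgroup.centralizer (P : Set G)) c) from
      Prod.ext (BrauerPairs.map_conj_eq_of_mem_normalizer ht.1) ht.2,
    show conjPair t (Subgroup.zpowers u, eU p P (blk M (Subgroup.centralizer (P : Set G)) c) u) =
      (Subgroup.zpowers (t * u * t⁻¹),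
        conjEl t (eU p P (blk M (Subgroup.centralizer (P : Set G)) c) u)) from
      Prod.ext (NilRank.map_conj_zpowers t u) rfl] at h
  exact h

set_option maxHeartbeats 1600000 in
/-- The local parametrisation in the centralizer of the subgroup of order `p`. -/
theorem exists_local_param {z : G} (hzP : z ∈ P) (hz : orderOf z = p) :
    ∃ f : Set (IrrCharacter (Subgroup.centralizer (Subgroup.zpowers z : Set G))),
      IsPBlock M f ∧
      (∀ g ∈ inGroup M P c, conjEl g (blk M _ f) = blk M _ f) ∧
      ∃ lam : IrrCharacter (Subgroup.centralizer (Subgroup.zpowers z : Set G)) → (P →* ℂ),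
        ∀ u : P, u ≠ 1 → ∀ η η' : IrrCharacter (Subgroup.centralizer (Subgroup.zpowers z : Set G)),
          (Nat.card P : ℂ) * sectF p (Subgroup.centralizer ({(u : G)} : Set G)) u
              (blkSet M _ (eU p P (blk M (Subgroup.centralizer (P : Set G)) c) u))
              (extFun _ η.1) (extFun _ η'.1) =
            if η ∈ f ∧ η' ∈ f then lam η u * conj (lam η' u) else 0 := by
  have hblk : ∀ H : Subgroup G, BrauerPairs.HasBlocks (AlgInt ⧸ M) H := fun H => hasBlocks M H
  have hQP : Subgroup.zpowers z ≤ P := Subgroup.zpowers_le.2 hzP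
  have hQ1 : Subgroup.zpowers z ≠ ⊥ := fun h => by
    rw [Subgroup.zpowers_eq_bot] at h
    rw [h, orderOf_one] at hz
    exact hp.out.ne_one hz.symm
  obtain ⟨f, hf, hfq, hsup, -, -, hnil, hbr, hD⟩ := d.exists_local hQP hQ1
  have hfix : ∀ g ∈ inGroup M P c, conjEl g (blk M _ f) = blk M _ f := fun g hg =>
    (hsup.le (Subgroup.mem_sup_left hg)).2
  have hCle : Subgroup.centralizer (P : Set G) ≤ Subgroup.centralizer (Subgroup.zpowers z : Set G) :=
    Subgroup.centralizer_le hQP
  have hPC := d.le_centralizer.trans hCle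
  obtain ⟨e', he', hinc⟩ := BrauerPairs.exists_maximalPair_sub hf hD hCle d.local_block hbr
  obtain ⟨he'b, hmax'⟩ := (BrauerPairs.isMaximalBrauerPair_iff hf).1 he'
  letI := Fintype.ofFinite (Subgroup.centralizer (Subgroup.zpowers z : Set G))
  have hcomm' : ∀ x y : P.subgroupOf (Subgroup.centralizer (Subgroup.zpowers z : Set G)), x * y = y * x := fun x y => Subtype.ext (Subtype.ext
    (show ((x : _) : G) * _ = _ * _ from congrArg Subtype.val (d.comm_P ⟨_, x.2⟩ ⟨_, y.2⟩)))
  obtain ⟨lam, -, hlam⟩ := NilRank.exists_linear_param d.modular hnil hmax' hcomm'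
  have hnilp := (BrauerPairs.isNilpotentBlock_iff hf).1 hnil
  refine ⟨f, hf, hfix, fun η => (lam η).comp (Subgroup.subgroupOfEquivOfLe hPC).symm.toMonoidHom,
    fun u hu η η' => ?_⟩
  set u' : P.subgroupOf (Subgroup.centralizer (Subgroup.zpowers z : Set G)) := (Subgroup.subgroupOfEquivOfLe hPC).symm u with hu'
  have huu : ((u' : (Subgroup.centralizer (Subgroup.zpowers z : Set G))) : G) = u := rfl
  have hle : Subgroup.centralizer ({((u' : (Subgroup.centralizer (Subgroup.zpowers z : Set G))) : G)} : Set G) ≤ (Subgroup.centralizer (Subgroup.zpowers z : Set G)) := by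
    rw [huu, ← Blocks.centralizer_zpowers_eq]
    exact Subgroup.centralizer_le (zpowers_le_zpowers d.isPGroup d.cyc hzP hz u.2
      fun h => hu (Subtype.ext h))
  set e₁ := eU p (P.subgroupOf (Subgroup.centralizer (Subgroup.zpowers z : Set G))) (blk M _ e') (u' : (Subgroup.centralizer (Subgroup.zpowers z : Set G))) with he₁
  have heU : eU p P (blk M (Subgroup.centralizer (P : Set G)) c) u = incl (Subgroup.centralizer (Subgroup.zpowers z : Set G)) (AlgInt ⧸ M) e₁ := by
    refine NilRank.eU_eq d.isMax.1.1 u.2 ?_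
    have h := PLE.of_incl (NilRank.eU_spec hmax'.1.1 u'.2) (by
      rw [MonoidHom.map_zpowers]
      show Subgroup.centralizer ((Subgroup.zpowers ((u' : (Subgroup.centralizer (Subgroup.zpowers z : Set G))) : G) : Subgroup G) : Set G) ≤ (Subgroup.centralizer (Subgroup.zpowers z : Set G))
      rwa [Blocks.centralizer_zpowers_eq])
    have e1 : BrauerPairs.inclPair (Subgroup.zpowers (u' : (Subgroup.centralizer (Subgroup.zpowers z : Set G))), e₁) =
        (Subgroup.zpowers (u : G), incl (Subgroup.centralizer (Subgroup.zpowers z : Set G)) (AlgInt ⧸ M) e₁) :=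
      Prod.ext (MonoidHom.map_zpowers _ _) rfl
    have e2 : BrauerPairs.inclPair (P.subgroupOf (Subgroup.centralizer (Subgroup.zpowers z : Set G)), blk M (Subgroup.centralizer
        ((P.subgroupOf (Subgroup.centralizer (Subgroup.zpowers z : Set G)) : Subgroup (Subgroup.centralizer (Subgroup.zpowers z : Set G))) : Set (Subgroup.centralizer (Subgroup.zpowers z : Set G)))) e') = (P, blk M _ c) :=
      Prod.ext (Subgroup.map_subgroupOf_eq_of_le hPC) hinc
    rw [e1, e2] at h
    exact h
  have hblock := NilRank.isBlockIdem_eU hmax'.1.1 u'.2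
  have hind := NilRank.isInducedBlock_eU d.modular.2.2 hf hmax'.1 u'.2
  haveI := Fintype.ofFinite (Subgroup.centralizer ({(u' : (Subgroup.centralizer (Subgroup.zpowers z : Set G)))} : Set (Subgroup.centralizer (Subgroup.zpowers z : Set G))))
  have hcalc : (Nat.card P : ℂ) * sectF p (Subgroup.centralizer ({(u : G)} : Set G)) u
      (blkSet M _ (eU p P (blk M (Subgroup.centralizer (P : Set G)) c) u))
      (extFun (Subgroup.centralizer (Subgroup.zpowers z : Set G)) η.1) (extFun (Subgroup.centralizer (Subgroup.zpowers z : Set G)) η'.1) = TT p (P.subgroupOf (Subgroup.centralizer (Subgroup.zpowers z : Set G))) (blk M _ e') η.1 η'.1 (u' : (Subgroup.centralizer (Subgroup.zpowers z : Set G))) := by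
    rw [heU]
    show (Nat.card P : ℂ) * sectF p (Subgroup.centralizer ({((u' : (Subgroup.centralizer (Subgroup.zpowers z : Set G))) : G)} : Set G)) ((u' : (Subgroup.centralizer (Subgroup.zpowers z : Set G))) : G)
      (blkSet M _ (incl _ (AlgInt ⧸ M) e₁)) _ _ = _
    rw [NilRank.sectF_subgroup hle hblock, TT, Tof, NilRank.pow_blockDefect_eU d.modular.2.2 hf hmax' hnilp u'.2,
      inf_eq_left.2 (fun x hx => Subgroup.mem_centralizer_singleton_iff.2
        (congrArg Subtype.val (hcomm' ⟨x, hx⟩ u'))), Nat.card_congr (Subgroup.subgroupOfEquivOfLe hPC).toEquiv]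
    simp only [extFun_coe]
  have hzero : ∀ χ : IrrCharacter (Subgroup.centralizer (Subgroup.zpowers z : Set G)), χ ∉ f → ∀ ψ : IrrCharacter (Subgroup.centralizer (Subgroup.zpowers z : Set G)),
      sectF p (Subgroup.centralizer ({(u' : (Subgroup.centralizer (Subgroup.zpowers z : Set G)))} : Set (Subgroup.centralizer (Subgroup.zpowers z : Set G)))) (u' : (Subgroup.centralizer (Subgroup.zpowers z : Set G)))
        (blkSet M (Subgroup.centralizer ({(u' : (Subgroup.centralizer (Subgroup.zpowers z : Set G)))} : Set (Subgroup.centralizer (Subgroup.zpowers z : Set G)))) e₁) χ.1 ψ.1 = 0 := by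
    intro χ hχ ψ
    rw [sectF, finsum_eq_sum_of_fintype, Finset.sum_eq_zero, mul_zero]
    intro s _
    split_ifs with hs
    · have hpart : IsPPart p ((u' : (Subgroup.centralizer (Subgroup.zpowers z : Set G))) * (s : (Subgroup.centralizer (Subgroup.zpowers z : Set G)))) (u' : (Subgroup.centralizer (Subgroup.zpowers z : Set G))) :=
        isPPart_mul (Subgroup.mem_centralizer_singleton_iff.1 s.2).symm
          (NilRank.exists_orderOf_mem hmax'.1.1.1 u'.2)
          (show ¬ p ∣ orderOf (s : (Subgroup.centralizer (Subgroup.zpowers z : Set G))) by rw [Subgroup.orderOf_coe]; exact hs)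
      rw [Blocks.second_main d.modular.2.2 hind
        (h := ⟨(u' : (Subgroup.centralizer (Subgroup.zpowers z : Set G))) * (s : (Subgroup.centralizer (Subgroup.zpowers z : Set G))), mul_mem (Subgroup.mem_centralizer_singleton_iff.2 rfl) s.2⟩)
        hpart le_rfl hχ, zero_mul]
    · rfl
  rw [hcalc]
  by_cases hη : η ∈ f
  · by_cases hη' : η' ∈ f
    · rw [if_pos ⟨hη, hη'⟩, hlam η hη η' hη' u']
      rfl
    · rw [if_neg fun h => hη' h.2, ← NilRank.conj_TT d.modular.2.2 hmax'.1.1 u'.2 η' η, TT, Tof,
        hzero η' hη', mul_zero, map_zero]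
  · rw [if_neg fun h => hη h.1, TT, Tof, hzero η hη, mul_zero]

/-- Conjugation by `t` on `P`. -/
noncomputable def actP {t : G} (ht : t ∈ inGroup M P c) : P →* P where
  toFun v := ⟨t * v * t⁻¹, d.conj_mem ht v.2⟩
  map_one' := Subtype.ext (by simp)
  map_mul' a b := Subtype.ext (by simp [mul_assoc])

/-- A linear character `κ` with `κ (t u t⁻¹) ν u = κ u`. -/
theorem exists_kappa {t : G} (ht : t ∈ inGroup M P c) (htC : t ∉ Subgroup.centralizer (P : Set G))
    (ν : P →* ℂ) : ∃ κ : P →* ℂ, ∀ u : P, κ (d.actP ht u) * ν u = κ u := by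
  let Ψ : P →* P :=
    { toFun := fun u => d.actP ht u * u⁻¹
      map_one' := by simp
      map_mul' := fun a b => by
        rw [map_mul, mul_inv_rev, mul_assoc (d.actP ht a), ← mul_assoc (d.actP ht b),
          d.comm_P (d.actP ht b * b⁻¹) a⁻¹, ← mul_assoc] }
  have hinj : Function.Injective Ψ := by
    refine (injective_iff_map_eq_one Ψ).2 fun u hu => ?_
    by_contra h1
    refine htC (d.free ht u.2 (fun h => h1 (Subtype.ext h)) ?_)
    have := congrArg Subtype.val (mul_inv_eq_one.1 hu)
    exact this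
  let E : P ≃* P := MulEquiv.ofBijective Ψ (Finite.injective_iff_bijective.1 hinj)
  refine ⟨(starRingEnd ℂ : ℂ →* ℂ).comp (ν.comp E.symm.toMonoidHom), fun u => ?_⟩
  have h : d.actP ht u = E u * u := (inv_mul_cancel_right (d.actP ht u) u).symm
  show conj (ν (E.symm (d.actP ht u))) * ν u = conj (ν (E.symm u))
  rw [h, map_mul, MulEquiv.symm_apply_apply, map_mul, map_mul]
  linear_combination conj (ν (E.symm u)) * Char.normSq_linear ν u

set_option maxHeartbeats 1600000 in
/-- The virtual characters `θ χ`. -/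
theorem exists_theta : ∃ θ : IrrCharacter G → P → ℂ,
    (∀ χ (lam : IrrCharacter P), ∃ m : ℤ, classInner (θ χ) lam.1 = m) ∧
    (∀ χ, ∀ t ∈ inGroup M P c, ∀ u v : P, (v : G) = t * u * t⁻¹ → θ χ v = θ χ u) ∧
    ∀ χ ψ : IrrCharacter G, ∀ u : P, u ≠ 1 →
      (Nat.card P : ℂ) * sectF p (Subgroup.centralizer ({(u : G)} : Set G)) u
          (blkSet M _ (eU p P (blk M (Subgroup.centralizer (P : Set G)) c) u)) χ.1 ψ.1 =
        θ χ u * conj (θ ψ u) := by
  obtain ⟨z, hzP, hz⟩ := d.exists_order_p
  obtain ⟨t, ht, htgen⟩ := d.exists_generator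
  obtain ⟨f, hf, hfix, lam, hlam⟩ := d.exists_local_param hzP hz
  have hCle : Subgroup.centralizer (P : Set G) ≤ (Subgroup.centralizer (Subgroup.zpowers z : Set G)) :=
    Subgroup.centralizer_le (Subgroup.zpowers_le.2 hzP)
  letI := Fintype.ofFinite (Subgroup.centralizer (Subgroup.zpowers z : Set G))
  have htN : ∀ s : G, s ∈ inGroup M P c → s ∈ Subgroup.normalizer ((Subgroup.centralizer (Subgroup.zpowers z : Set G)) : Set G) := fun s hs =>
    BrauerPairs.normalizer_le_normalizer_centralizer _ (BrauerPairs.mem_normalizer_of_conj_le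
      fun y hy => by
        obtain ⟨i, rfl⟩ := Subgroup.mem_zpowers_iff.1 hy
        rw [← conj_zpow]
        refine Subgroup.zpow_mem _ ?_ i
        have hne : s * z * s⁻¹ ≠ 1 := fun h => by
          have : z = 1 := by simpa [mul_assoc] using congrArg (fun w => s⁻¹ * w * s) h
          rw [this, orderOf_one] at hz
          exact hp.out.ne_one hz.symm
        have hle := zpowers_le_zpowers d.isPGroup d.cyc hzP hz (d.conj_mem hs hzP) hne
        have heq : Subgroup.zpowers z = Subgroup.zpowers (s * z * s⁻¹) :=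
          Subgroup.eq_of_le_of_card_ge hle (le_of_eq (by
            rw [Nat.card_zpowers, Nat.card_zpowers]
            exact (MulEquiv.orderOf_eq (MulAut.conj s) z)))
        exact heq ▸ Subgroup.mem_zpowers _)
  set ι := conjIso t⁻¹ (BrauerPairs.mem_iff_conj_mem (inv_mem (htN t ht)))
  have hι : ∀ x : (Subgroup.centralizer (Subgroup.zpowers z : Set G)), ((ι x : (Subgroup.centralizer (Subgroup.zpowers z : Set G))) : G) = t * x * t⁻¹ := fun x => by
    show t⁻¹⁻¹ * (x : G) * t⁻¹ = _
    rw [inv_inv]
  have hmap : mapBlock ι f = f := BrauerPairs.blk_injective (Subgroup.centralizer (Subgroup.zpowers z : Set G)) (BrauerPairs.isPBlock_mapBlock ι hf) hf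
    (by rw [BrauerPairs.blk_mapBlock_conjIso, hfix _ (inv_mem ht)])
  set σ := compIrr ι
  have hσ : ∀ η, σ η ∈ f ↔ η ∈ f := fun η => by
    conv_lhs => rw [← hmap]
    exact σ.injective.mem_set_image
  obtain ⟨η₀, hη₀⟩ := BrauerPairs.nonempty_of_isPBlock hf
  -- the twist
  have hrel : ∀ η ∈ f, ∀ η' ∈ f, ∀ u : P,
      lam η (d.actP ht u) * conj (lam η' (d.actP ht u)) = lam (σ η) u * conj (lam (σ η') u) := by
    intro η hη η' hη' u
    by_cases hu : u = 1
    · subst hu; simp
    have hv : d.actP ht u ≠ 1 := fun h => hu (Subtype.ext (by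
      simpa [actP, mul_assoc] using congrArg (fun w : P => t⁻¹ * (w : G) * t) h))
    have h1 := hlam (d.actP ht u) hv η η'
    rw [if_pos ⟨hη, hη'⟩] at h1
    have hH := mem_centralizer_singleton_conj (G := G) t u
    change (Nat.card P : ℂ) * sectF p (Subgroup.centralizer ({t * (u : G) * t⁻¹} : Set G)) _
      (blkSet M _ (eU p P _ (t * (u : G) * t⁻¹))) _ _ = _ at h1
    rw [d.eU_stab ht u.2, NilRank.blkSet_conj d.isMax.1.1 u.2 t hH] at h1
    change (Nat.card P : ℂ) * sectF p _ (t * (u : G) * t⁻¹) _ _ _ = _ at h1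
    rw [NilRank.sectF_conj' t hH (Subgroup.mem_centralizer_singleton_iff.2 rfl)] at h1
    have h2 := hlam u hu (σ η) (σ η')
    rw [if_pos ⟨(hσ η).2 hη, (hσ η').2 hη'⟩] at h2
    rw [← h1, ← h2]
    congr 1
    haveI := Fintype.ofFinite (Subgroup.centralizer ({(u : G)} : Set G))
    have hsub : Subgroup.centralizer ({(u : G)} : Set G) ≤ (Subgroup.centralizer (Subgroup.zpowers z : Set G)) := by
      rw [← Blocks.centralizer_zpowers_eq]
      exact Subgroup.centralizer_le (zpowers_le_zpowers d.isPGroup d.cyc hzP hz u.2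
        fun h => hu (Subtype.ext h))
    refine NilRank.sectF_congr (Subgroup.mem_centralizer_singleton_iff.2 rfl) _ (fun g hg => ?_)
      fun g hg => ?_ <;>
    · rw [← hι ⟨g, hsub hg⟩, extFun_coe, extFun, dif_pos (hsub hg)]
      rfl
  let ν : P →* ℂ := (lam η₀).comp (d.actP ht) * (starRingEnd ℂ : ℂ →* ℂ).comp (lam (σ η₀))
  have hν : ∀ η ∈ f, ∀ u : P, lam η (d.actP ht u) = lam (σ η) u * ν u := by
    intro η hη u
    show _ = lam (σ η) u * (lam η₀ (d.actP ht u) * conj (lam (σ η₀) u))
    have h := hrel η hη η₀ hη₀ u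
    have h0 := Char.normSq_linear (lam η₀) (d.actP ht u)
    linear_combination (lam η₀ (d.actP ht u)) * h - lam η (d.actP ht u) * h0
  obtain ⟨κ, hκ⟩ : ∃ κ : P →* ℂ, ∀ u : P, κ (d.actP ht u) * ν u = κ u := by
    by_cases htC : t ∈ Subgroup.centralizer (P : Set G)
    · refine ⟨1, fun u => ?_⟩
      have hid : d.actP ht u = u := Subtype.ext (by
        show t * (u : G) * t⁻¹ = u
        rw [← Subgroup.mem_centralizer_iff.1 htC u u.2, mul_inv_cancel_right])
      have hσid : σ η₀ = η₀ := Subtype.ext (funext fun x => by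
        show η₀.1 (ι x) = η₀.1 x
        rw [show ι x = (⟨t, hCle htC⟩ : (Subgroup.centralizer (Subgroup.zpowers z : Set G))) * x * (⟨t, hCle htC⟩ : (Subgroup.centralizer (Subgroup.zpowers z : Set G)))⁻¹ from Subtype.ext (hι x),
          irr_classFun η₀])
      show (1 : ℂ) * (lam η₀ (d.actP ht u) * conj (lam (σ η₀) u)) = 1
      rw [one_mul, hid, hσid, Char.normSq_linear]
    · exact d.exists_kappa ht htC ν
  set S := Finset.univ.filter (· ∈ f)
  let n : IrrCharacter G → IrrCharacter (Subgroup.centralizer (Subgroup.zpowers z : Set G)) → ℂ := fun χ η => classInner (fun x : (Subgroup.centralizer (Subgroup.zpowers z : Set G)) => χ.1 x) η.1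
  have hnat : ∀ χ η, ∃ m : ℕ, n χ η = m := fun χ η =>
    Char.IsCharacter.exists_nat_classInner (Char.IsCharacter.restrict (Char.irr_isCharacter χ) (Subgroup.centralizer (Subgroup.zpowers z : Set G)))
      (Char.irr_isCharacter η)
  let L : IrrCharacter (Subgroup.centralizer (Subgroup.zpowers z : Set G)) → (P →* ℂ) := fun η => κ * lam η
  let θ : IrrCharacter G → P → ℂ := fun χ v => ∑ η ∈ S, n χ η * L η v
  have hnσ : ∀ χ η, n χ (σ η) = n χ η := by
    intro χ η
    show classInner _ _ = classInner _ _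
    simp only [classInner]
    congr 1
    refine Fintype.sum_equiv ι.toEquiv _ _ fun x => ?_
    show χ.1 (x : G) * conj ((σ η).1 x) = χ.1 ((ι x : (Subgroup.centralizer (Subgroup.zpowers z : Set G))) : G) * conj (η.1 (ι x))
    rw [hι, irr_classFun χ]
    rfl
  refine ⟨θ, fun χ μ => ?_, ?_, fun χ ψ u hu => ?_⟩
  · choose m hm using hnat χ
    refine ⟨∑ η ∈ S, if Char.linIrr (L η) = μ then (m η : ℤ) else 0, ?_⟩
    rw [show θ χ = ∑ η ∈ S, n χ η • ⇑(L η) from funext fun v => by simp [θ],
      Char.classInner_sum_left]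
    rw [Int.cast_sum]
    refine Finset.sum_congr rfl fun η _ => ?_
    rw [Char.classInner_smul_left, hm, show (⇑(L η) : P → ℂ) = (Char.linIrr (L η)).1 from rfl,
      Char.classInner_irr]
    split_ifs <;> simp
  · intro χ
    have ht' : ∀ u : P, θ χ (d.actP ht u) = θ χ u := fun u => by
      show ∑ η ∈ S, n χ η * (κ (d.actP ht u) * lam η (d.actP ht u)) = _
      refine Finset.sum_equiv σ (fun η => by simp [S, hσ]) fun η hη => ?_
      show _ = n χ (σ η) * (κ u * lam (σ η) u)
      rw [hν η (Finset.mem_filter.1 hη).2 u, hnσ, ← hκ u]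
      ring
    let K : Subgroup G :=
      { carrier := {g | g ∈ Subgroup.normalizer (P : Set G) ∧
          ∀ u v : P, (v : G) = g * u * g⁻¹ → θ χ v = θ χ u}
        one_mem' := ⟨one_mem _, fun u v h => by rw [show v = u from Subtype.ext (by simpa using h)]⟩
        mul_mem' := fun {a b} ha hb => ⟨mul_mem ha.1 hb.1, fun u v h => by
          let w : P := ⟨b * u * b⁻¹, (Subgroup.mem_normalizer_iff.1 hb.1 u).1 u.2⟩
          rw [ha.2 w v (by rw [h]; simp [w, mul_assoc]), hb.2 u w rfl]⟩
        inv_mem' := fun {a} ha => ⟨inv_mem ha.1, fun u v h =>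
          (ha.2 v u (by rw [h]; simp [mul_assoc])).symm⟩ }
    have hK : inGroup M P c ≤ K := by
      rw [← htgen]
      refine sup_le (fun g hg => ⟨Subgroup.centralizer_le_normalizer _ hg, fun u v h => ?_⟩)
        (Subgroup.zpowers_le.2 ⟨ht.1, fun u v h => ?_⟩)
      · rw [show v = u from Subtype.ext (by
          rw [h, ← Subgroup.mem_centralizer_iff.1 hg u u.2, mul_inv_cancel_right])]
      · rw [show v = d.actP ht u from Subtype.ext h, ht' u]
    exact fun s hs => (hK hs).2
  · have hsub : Subgroup.centralizer ({(u : G)} : Set G) ≤ (Subgroup.centralizer (Subgroup.zpowers z : Set G)) := by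
      rw [← Blocks.centralizer_zpowers_eq]
      exact Subgroup.centralizer_le (zpowers_le_zpowers d.isPGroup d.cyc hzP hz u.2
        fun h => hu (Subtype.ext h))
    haveI := Fintype.ofFinite (Subgroup.centralizer ({(u : G)} : Set G))
    have hexp : ∀ χ : IrrCharacter G, ∀ g ∈ Subgroup.centralizer ({(u : G)} : Set G),
        χ.1 g = ∑ η : IrrCharacter (Subgroup.centralizer (Subgroup.zpowers z : Set G)), n χ η * extFun (Subgroup.centralizer (Subgroup.zpowers z : Set G)) η.1 g := fun χ g hg => by
      have h := congrFun (Char.eq_sum_classInner_smul (Char.IsCharacter.isClassFunction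
        (Char.IsCharacter.restrict (Char.irr_isCharacter χ) (Subgroup.centralizer (Subgroup.zpowers z : Set G))))) ⟨g, hsub hg⟩
      refine h.trans ?_
      simp only [Finset.sum_apply, Pi.smul_apply, smul_eq_mul, n]
      exact Finset.sum_congr rfl fun η _ => by
        rw [extFun, dif_pos (hsub hg)]
    rw [NilRank.sectF_congr (Subgroup.mem_centralizer_singleton_iff.2 rfl) _ (hexp χ) (hexp ψ),
      NilRank.sectF_sum_sum (Subgroup.mem_centralizer_singleton_iff.2 rfl)]
    show _ = (∑ η ∈ S, n χ η * L η u) * conj (∑ η ∈ S, n ψ η * L η u)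
    rw [map_sum, Finset.sum_mul_sum, Finset.mul_sum]
    simp only [Finset.mul_sum, S, Finset.sum_filter]
    refine Finset.sum_congr rfl fun η _ => ?_
    by_cases hη : η ∈ f
    · rw [if_pos hη]
      refine Finset.sum_congr rfl fun η' _ => ?_
      rw [mul_left_comm, hlam u hu η η']
      by_cases hη' : η' ∈ f
      · rw [if_pos ⟨hη, hη'⟩, if_pos hη']
        simp only [L, MonoidHom.mul_apply, map_mul]
        linear_combination
          (-(n χ η * conj (n ψ η') * lam η u * conj (lam η' u))) * Char.normSq_linear κ u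
      · rw [if_neg fun h => hη' h.2, if_neg hη', mul_zero]
    · rw [if_neg hη]
      exact Finset.sum_eq_zero fun η' _ => by
        rw [mul_left_comm, hlam u hu η η', if_neg fun h => hη h.1, mul_zero]

end Datum

end Cfsg.Agent.Blocks.CyclicDefect
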