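import Cfsg.Agent.Lib.Blocks.CyclicDefect.SectionSum
import Cfsg.Agent.Lib.Blocks.CyclicDefect.Orbits

/-!
# The class functions `Σ θ_χ(u) χ`

For `u ≠ 1` in a cyclic defect group `P` the values of `Σ_χ θ_χ(u) χ` are divisible by `|P|`
and by the orders of the centralisers.
-/

set_option autoImplicit false
set_option linter.unusedSectionVars false
set_option linter.style.haveILetI false

namespace Cfsg.Agent.Blocks.CyclicDefect

open Cfsg Blocks Cfsg.Agent.BrauerPairs
open Cfsg.Agent.Blocks.NilRank (sectF blkSet eU)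
open scoped Classical ComplexConjugate Cfsg.Agent.Blocks

universe u

variable {G : Type u} [Group G] [Fintype G] {M : Ideal AlgInt} [M.IsMaximal] {p : ℕ}
  [hp : Fact p.Prime] [CharP (AlgInt ⧸ M) p]
variable {B : Set (IrrCharacter G)} {P : Subgroup G}
  {c : Set (IrrCharacter (Subgroup.centralizer (P : Set G)))}

theorem blockDefect_le (hpM : (p : AlgInt) ∈ M) {C : Subgroup G} {b : Set (IrrCharacter C)}
    (hb : IsInducedBlock M C b B) : blockDefect p b ≤ blockDefect p B := by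
  obtain ⟨D, hD⟩ := Blocks.exists_defectGroup (p := p) hb.1
  obtain ⟨E, hE, hle⟩ := Blocks.IsInducedBlock.exists_defectGroup_ge hpM hb hD
  refine (Nat.pow_le_pow_iff_right hp.out.one_lt).1 ?_
  rw [← Blocks.card_defectGroup hpM hb.1 hD, ← Blocks.card_defectGroup hpM hb.2.1 hE,
    ← Subgroup.card_map_of_injective C.subtype_injective (K := D)]
  exact Subgroup.card_le_of_le hle

namespace Shape

variable {d : Datum M p B P c} {θ : IrrCharacter G → P → ℂ} (S : Shape d θ)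
include S

theorem theta_inv {χ : IrrCharacter G} (hχ : χ ∈ B) {u : P} (hu : u ≠ 1) :
    θ χ u⁻¹ = conj (θ χ u) := by
  have hu' : u⁻¹ ≠ 1 := inv_ne_one.2 hu
  rcases (S.mem_iff χ).1 hχ with h | h
  · rw [S.theta_X χ h u hu, S.theta_X χ h _ hu', map_intCast]
  · rw [S.theta_Y χ h u hu, S.theta_Y χ h _ hu', map_mul, map_neg, map_intCast, d.sum_orb_inv]

variable (hθ : ∀ χ ψ : IrrCharacter G, ∀ u : P, u ≠ 1 →
    (Nat.card P : ℂ) * sectF p (Subgroup.centralizer ({(u : G)} : Set G)) u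
        (blkSet M _ (eU p P (blk M (Subgroup.centralizer (P : Set G)) c) u)) χ.1 ψ.1 =
      θ χ u * conj (θ ψ u))
include hθ

theorem conj_theta_sum_local {u : P} (hu : u ≠ 1) (x : G) :
    MemLocalRing M ((∑ ψ ∈ Finset.univ.filter (· ∈ B), conj (θ ψ u) * ψ.1 x) / (Nat.card P : ℂ)) ∧
      MemLocalRing M ((∑ ψ ∈ Finset.univ.filter (· ∈ B), conj (θ ψ u) * ψ.1 x) /
        (Nat.card (Subgroup.centralizer ({x} : Set G)) : ℂ)) := by
  have hpM := d.modular.2.2
  obtain ⟨χ₀, hχ₀⟩ := S.nonempty_X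
  obtain ⟨k, hk⟩ := NilRank.exists_orderOf_mem d.isPGroup u.2
  have hb := NilRank.isInducedBlock_eU d.modular.2.2 d.block d.isMax.1 u.2
  set b := blkSet M _ (eU p P (blk M (Subgroup.centralizer (P : Set G)) c) u) with hbdef
  obtain ⟨h1, h2⟩ := contribution_sum_local hpM hk hb χ₀ x
  have hle := blockDefect_le hpM hb
  have hn : (Nat.card P : ℂ) = ((p ^ blockDefect p B : ℕ) : ℂ) := by
    rw [Blocks.card_defectGroup hpM d.block d.isDefectGroup]
  have hs : (S.sgn χ₀ : ℂ) * S.sgn χ₀ = 1 := by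
    rcases S.sgn_unit χ₀ hχ₀ with h | h <;> simp [h]
  have hsum : ∑ ψ ∈ Finset.univ.filter (· ∈ B), conj (θ ψ u) * ψ.1 x = (S.sgn χ₀ : ℂ) *
      (Nat.card P : ℂ) * ∑ ψ ∈ Finset.univ.filter (· ∈ B), contribution p b χ₀.1 ψ.1 * ψ.1 x := by
    rw [Finset.mul_sum]
    refine Finset.sum_congr rfl fun ψ _ => ?_
    have h := hθ χ₀ ψ u hu
    rw [NilRank.sectF_eq_contribution, S.theta_X χ₀ hχ₀ u hu] at h
    linear_combination -(S.sgn χ₀ : ℂ) * ψ.1 x * h - conj (θ ψ u) * ψ.1 x * hs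
  rw [hsum]
  have hsl : MemLocalRing M (S.sgn χ₀ : ℂ) :=
    memLocalRing_of_isIntegral (isIntegral_algebraMap (x := S.sgn χ₀))
  refine ⟨?_, ?_⟩
  · rw [mul_right_comm, mul_div_cancel_right₀ _ (Nat.cast_ne_zero.2 Nat.card_pos.ne')]
    exact MemLocalRing.mul hsl h1
  · have h3 : MemLocalRing M ((p ^ (blockDefect p B - blockDefect p b) : ℕ) : ℂ) :=
      memLocalRing_of_isIntegral (isIntegral_natCast _)
    refine (congrArg (MemLocalRing M) ?_).mp (MemLocalRing.mul (MemLocalRing.mul hsl h3) h2)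
    rw [hn, ← Nat.sub_add_cancel hle, pow_add, Nat.add_sub_cancel]
    push_cast
    ring

theorem theta_sum_local {u : P} (hu : u ≠ 1) (x : G) :
    MemLocalRing M ((∑ ψ ∈ Finset.univ.filter (· ∈ B), θ ψ u * ψ.1 x) /
        (Nat.card (Subgroup.centralizer ({x} : Set G)) : ℂ)) := by
  refine (congrArg (MemLocalRing M) ?_).mp (S.conj_theta_sum_local hθ (inv_ne_one.2 hu) x).2
  congr 1
  exact Finset.sum_congr rfl fun ψ hψ => by
    rw [S.theta_inv (Finset.mem_filter.1 hψ).2 hu, Complex.conj_conj]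

end Shape

end Cfsg.Agent.Blocks.CyclicDefect
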