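import Cfsg.Agent.Lib.Blocks.CyclicDefect.RelTrace
import Cfsg.Agent.Lib.Blocks.CyclicDefect.CyclicModules
import Mathlib.LinearAlgebra.Dual.Lemmas
import Mathlib.FieldTheory.IsAlgClosed.Basic
import Mathlib.RingTheory.Artinian.Module
import Mathlib.GroupTheory.PGroup
import Mathlib.Algebra.CharP.Lemmas
import Mathlib.Algebra.CharP.Algebra

/-!
# The basic algebra of a block with cyclic defect group and one irreducible module

For a central idempotent `β` of `k[K]` which is a relative trace from a cyclic `p`-subgroup and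
has only one irreducible module, there is an idempotent `e` with `β ∈ A e A` and a nilpotent `x`
such that `e A e` is spanned by `e` and the powers of `x`.
-/

set_option autoImplicit false
set_option linter.unusedSectionVars false
set_option linter.style.haveILetI false

namespace Cfsg.Agent.Blocks.CyclicDefect

open MonoidAlgebra
open scoped Classical Pointwise

universe u w

variable {k : Type w} [Field k] [IsAlgClosed k] {K : Type u} [Group K] [Finite K]

local notation "A" => MonoidAlgebra k K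

/-- The regular representation. -/
noncomputable def regRep (k : Type w) [Field k] (K : Type u) [Group K] :
    Representation k K (MonoidAlgebra k K) where
  toFun g := LinearMap.mulLeft k (MonoidAlgebra.single g 1)
  map_one' := LinearMap.ext fun y => by simp [← MonoidAlgebra.one_def]
  map_mul' g h := LinearMap.ext fun y => by
    simp [← mul_assoc, MonoidAlgebra.single_mul_single]

theorem asAlgebraHom_regRep (a y : A) : (regRep k K).asAlgebraHom a y = a * y := by
  induction a using MonoidAlgebra.induction_on with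
  | of g => simp [regRep]
  | add a b ha hb => simp [ha, hb, add_mul]
  | smul c a ha => simp [ha]

theorem inv_regRep {N : Submodule k A} (h : ∀ a, ∀ y ∈ N, a * y ∈ N) : Inv (regRep k K) N :=
  fun g y hy => h _ y hy

/-! ### Primitive idempotents -/

/-- An idempotent with only trivial idempotents below it. -/
def IsPrimIdem (e : A) : Prop :=
  IsIdempotentElem e ∧ e ≠ 0 ∧ ∀ f : A, IsIdempotentElem f → e * f * e = f → f = 0 ∨ f = e

theorem exists_isPrimIdem {β : A} (hβ : IsIdempotentElem β) (hne : β ≠ 0) :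
    ∃ e, IsPrimIdem e ∧ β * e = e ∧ e * β = e := by
  obtain ⟨e, ⟨he, hne', h1, h2⟩, hmin⟩ := (measure fun e : A =>
      Module.finrank k (LinearMap.range (LinearMap.mulRight k e))).wf.has_min
    {e : A | IsIdempotentElem e ∧ e ≠ 0 ∧ β * e = e ∧ e * β = e} ⟨β, hβ, hne, hβ.eq, hβ.eq⟩
  refine ⟨e, ⟨he, hne', fun f hf hef => ?_⟩, h1, h2⟩
  by_contra hcon
  push Not at hcon
  have hfe : f * e = f := by rw [← hef, mul_assoc, he.eq]
  have hef' : e * f = f := by rw [← hef, ← mul_assoc, ← mul_assoc, he.eq]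
  have hle : LinearMap.range (LinearMap.mulRight k f) ≤ LinearMap.range (LinearMap.mulRight k e) := by
    rintro _ ⟨y, rfl⟩
    exact ⟨y * f, by simp [mul_assoc, hfe]⟩
  have hβf : β * f = f := by rw [← hef', ← mul_assoc, h1]
  have hfβ : f * β = f := by rw [← hfe, mul_assoc, h2]
  refine hmin f ⟨hf, hcon.1, hβf, hfβ⟩ ?_
  show Module.finrank k _ < Module.finrank k _
  refine Submodule.finrank_lt_finrank_of_lt (lt_of_le_of_ne hle fun heq => hcon.2 ?_)
  obtain ⟨y, hy⟩ := heq.ge (⟨e, he.eq⟩ : e ∈ LinearMap.range (LinearMap.mulRight k e))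
  have hy' : y * f = e := by simpa using hy
  calc f = e * f := hef'.symm
    _ = y * f * f := by rw [hy']
    _ = e := by rw [mul_assoc, hf.eq, hy']

variable {e : MonoidAlgebra k K}

theorem IsPrimIdem.left (he : IsPrimIdem e) {z : A} (hz : e * z * e = z) : e * z = z := by
  rw [← hz, ← mul_assoc, ← mul_assoc, he.1.eq]

theorem IsPrimIdem.right (he : IsPrimIdem e) {z : A} (hz : e * z * e = z) : z * e = z := by
  rw [← hz, mul_assoc, he.1.eq]

theorem IsPrimIdem.nilpotent_or_inverse (he : IsPrimIdem e) {z : A} (hz : e * z * e = z) :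
    IsNilpotent z ∨ ∃ w, e * w * e = w ∧ z * w = e ∧ w * z = e := by
  let E : Submodule k A := LinearMap.range (LinearMap.mulLeft k e)
  have hmemE : ∀ y : A, y ∈ E ↔ e * y = y := fun y => ⟨fun ⟨t, ht⟩ => by
    rw [← ht]; show e * (e * t) = e * t; rw [← mul_assoc, he.1.eq], fun h => ⟨y, h⟩⟩
  let T : E →ₗ[k] E := (LinearMap.mulLeft k z).restrict fun y _ => (hmemE _).2 (by
    show e * (z * y) = z * y
    rw [← mul_assoc, he.left hz])
  have hT : ∀ (n : ℕ) (y : E), (((T ^ n) y : E) : A) = z ^ n * y := by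
    intro n
    induction n with
    | zero => intro y; simp
    | succ n ih =>
      intro y
      rw [pow_succ', Module.End.mul_apply, pow_succ', mul_assoc, ← ih]
      rfl
  obtain ⟨n, hn, hcompl⟩ : ∃ n, 1 ≤ n ∧ IsCompl (LinearMap.ker (T ^ n)) (LinearMap.range (T ^ n)) := by
    obtain ⟨N, hN⟩ := Filter.eventually_atTop.1 T.eventually_isCompl_ker_pow_range_pow
    exact ⟨max N 1, le_max_right _ _, hN _ (le_max_left _ _)⟩
  obtain ⟨κ, hκ, ι, hι, hsum⟩ := Submodule.mem_sup.1
    (hcompl.sup_eq_top.ge (Submodule.mem_top : (⟨e, (hmemE e).2 he.1.eq⟩ : E) ∈ ⊤))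
  obtain ⟨t, rfl⟩ := hι
  have hκ0 : z ^ n * (κ : A) = 0 := by rw [← hT, LinearMap.mem_ker.1 hκ]; rfl
  have hsum' : (κ : A) + z ^ n * t = e := by rw [← hT]; exact congrArg Subtype.val hsum
  have hκE : e * (κ : A) = κ := (hmemE _).1 κ.2
  have htE : e * (t : A) = t := (hmemE _).1 t.2
  have huniq : ∀ a b c : A, e * a = a → e * b = b → e * c = c → z ^ n * a = 0 →
      z ^ n * b = 0 → a + z ^ n * c = b → a = b := by
    intro a b c ha hb hc ha0 hb0 habc
    have h0 : (T ^ n) ⟨c, (hmemE c).2 hc⟩ ∈ LinearMap.ker (T ^ n) ⊓ LinearMap.range (T ^ n) := by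
      refine ⟨LinearMap.mem_ker.2 (Subtype.ext ?_), ⟨_, rfl⟩⟩
      rw [hT, hT]
      show z ^ n * (z ^ n * c) = 0
      rw [eq_sub_of_add_eq' habc, mul_sub, ha0, hb0, sub_zero]
    rw [hcompl.inf_eq_bot, Submodule.mem_bot] at h0
    have := congrArg Subtype.val h0
    rw [hT] at this
    change z ^ n * c = 0 at this
    rwa [this, add_zero] at habc
  have hκκ : (κ : A) * κ = κ := by
    refine huniq _ _ (t * κ) (by rw [← mul_assoc, hκE]) hκE (by rw [← mul_assoc, htE])
      (by rw [← mul_assoc, hκ0, zero_mul]) hκ0 ?_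
    rw [← mul_assoc, ← add_mul, hsum', hκE]
  rcases he.2.2 ((κ : A) * e) (by
      show (κ : A) * e * ((κ : A) * e) = κ * e
      rw [mul_assoc, ← mul_assoc e, hκE, ← mul_assoc, hκκ]) (by
      rw [← mul_assoc, hκE, mul_assoc, he.1.eq]) with h | h
  · right
    have hk0 : (κ : A) = 0 := by
      rw [← hκκ]; conv_lhs => arg 2; rw [← hκE]
      rw [← mul_assoc, h, zero_mul]
    rw [hk0, zero_add] at hsum'
    obtain ⟨m, rfl⟩ := Nat.exists_eq_add_of_le' hn
    refine ⟨e * (z ^ m * t) * e, ?_, ?_, ?_⟩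
    · simp only [← mul_assoc, he.1.eq]
      simp only [mul_assoc, he.1.eq]
    · rw [← mul_assoc, ← mul_assoc, he.right hz, ← mul_assoc, ← pow_succ', hsum', he.1.eq]
    · have hinj : ∀ y : A, e * y = y → z * y = 0 → y = 0 := by
        intro y hy hzy
        have hdis : (⟨y, (hmemE y).2 hy⟩ : E) ∈
            LinearMap.ker (T ^ (m + 1)) ⊓ LinearMap.range (T ^ (m + 1)) := by
          refine ⟨LinearMap.mem_ker.2 (Subtype.ext ?_), ⟨⟨t * y, (hmemE _).2 (by rw [← mul_assoc, htE])⟩, Subtype.ext ?_⟩⟩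
          · rw [hT]
            show z ^ (m + 1) * y = 0
            rw [pow_succ, mul_assoc, hzy, mul_zero]
          · rw [hT]
            show z ^ (m + 1) * (t * y) = y
            rw [← mul_assoc, hsum', hy]
        rw [hcompl.inf_eq_bot, Submodule.mem_bot] at hdis
        exact congrArg Subtype.val hdis
      set w := e * (z ^ m * t) * e with hw
      have hwe : e * w * e = w := by
        rw [hw]
        simp only [← mul_assoc, he.1.eq]
        simp only [mul_assoc, he.1.eq]
      have hzw : z * w = e := by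
        rw [hw, ← mul_assoc, ← mul_assoc, he.right hz, ← mul_assoc, ← pow_succ', hsum', he.1.eq]
      refine sub_eq_zero.1 (hinj _ ?_ ?_)
      · rw [mul_sub, ← mul_assoc, he.left hwe, he.1.eq]
      · rw [mul_sub, ← mul_assoc, hzw, he.left hz, he.right hz, sub_self]
  · left
    refine ⟨n, ?_⟩
    have h0 : z ^ n * e = 0 := by rw [← h, ← mul_assoc, hκ0, zero_mul]
    obtain ⟨m, rfl⟩ := Nat.exists_eq_add_of_le' hn
    rwa [pow_succ, mul_assoc, he.right hz, ← pow_succ] at h0

theorem IsPrimIdem.eq_zero_of_left_inverse (he : IsPrimIdem e) {n w : A} (hn : IsNilpotent n)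
    (hn' : e * n * e = n) (hw : w * n = e) : False := by
  obtain ⟨j, hj⟩ := hn
  have key : ∀ i, n ^ (i + 1) = 0 → n = 0 := fun i => by
    induction i with
    | zero => intro h; simpa using h
    | succ i ih =>
      intro h
      refine ih ?_
      have h1 : n ^ (i + 1) = e * n ^ (i + 1) := by rw [pow_succ', ← mul_assoc, he.left hn']
      rw [h1, ← hw, mul_assoc, ← pow_succ', h, mul_zero]
  have hn0 : n = 0 := key j (by rw [pow_succ, hj, zero_mul])
  exact he.2.1 (by rw [← hw, hn0, mul_zero])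

/-- The nilpotent elements of `e A e`. -/
noncomputable def IsPrimIdem.rad (he : IsPrimIdem e) : Submodule k A where
  carrier := {z | e * z * e = z ∧ IsNilpotent z}
  zero_mem' := ⟨by simp, IsNilpotent.zero⟩
  smul_mem' c z hz := ⟨by rw [mul_smul_comm, smul_mul_assoc, hz.1], hz.2.smul c⟩
  add_mem' {a b} ha hb := by
    have hab : e * (a + b) * e = a + b := by rw [mul_add, add_mul, ha.1, hb.1]
    refine ⟨hab, ?_⟩
    rcases he.nilpotent_or_inverse hab with h | ⟨w, hw, -, hwab⟩
    · exact h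
    exfalso
    have hsub : ∀ z : A, e * z * e = z → e * (w * z) * e = w * z := fun z hz => by
      rw [← mul_assoc, he.left hw, mul_assoc, he.right hz]
    have hnil : ∀ z : A, e * z * e = z → IsNilpotent z → IsNilpotent (w * z) := fun z hz hn => by
      rcases he.nilpotent_or_inverse (hsub z hz) with h | ⟨t, -, -, ht⟩
      · exact h
      · exact (he.eq_zero_of_left_inverse hn hz (w := t * w) (by rw [mul_assoc, ht])).elim
    have h1 : w * a = e - w * b := by rw [← hwab, mul_add, add_sub_cancel_right]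
    have h2 : Commute (w * a) (w * b) := by
      rw [h1, Commute, SemiconjBy, sub_mul, mul_sub, he.left (hsub b hb.1), he.right (hsub b hb.1)]
    have h3 := h2.isNilpotent_add (hnil a ha.1 ha.2) (hnil b hb.1 hb.2)
    rw [← mul_add, hwab] at h3
    exact he.2.1 (by
      obtain ⟨j, hj⟩ := h3
      have : ∀ i : ℕ, e ^ (i + 1) = e := fun i => he.1.pow_succ_eq i
      rw [← this j, pow_succ, hj, zero_mul])

theorem IsPrimIdem.mem_rad {he : IsPrimIdem e} {z : A} :
    z ∈ he.rad ↔ e * z * e = z ∧ IsNilpotent z := Iff.rfl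

theorem IsPrimIdem.mul_mem_rad (he : IsPrimIdem e) {z w : A} (hz : z ∈ he.rad) (hw : e * w * e = w) :
    z * w ∈ he.rad ∧ w * z ∈ he.rad := by
  obtain ⟨hz1, hz2⟩ := hz
  constructor
  · have h : e * (z * w) * e = z * w := by rw [← mul_assoc, he.left hz1, mul_assoc, he.right hw]
    refine ⟨h, (he.nilpotent_or_inverse h).resolve_right ?_⟩
    rintro ⟨t, -, ht, -⟩
    obtain ⟨j, hj⟩ := hz2
    have key : ∀ i, z ^ (i + 1) = 0 → z = 0 := fun i => by
      induction i with
      | zero => intro h; simpa using h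
      | succ i ih =>
        intro h'
        refine ih ?_
        have h1 : z ^ (i + 1) = z ^ (i + 1) * e := by rw [pow_succ, mul_assoc, he.right hz1]
        rw [h1, ← ht, ← mul_assoc, ← mul_assoc, ← pow_succ, h', zero_mul, zero_mul]
    have hz0 : z = 0 := key j (by rw [pow_succ, hj, zero_mul])
    exact he.2.1 (by rw [← ht, hz0, zero_mul, zero_mul])
  · have h : e * (w * z) * e = w * z := by rw [← mul_assoc, he.left hw, mul_assoc, he.right hz1]
    refine ⟨h, (he.nilpotent_or_inverse h).resolve_right ?_⟩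
    rintro ⟨t, -, -, ht⟩
    exact he.eq_zero_of_left_inverse hz2 hz1 (w := t * w) (by rw [mul_assoc, ht])

/-- `e A e = k e + rad`. -/
theorem IsPrimIdem.exists_scalar (he : IsPrimIdem e) {z : A} (hz : e * z * e = z) :
    ∃ c : k, z - c • e ∈ he.rad := by
  let E : Submodule k A := LinearMap.range (LinearMap.mulLeft k e)
  have hmemE : ∀ y : A, y ∈ E → e * y = y := fun y ⟨t, ht⟩ => by
    rw [← ht]; show e * (e * t) = e * t; rw [← mul_assoc, he.1.eq]
  let T : E →ₗ[k] E := (LinearMap.mulLeft k z).restrict fun y _ =>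
    ⟨z * y, by show e * (z * y) = z * y; rw [← mul_assoc, he.left hz]⟩
  haveI : Nontrivial E := ⟨⟨⟨e, ⟨e, he.1.eq⟩⟩, 0, fun h => he.2.1 (congrArg Subtype.val h)⟩⟩
  obtain ⟨c, hc⟩ := Module.End.exists_eigenvalue T
  obtain ⟨y, hy⟩ := hc.exists_hasEigenvector
  refine ⟨c, ?_⟩
  have hzc : e * (z - c • e) * e = z - c • e := by
    rw [mul_sub, sub_mul, hz, mul_smul_comm, smul_mul_assoc, he.1.eq, he.1.eq]
  refine ⟨hzc, (he.nilpotent_or_inverse hzc).resolve_right ?_⟩
  rintro ⟨w, -, -, hw⟩
  refine hy.2 (Subtype.ext ?_)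
  have h1 : z * (y : A) = c • (y : A) := congrArg Subtype.val hy.apply_eq_smul
  calc (y : A) = e * y := (hmemE _ y.2).symm
    _ = w * ((z - c • e) * y) := by rw [← mul_assoc, hw]
    _ = 0 := by rw [sub_mul, smul_mul_assoc, h1, hmemE _ y.2, sub_self, mul_zero]

theorem IsPrimIdem.smul_mem_rad (he : IsPrimIdem e) {c : k} (h : c • e ∈ he.rad) : c = 0 := by
  by_contra hc
  refine he.2.1 ?_
  obtain ⟨j, hj⟩ := h.2.smul c⁻¹
  rw [inv_smul_smul₀ hc] at hj
  rw [← he.1.pow_succ_eq j, pow_succ, hj, zero_mul]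

/-- The radical is nilpotent. -/
theorem IsPrimIdem.exists_rad_pow_eq_bot (he : IsPrimIdem e) : ∃ j, he.rad ^ (j + 1) = ⊥ := by
  set m := he.rad with hm
  have hmm : m * m ≤ m := Submodule.mul_le.2 fun a ha b hb => (he.mul_mem_rad ha hb.1).1
  have hanti : ∀ i, m ^ (i + 1 + 1) ≤ m ^ (i + 1) := fun i => by
    induction i with
    | zero => simpa [pow_succ] using hmm
    | succ i ih => rw [pow_succ _ (i + 1 + 1), pow_succ _ (i + 1)]; exact mul_le_mul' ih le_rfl
  obtain ⟨_, ⟨j, rfl⟩, hmin⟩ := (measure fun S : Submodule k A => Module.finrank k S).wf.has_min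
    (Set.range fun i => m ^ (i + 1)) ⟨_, ⟨0, rfl⟩⟩
  refine ⟨j, ?_⟩
  have hle : ∀ i, m ^ (j + 1 + i) = m ^ (j + 1) := fun i => by
    refine Submodule.eq_of_le_of_finrank_le ?_ (not_lt.1 (hmin _ ⟨j + i, by simp [add_right_comm]⟩))
    induction i with
    | zero => exact le_rfl
    | succ i ih =>
      refine le_trans ?_ ih
      have := hanti (j + i)
      simpa [add_right_comm, add_assoc, add_comm, add_left_comm] using this
  set Z := m ^ (j + 1) with hZ
  have hZZ : Z * Z = Z := by rw [hZ, ← pow_add]; exact hle (j + 1)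
  have hZm : Z ≤ m := by
    have h : ∀ i, m ^ (i + 1) ≤ m := fun i => by
      induction i with
      | zero => simp
      | succ i ih => exact (hanti i).trans ih
    exact h j
  by_contra hne
  obtain ⟨L, ⟨hLZ, hZL, hL0⟩, hLmin⟩ := (measure fun S : Submodule k A => Module.finrank k S).wf.has_min
    {L : Submodule k A | L ≤ Z ∧ Z * L ≤ L ∧ Z * L ≠ ⊥}
    ⟨Z, le_rfl, hZZ.le, by rwa [hZZ]⟩
  obtain ⟨l, hl, hl0⟩ : ∃ l ∈ L, Z * Submodule.span k {l} ≠ ⊥ := by
    by_contra h
    push Not at h
    refine hL0 (le_bot_iff.1 (Submodule.mul_le.2 fun a ha b hb => ?_))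
    rw [← h b hb]
    exact Submodule.mul_mem_mul ha (Submodule.mem_span_singleton_self b)
  have h1 : Z * Submodule.span k {l} ≤ L :=
    (mul_le_mul' le_rfl ((Submodule.span_singleton_le_iff_mem _ _).2 hl)).trans hZL
  have h2 : Z * (Z * Submodule.span k {l}) = Z * Submodule.span k {l} := by rw [← mul_assoc, hZZ]
  have heq : Z * Submodule.span k {l} = L := Submodule.eq_of_le_of_finrank_le h1
    (not_lt.1 (hLmin _ ⟨h1.trans hLZ, h2.le, by rwa [h2]⟩))
  obtain ⟨z, hz, hzl⟩ := Submodule.mem_mul_span_singleton.1 (heq.ge hl)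
  obtain ⟨i, hi⟩ := (hZm hz).2
  have hpow : ∀ i, z ^ i * l = l := fun i => by
    induction i with
    | zero => simp
    | succ i ih => rw [pow_succ, mul_assoc, hzl, ih]
  refine hl0 ?_
  rw [show l = 0 by rw [← hpow i, hi, zero_mul], Submodule.span_zero_singleton, Submodule.mul_bot]

/-- A block with one irreducible module. -/
def OneIrr (β : A) : Prop :=
  ∀ (V W : Type (max u w)) [AddCommGroup V] [Module k V] [FiniteDimensional k V] [AddCommGroup W]
    [Module k W] [FiniteDimensional k W] (ρ : Representation k K V) (σ : Representation k K W),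
    Irr ρ → Irr σ → ρ.asAlgebraHom β = 1 → σ.asAlgebraHom β = 1 →
      ∃ f : V →ₗ[k] W, Intw ρ σ f ∧ f ≠ 0

/-- Left multiples. -/
theorem mul_mem_top_mul {S : Submodule k A} (a : A) {y : A} (hy : y ∈ (⊤ : Submodule k A) * S) :
    a * y ∈ (⊤ : Submodule k A) * S := by
  refine Submodule.mul_induction_on hy ?_ ?_
  · intro m _ n hn; rw [← mul_assoc]; exact Submodule.mul_mem_mul Submodule.mem_top hn
  · intro x y hx hy; rw [mul_add]; exact add_mem hx hy

variable {p : ℕ} [hp : Fact p.Prime] [CharP k p]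

/-- The left ideal `A (1 - e) + A S`. -/
noncomputable def cutIdeal (e : A) (S : Submodule k A) : Submodule k A :=
  LinearMap.range (LinearMap.mulRight k (1 - e)) ⊔ ⊤ * S

theorem mul_mem_cutIdeal (e : A) (S : Submodule k A) (a : A) {y : A} (hy : y ∈ cutIdeal e S) :
    a * y ∈ cutIdeal e S := by
  obtain ⟨_, ⟨t, rfl⟩, r, hr, rfl⟩ := Submodule.mem_sup.1 hy
  rw [mul_add]
  exact Submodule.add_mem_sup ⟨a * t, mul_assoc a t _⟩ (mul_mem_top_mul a hr)

set_option maxHeartbeats 800000 in
include hp in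
/-- The radical of `e A e` is generated by one element. -/
theorem IsPrimIdem.exists_rad_generator (he : IsPrimIdem e) {β : A} {P : Subgroup K}
    (hP : IsPGroup p P) (hcyc : IsCyclic P) (hβc : ∀ a, β * a = a * β) (hβe : β * e = e) {a : A}
    (ha : a ∈ BrauerPairs.fixedBy k P) (hβa : BrauerPairs.relTr P ⊤ a = β) :
    ∃ x ∈ he.rad, he.rad ≤ Submodule.span k {x} ⊔ he.rad * he.rad := by
  set m := he.rad
  by_contra hcon
  push Not at hcon
  obtain ⟨x1, hx1, hx1'⟩ := SetLike.not_le_iff_exists.1 (hcon 0 (zero_mem _))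
  obtain ⟨x2, hx2, hx2'⟩ := SetLike.not_le_iff_exists.1 (hcon x1 hx1)
  rw [Submodule.span_zero_singleton, bot_sup_eq] at hx1'
  have hx12 : x1 ∉ Submodule.span k {x2} ⊔ m * m := fun h => by
    obtain ⟨y, hy, z, hz, hsum⟩ := Submodule.mem_sup.1 h
    obtain ⟨c, rfl⟩ := Submodule.mem_span_singleton.1 hy
    rcases eq_or_ne c 0 with rfl | hc
    · rw [zero_smul, zero_add] at hsum; exact hx1' (hsum ▸ hz)
    · refine hx2' ?_
      have : x2 = c⁻¹ • x1 - c⁻¹ • z := by rw [← hsum, smul_add, inv_smul_smul₀ hc, add_sub_cancel_right]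
      rw [this]
      exact sub_mem (Submodule.mem_sup_left (Submodule.smul_mem _ _ (Submodule.mem_span_singleton_self _)))
        (Submodule.mem_sup_right (Submodule.smul_mem _ _ hz))
  obtain ⟨φ1, hφ1, hker1⟩ := Submodule.exists_le_ker_of_notMem hx12
  obtain ⟨φ2, hφ2, hker2⟩ := Submodule.exists_le_ker_of_notMem hx2'
  set ℓ1 : A →ₗ[k] k := (φ1 x1)⁻¹ • φ1
  set ℓ2 : A →ₗ[k] k := (φ2 x2)⁻¹ • φ2
  have e11 : ℓ1 x1 = 1 := by simp [ℓ1, inv_mul_cancel₀ hφ1]
  have e22 : ℓ2 x2 = 1 := by simp [ℓ2, inv_mul_cancel₀ hφ2]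
  have e12 : ℓ1 x2 = 0 := by
    simp [ℓ1, LinearMap.mem_ker.1 (hker1 (Submodule.mem_sup_left (Submodule.mem_span_singleton_self x2)))]
  have e21 : ℓ2 x1 = 0 := by
    simp [ℓ2, LinearMap.mem_ker.1 (hker2 (Submodule.mem_sup_left (Submodule.mem_span_singleton_self x1)))]
  let Ks : k → Submodule k A := fun s => m ⊓ LinearMap.ker (ℓ1 + s • ℓ2)
  have hmK : ∀ s, m * m ≤ Ks s := fun s =>
    le_inf (Submodule.mul_le.2 fun a ha b hb => (he.mul_mem_rad ha hb.1).1) fun y hy => by
      simp [ℓ1, ℓ2, LinearMap.mem_ker.1 (hker1 (Submodule.mem_sup_right hy)),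
        LinearMap.mem_ker.1 (hker2 (Submodule.mem_sup_right hy))]
  have hKne : ∀ s t, s ≠ t → ¬ Ks s ≤ Ks t := by
    intro s t hst hle
    have hmem : s • x1 - x2 ∈ Ks s := ⟨sub_mem (Submodule.smul_mem _ _ hx1) hx2, by
      simp [e11, e12, e21, e22]⟩
    have h := (hle hmem).2
    simp [e11, e12, e21, e22, ← sub_eq_add_neg, sub_eq_zero] at h
    exact hst h
  have hKmul : ∀ s (c : A), e * c * e = c → ∀ y ∈ Ks s, c * y ∈ Ks s := by
    intro s c hc y hy
    obtain ⟨c0, hc0⟩ := he.exists_scalar hc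
    rw [show c * y = c0 • y + (c - c0 • e) * y by
      rw [sub_mul, smul_mul_assoc, he.left hy.1.1, add_sub_cancel]]
    exact add_mem (Submodule.smul_mem _ _ hy) (hmK s (Submodule.mul_mem_mul hc0 hy.1))
  have hN : ∀ s y, y ∈ cutIdeal e (Ks s) → e * y * e ∈ Ks s := by
    intro s y hy
    obtain ⟨_, ⟨t, rfl⟩, r, hr, rfl⟩ := Submodule.mem_sup.1 hy
    rw [mul_add, add_mul]
    refine add_mem ?_ ?_
    · show e * (t * (1 - e)) * e ∈ Ks s
      rw [mul_assoc, mul_assoc, sub_mul, one_mul, he.1.eq, sub_self, mul_zero, mul_zero]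
      exact zero_mem _
    · clear hy
      refine Submodule.mul_induction_on hr ?_ ?_
      · intro a _ κ hκ
        rw [show e * (a * κ) * e = e * a * e * κ by
          rw [mul_assoc, mul_assoc, he.right hκ.1.1]
          conv_rhs => rw [mul_assoc, he.left hκ.1.1, mul_assoc]]
        refine hKmul s _ ?_ κ hκ
        simp only [← mul_assoc, he.1.eq]
        simp only [mul_assoc, he.1.eq]
      · intro x y hx hy; rw [mul_add, add_mul]; exact add_mem hx hy
  let hInv : ∀ s, Inv (regRep k K) (cutIdeal e (Ks s)) := fun s =>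
    inv_regRep fun a y hy => mul_mem_cutIdeal e (Ks s) a hy
  let ρ : ∀ s, Representation k K (A ⧸ cutIdeal e (Ks s)) := fun s => quotRep (regRep k K) (hInv s)
  have hρ : ∀ s (a y : A), (ρ s).asAlgebraHom a (Submodule.Quotient.mk y) =
      Submodule.Quotient.mk (a * y) := fun s a y => by
    rw [← asAlgebraHom_regRep a y]
    exact ((intw_mkQ (hInv s)).asAlgebraHom a y).symm
  have hmke : ∀ s (y : A), (Submodule.Quotient.mk y : A ⧸ cutIdeal e (Ks s)) = Submodule.Quotient.mk (y * e) :=
    fun s y => (Submodule.Quotient.eq _).2 (Submodule.mem_sup_left ⟨y, by simp [mul_sub]⟩)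
  have hρβ : ∀ s, (ρ s).asAlgebraHom β = 1 := fun s => LinearMap.ext fun z => by
    induction z using Submodule.Quotient.induction_on with
    | _ y =>
      show (ρ s).asAlgebraHom β (Submodule.Quotient.mk y) = Submodule.Quotient.mk y
      rw [hρ, hmke s (β * y), hmke s y, hβc, mul_assoc, hβe]
  -- intertwining maps are right multiplications
  have hhom : ∀ s t (f : (A ⧸ cutIdeal e (Ks s)) →ₗ[k] (A ⧸ cutIdeal e (Ks t))), Intw (ρ s) (ρ t) f →
      ∃ r, e * r * e = r ∧ (∀ y, f (Submodule.Quotient.mk y) = Submodule.Quotient.mk (y * r)) ∧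
        ∀ κ ∈ Ks s, κ * r ∈ Ks t := by
    intro s t f hf
    obtain ⟨r0, hr0⟩ := Submodule.Quotient.mk_surjective _ (f (Submodule.Quotient.mk e))
    have hre : e * (e * r0 * e) * e = e * r0 * e := by
      simp only [← mul_assoc, he.1.eq]
      simp only [mul_assoc, he.1.eq]
    have hfy : ∀ y, f (Submodule.Quotient.mk y) = Submodule.Quotient.mk (y * (e * r0 * e)) := by
      intro y
      have h1 : f (Submodule.Quotient.mk (y * e)) = Submodule.Quotient.mk (y * e * r0) := by
        have h2 : (Submodule.Quotient.mk (y * e) : A ⧸ cutIdeal e (Ks s)) =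
            (ρ s).asAlgebraHom (y * e) (Submodule.Quotient.mk e) := by rw [hρ, mul_assoc, he.1.eq]
        rw [h2, hf.asAlgebraHom, ← hr0, hρ]
      rw [hmke s y, h1, hmke t (y * e * r0), mul_assoc, mul_assoc, mul_assoc e]
    refine ⟨e * r0 * e, hre, hfy, fun κ hκ => ?_⟩
    have h0 : (Submodule.Quotient.mk κ : A ⧸ cutIdeal e (Ks s)) = 0 := (Submodule.Quotient.mk_eq_zero _).2
      (Submodule.mem_sup_right (by simpa using Submodule.mul_mem_mul (Submodule.mem_top (x := (1 : A))) hκ))
    have h1 := hfy κ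
    rw [h0, map_zero, eq_comm, Submodule.Quotient.mk_eq_zero] at h1
    have h2 := hN t _ h1
    rwa [← mul_assoc, he.left hκ.1.1, mul_assoc, he.right hre] at h2
  have hrad : ∀ s t, s ≠ t → ∀ r, e * r * e = r → (∀ κ ∈ Ks s, κ * r ∈ Ks t) → r ∈ m := by
    intro s t hst r hr hK
    obtain ⟨c, hc⟩ := he.exists_scalar hr
    rcases eq_or_ne c 0 with rfl | hc0
    · simpa using hc
    refine absurd (fun κ hκ => ?_) (hKne s t hst)
    have h1 := hK κ hκ
    rw [show κ * r = c • κ + κ * (r - c • e) by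
      rw [mul_sub, mul_smul_comm, he.right hκ.1.1, add_sub_cancel]] at h1
    exact (Submodule.smul_mem_iff _ hc0).1
      ((Submodule.add_mem_iff_left _ (hmK t (Submodule.mul_mem_mul hκ.1 hc))).1 h1)
  -- the cyclic group
  obtain ⟨g0, hg0⟩ := hcyc.exists_generator
  obtain ⟨n, hn⟩ := IsPGroup.iff_orderOf.1 hP g0
  set u0 : K := (g0 : K)
  have hu0 : u0 ^ p ^ n = 1 := by rw [← hn, ← Subgroup.orderOf_coe, pow_orderOf_eq_one]
  obtain ⟨Y, iY, iY', iY'', T, hT, huniv⟩ := exists_universal.{w, max u w} k (p ^ n) (Module.finrank k A)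
  have hdim : ∀ s, Module.finrank k (A ⧸ cutIdeal e (Ks s)) ≤ Module.finrank k A := fun s =>
    Submodule.finrank_quotient_le _
  have hnilf : ∀ s, ((ρ s) u0 - 1) ^ p ^ n = 0 := by
    intro s
    rcases subsingleton_or_nontrivial (A ⧸ cutIdeal e (Ks s)) with hs | hs
    · exact LinearMap.ext fun x => Subsingleton.elim _ _
    haveI : CharP (Module.End k (A ⧸ cutIdeal e (Ks s))) p :=
      charP_of_injective_algebraMap (algebraMap k _).injective p
    rw [sub_pow_char_pow_of_commute p n (Commute.one_right _), one_pow, ← map_pow, hu0, map_one, sub_self]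
  choose ii qq hii hqq hqi using fun s =>
    huniv (A ⧸ cutIdeal e (Ks s)) ((ρ s) u0 - 1) (hnilf s) (hdim s)
  letI := Fintype.ofFinite ((⊤ : Subgroup K) ⧸ P.subgroupOf ⊤)
  let ι0 : ∀ s, (A ⧸ cutIdeal e (Ks s)) →ₗ[k] (K → Y) := fun s =>
    LinearMap.pi fun g => (ii s).comp (ρ s g)
  let π0 : ∀ s, (K → Y) →ₗ[k] (A ⧸ cutIdeal e (Ks s)) := fun s =>
    ∑ q : (⊤ : Subgroup K) ⧸ P.subgroupOf ⊤, ((ρ s ((q.out : (⊤ : Subgroup K)) : K)).comp
      ((ρ s).asAlgebraHom a)).comp ((qq s).comp
        (LinearMap.proj ((q.out : (⊤ : Subgroup K)) : K)⁻¹))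
  have hcomp : ∀ s t, Intw (ρ s) (ρ t) ((π0 t).comp (ι0 s)) := by
    intro s t
    have hlin : ∀ x, (qq t) ((ii s) (ρ s u0 x)) = ρ t u0 ((qq t) ((ii s) x)) := by
      intro x
      have h1 := congrArg (qq t) (hii s x)
      rw [hqq] at h1
      simp only [LinearMap.sub_apply, Module.End.one_apply, map_sub] at h1
      exact sub_left_injective h1
    have hon : IntwOn P (ρ s) (ρ t) ((qq t).comp (ii s)) := by
      intro g hg
      have hfix : ∀ i : ℕ, ∀ x, (qq t).comp (ii s) (ρ s (u0 ^ i) x) = ρ t (u0 ^ i) ((qq t).comp (ii s) x) := by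
        intro i
        induction i with
        | zero => intro x; simp
        | succ i ih =>
          intro x
          rw [pow_succ, map_mul, map_mul, Module.End.mul_apply, ih, Module.End.mul_apply]
          congr 1
          exact hlin x
      obtain ⟨i, hi⟩ := (Subgroup.mem_zpowers_iff.1 (hg0 ⟨g, hg⟩))
      obtain ⟨j, hj⟩ : ∃ j : ℕ, g0 ^ j = (⟨g, hg⟩ : P) := by
        haveI := Fintype.ofFinite P
        exact ⟨(i % (orderOf g0 : ℤ)).toNat, by
          rw [← zpow_natCast, Int.toNat_of_nonneg (Int.emod_nonneg _ (by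
            exact_mod_cast (orderOf_pos g0).ne')), zpow_mod_orderOf, hi]⟩
      have : g = u0 ^ j := by
        have := congrArg Subtype.val hj
        simpa [u0] using this.symm
      rw [this]
      exact hfix j
    have heq : (π0 t).comp (ι0 s) = trMap P ⊤ (ρ s) (ρ t)
        (((ρ t).asAlgebraHom a).comp ((qq t).comp (ii s))) := by
      refine LinearMap.ext fun x => ?_
      simp only [π0, ι0, trMap, LinearMap.comp_apply, LinearMap.sum_apply, cjMap_apply,
        LinearMap.proj_apply, LinearMap.pi_apply]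
    rw [heq]
    exact intwOn_top.1 (intwOn_trMap (hon.comp (intwOn_asAlgebraHom (ρ t) ha)))
  have hid : ∀ s x, π0 s (ι0 s x) = x := by
    intro s x
    have h1 := LinearMap.congr_fun (hρβ s) x
    rw [← hβa, asAlgebraHom_relTr] at h1
    simp only [trMap, LinearMap.sum_apply, cjMap_apply, Module.End.one_apply] at h1
    simp only [π0, ι0, LinearMap.comp_apply, LinearMap.sum_apply, LinearMap.proj_apply,
      LinearMap.pi_apply, hqi]
    exact h1
  -- infinitely many independent idempotents of `End (K → Y)`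
  have hind : LinearIndependent k fun s => (ι0 s).comp (π0 s) := by
    rw [linearIndependent_iff']
    intro S c hc s₀ hs₀
    have hpt : ∀ s, s ≠ s₀ → ∃ r ∈ m, ∀ y,
        π0 s₀ (ι0 s (π0 s (ι0 s₀ (Submodule.Quotient.mk y)))) = Submodule.Quotient.mk (y * r) := by
      intro s hs
      obtain ⟨r, hr, hry, hrK⟩ := hhom _ _ _ (hcomp s₀ s)
      obtain ⟨r', hr', hry', -⟩ := hhom _ _ _ (hcomp s s₀)
      refine ⟨r * r', (he.mul_mem_rad (hrad _ _ hs.symm r hr hrK) hr').1, fun y => ?_⟩
      have := hry y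
      simp only [LinearMap.comp_apply] at this
      rw [this]
      have := hry' (y * r)
      simp only [LinearMap.comp_apply] at this
      rw [this, mul_assoc]
    choose! r hr hry using hpt
    have h1 := congrArg (fun F : (K → Y) →ₗ[k] (K → Y) => π0 s₀ (F (ι0 s₀ (Submodule.Quotient.mk e)))) hc
    simp only [LinearMap.sum_apply, LinearMap.smul_apply, LinearMap.comp_apply, map_sum, map_smul,
      LinearMap.zero_apply, map_zero] at h1
    rw [← Finset.add_sum_erase S _ hs₀, hid, hid, Finset.sum_congr rfl fun s hs => by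
      rw [hry s (Finset.ne_of_mem_erase hs)]] at h1
    simp only [← Submodule.Quotient.mk_smul] at h1
    have hsm : ∀ (T : Finset k) (F : k → A),
        ∑ i ∈ T, (Submodule.Quotient.mk (F i) : A ⧸ cutIdeal e (Ks s₀)) = Submodule.Quotient.mk (∑ i ∈ T, F i) :=
      fun T F => (map_sum (Submodule.mkQ _) F T).symm
    rw [hsm, ← Submodule.Quotient.mk_add] at h1
    rw [Submodule.Quotient.mk_eq_zero] at h1
    have h2 := hN _ _ h1
    rw [mul_add, add_mul, Finset.mul_sum, Finset.sum_mul] at h2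
    have h3 : e * (c s₀ • e) * e = c s₀ • e := by rw [mul_smul_comm, smul_mul_assoc, he.1.eq, he.1.eq]
    rw [h3] at h2
    refine he.smul_mem_rad ((Submodule.add_mem_iff_left _ (Submodule.sum_mem _ fun s hs => ?_)).1 h2.1)
    have h4 := hr s (Finset.ne_of_mem_erase hs)
    rw [mul_smul_comm, smul_mul_assoc, ← mul_assoc, he.1.eq, he.left h4.1, he.right h4.1]
    exact Submodule.smul_mem _ _ h4
  exact Infinite.not_finite (α := k) hind.finite

set_option maxHeartbeats 800000 in
include hp in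
/-- The basic algebra of a block with one irreducible module and cyclic defect group. -/
theorem exists_uniserial {β : A} (hβ : IsIdempotentElem β) (hne : β ≠ 0) (hβc : ∀ a, β * a = a * β)
    {P : Subgroup K} (hP : IsPGroup p P) (hcyc : IsCyclic P) {a : A}
    (ha : a ∈ BrauerPairs.fixedBy k P) (hβa : BrauerPairs.relTr P ⊤ a = β) (hone : OneIrr β) :
    ∃ e x : A, IsIdempotentElem e ∧ e ≠ 0 ∧ β * e = e ∧ e * x * e = x ∧ IsNilpotent x ∧
      (∀ z, ∃ c : k, e * z * e - c • e ∈ Submodule.span k (Set.range fun i : ℕ => x ^ (i + 1))) ∧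
      β ∈ (⊤ : Submodule k A) * Submodule.span k {e} * ⊤ := by
  obtain ⟨e, he, hβe, heβ⟩ := exists_isPrimIdem hβ hne
  obtain ⟨x, hx, hgen⟩ := he.exists_rad_generator hP hcyc hβc hβe ha hβa
  set m := he.rad
  set S := Submodule.span k (Set.range fun i : ℕ => x ^ (i + 1))
  have hxS : Submodule.span k {x} ≤ S :=
    (Submodule.span_singleton_le_iff_mem _ _).2 (Submodule.subset_span ⟨0, pow_one x⟩)
  have hSx : S * Submodule.span k {x} ≤ S := by
    rw [Submodule.span_mul_span]
    refine Submodule.span_le.2 ?_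
    rintro _ ⟨_, ⟨i, rfl⟩, _, hy, rfl⟩
    rw [Set.mem_singleton_iff.1 hy]
    exact Submodule.subset_span ⟨i + 1, pow_succ x (i + 1)⟩
  have hstep : ∀ j, m ^ (j + 1) ≤ S ⊔ m ^ (j + 1 + 1) := by
    intro j
    induction j with
    | zero =>
      rw [zero_add, pow_one, pow_succ, pow_one]
      exact hgen.trans (sup_le_sup_right hxS _)
    | succ j ih =>
      calc m ^ (j + 1 + 1) = m ^ (j + 1) * m := pow_succ _ _
        _ ≤ m ^ (j + 1) * (Submodule.span k {x} ⊔ m * m) := mul_le_mul' le_rfl hgen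
        _ ≤ _ := by
          rw [Submodule.mul_sup]
          refine sup_le ((mul_le_mul' ih le_rfl).trans ?_) ?_
          · rw [Submodule.sup_mul]
            refine sup_le (hSx.trans le_sup_left) (le_trans ?_ le_sup_right)
            rw [pow_succ _ (j + 1 + 1)]
            exact mul_le_mul' le_rfl ((Submodule.span_singleton_le_iff_mem _ _).2 hx)
          · rw [← mul_assoc, ← pow_succ, ← pow_succ]
            exact le_sup_right
  have hall : ∀ j, m ≤ S ⊔ m ^ (j + 1) := by
    intro j
    induction j with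
    | zero => rw [zero_add, pow_one]; exact le_sup_right
    | succ j ih => exact ih.trans (sup_le le_sup_left (hstep j))
  obtain ⟨j, hj⟩ := he.exists_rad_pow_eq_bot
  have hmS : m ≤ S := by
    have h := hall j
    rwa [show m ^ (j + 1) = ⊥ from hj, sup_bot_eq] at h
  refine ⟨e, x, he.1, he.2.1, hβe, hx.1, hx.2, fun z => ?_, ?_⟩
  · obtain ⟨c, hc⟩ := he.exists_scalar (z := e * z * e) (by
      simp only [← mul_assoc, he.1.eq]
      simp only [mul_assoc, he.1.eq])
    exact ⟨c, hmS hc⟩
  -- `β ∈ A e A`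
  by_contra hnot
  set W : Submodule k A := (⊤ : Submodule k A) * Submodule.span k {e} * ⊤ with hW
  have hWl : ∀ a, ∀ y ∈ W, a * y ∈ W := by
    intro a y hy
    rw [hW, mul_assoc] at hy ⊢
    exact mul_mem_top_mul a hy
  set N1 : Submodule k A := LinearMap.range (LinearMap.mulRight k (1 - β)) ⊔ W
  have hI1 : Inv (regRep k K) N1 := inv_regRep fun a y hy => by
    obtain ⟨_, ⟨t, rfl⟩, r, hr, rfl⟩ := Submodule.mem_sup.1 hy
    rw [mul_add]
    exact Submodule.add_mem_sup ⟨a * t, mul_assoc a t _⟩ (hWl a r hr)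
  set N2 : Submodule k A := cutIdeal e m
  have hI2 : Inv (regRep k K) N2 := inv_regRep fun a y hy => mul_mem_cutIdeal e m a hy
  have hWr : ∀ y, ∀ r ∈ W, r * y ∈ W := by
    intro y r hr
    refine Submodule.mul_induction_on hr ?_ ?_
    · intro a ha b _; rw [mul_assoc]; exact Submodule.mul_mem_mul ha Submodule.mem_top
    · intro a b ha hb; rw [add_mul]; exact add_mem ha hb
  haveI : Nontrivial (A ⧸ N1) := Submodule.Quotient.nontrivial_iff.2 fun h => hnot (by
    obtain ⟨_, ⟨t, rfl⟩, r, hr, hsum⟩ := Submodule.mem_sup.1 (h.ge (Submodule.mem_top (x := β)))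
    have h1 : β * β = (t * (1 - β) + r) * β := congrArg (· * β) hsum.symm
    rw [add_mul, mul_assoc t, sub_mul, one_mul, hβ.eq, sub_self, mul_zero, zero_add] at h1
    rw [h1]
    exact hWr β r hr)
  haveI : Nontrivial (A ⧸ N2) := Submodule.Quotient.nontrivial_iff.2 fun h => he.2.1 (by
    obtain ⟨_, ⟨t, rfl⟩, r, hr, hsum⟩ := Submodule.mem_sup.1 (h.ge (Submodule.mem_top (x := e)))
    have h1 : e * e * e = e * (t * (1 - e)) * e + e * r * e := by
      rw [← add_mul, ← mul_add, show t * (1 - e) + r = e from hsum]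
    rw [he.1.eq, he.1.eq] at h1
    have h2 : e * r * e ∈ m := by
      clear hsum h1
      refine Submodule.mul_induction_on hr ?_ ?_
      · intro a _ κ hκ
        rw [show e * (a * κ) * e = e * a * e * κ by
          rw [mul_assoc, mul_assoc, he.right hκ.1]
          conv_rhs => rw [mul_assoc, he.left hκ.1, mul_assoc]]
        refine (he.mul_mem_rad hκ ?_).2
        simp only [← mul_assoc, he.1.eq]
        simp only [mul_assoc, he.1.eq]
      · intro x y hx hy; rw [mul_add, add_mul]; exact add_mem hx hy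
    rw [mul_assoc, mul_assoc, sub_mul, one_mul, he.1.eq, sub_self, mul_zero, mul_zero, zero_add] at h1
    have h4 : (1 : k) • e ∈ m := by rw [one_smul]; exact h1 ▸ h2
    exact absurd (he.smul_mem_rad h4) one_ne_zero)
  obtain ⟨U1, hU1, hirr1⟩ := exists_irr_quotient (quotRep (regRep k K) hI1)
  obtain ⟨U2, hU2, hirr2⟩ := exists_irr_quotient (quotRep (regRep k K) hI2)
  have hz : ∀ (N : Submodule k A) (hN : Inv (regRep k K) N) (b y : A),
      (quotRep (regRep k K) hN).asAlgebraHom b (Submodule.Quotient.mk y) = Submodule.Quotient.mk (b * y) :=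
    fun N hN b y => by
      rw [← asAlgebraHom_regRep b y]
      exact ((intw_mkQ hN).asAlgebraHom b y).symm
  have hb1 : (quotRep (regRep k K) hI1).asAlgebraHom β = 1 := LinearMap.ext fun z => by
    induction z using Submodule.Quotient.induction_on with
    | _ y =>
      rw [hz, Module.End.one_apply, Submodule.Quotient.eq]
      exact Submodule.mem_sup_left ⟨-y, by simp [mul_sub, hβc, neg_add_eq_sub]⟩
  have hb2 : (quotRep (regRep k K) hI2).asAlgebraHom β = 1 := LinearMap.ext fun z => by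
    induction z using Submodule.Quotient.induction_on with
    | _ y =>
      rw [hz, Module.End.one_apply, Submodule.Quotient.eq]
      refine Submodule.mem_sup_left ⟨β * y - y, ?_⟩
      show (β * y - y) * (1 - e) = β * y - y
      rw [mul_sub, mul_one, sub_mul, hβc y, mul_assoc, hβe, sub_self, sub_zero]
  obtain ⟨f, hf, hf0⟩ := hone _ _ _ _ hirr1 hirr2 (asAlgebraHom_quotRep hU1 hb1)
    (asAlgebraHom_quotRep hU2 hb2)
  have he1 : ∀ z, (quotRep _ hU1).asAlgebraHom e z = 0 := fun z => by
    obtain ⟨z, rfl⟩ := U1.mkQ_surjective z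
    rw [← (intw_mkQ hU1).asAlgebraHom e z]
    induction z using Submodule.Quotient.induction_on with
    | _ y =>
      rw [hz, show (Submodule.Quotient.mk (e * y) : A ⧸ N1) = 0 from
        (Submodule.Quotient.mk_eq_zero _).2 (Submodule.mem_sup_right ?_), map_zero]
      rw [hW]
      simpa using Submodule.mul_mem_mul (Submodule.mul_mem_mul (Submodule.mem_top (x := (1 : A)))
        (Submodule.mem_span_singleton_self e)) (Submodule.mem_top (x := y))
  obtain ⟨z, hzf⟩ := surjective_of_intw hirr2 hf hf0 (U2.mkQ (Submodule.Quotient.mk e))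
  have h1 := hf.asAlgebraHom e z
  rw [he1, map_zero, hzf, ← (intw_mkQ hU2).asAlgebraHom e (Submodule.Quotient.mk e), hz, he.1.eq] at h1
  have hgen' : ∀ y : A, U2.mkQ (Submodule.Quotient.mk y) = 0 := by
    intro y
    have h3 : (Submodule.Quotient.mk y : A ⧸ N2) = Submodule.Quotient.mk (y * e) :=
      (Submodule.Quotient.eq _).2 (Submodule.mem_sup_left ⟨y, by simp [mul_sub]⟩)
    rw [h3, ← hz N2 hI2 y e, (intw_mkQ hU2).asAlgebraHom, ← h1, map_zero]
  haveI := hirr2.1
  obtain ⟨w, hw⟩ := exists_ne (0 : (A ⧸ N2) ⧸ U2)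
  obtain ⟨v, rfl⟩ := U2.mkQ_surjective w
  induction v using Submodule.Quotient.induction_on with
  | _ y => exact hw (hgen' y)

end Cfsg.Agent.Blocks.CyclicDefect
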