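import Cfsg.Agent.Lib.Blocks.CyclicDefect.Orth

/-!
# The characters of a cyclic defect group and the vectors of a block

The inertial group permutes the nontrivial characters of `P` freely modulo `C(P)`; the vectors
`vec θ χ λ = ⟨θ χ, 1⟩ - ⟨θ χ, λ⟩` have Gram matrix `e J + I` on representatives of the classes.
-/

set_option autoImplicit false
set_option linter.unusedSectionVars false
set_option linter.style.haveILetI false

namespace Cfsg.Agent.Blocks.CyclicDefect

open Cfsg Blocks MonoidAlgebra
open Cfsg.Agent.BrauerPairs (blk blkG IsBlockIdem regDot)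
open Cfsg.Agent.Blocks.NilRank (sectF eU blkSet)
open scoped Classical ComplexConjugate

universe u

variable {G : Type u} [Group G] [Fintype G] {M : Ideal AlgInt} [M.IsMaximal] {p : ℕ}
  [hp : Fact p.Prime] [CharP (AlgInt ⧸ M) p]

/-- The fibre through a point of a map whose fibres are cosets. -/
theorem card_fibre {T C : Subgroup G} (hCT : C ≤ T) {X : Type*} (f : T → X)
    (hf : ∀ a b : T, f a = f b ↔ (a : G)⁻¹ * b ∈ C) (a : T) :
    (Finset.univ.filter fun b => f b = f a).card = Nat.card C := by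
  rw [Nat.card_eq_fintype_card, ← Finset.card_univ]
  symm
  refine Finset.card_bij (fun c _ => a * ⟨(c : G), hCT c.2⟩) (fun c _ => ?_) (fun c _ c' _ h => ?_)
    fun b hb => ?_
  · refine Finset.mem_filter.2 ⟨Finset.mem_univ _, ((hf _ _).2 ?_).symm⟩
    simp
  · exact Subtype.ext (congrArg (fun y : T => (y : G)) (mul_left_cancel h))
  · refine ⟨⟨_, (hf a b).1 (Finset.mem_filter.1 hb).2.symm⟩, Finset.mem_univ _, Subtype.ext ?_⟩
    show (a : G) * ((a : G)⁻¹ * b) = b
    rw [mul_inv_cancel_left]

/-- Summing along a map whose fibres are cosets. -/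
theorem sum_of_fibres {T C : Subgroup G} (hCT : C ≤ T) {X : Type*} (f : T → X)
    (hf : ∀ a b : T, f a = f b ↔ (a : G)⁻¹ * b ∈ C) (F : X → ℂ) :
    ∑ t : T, F (f t) = (Nat.card C : ℂ) * ∑ x ∈ Finset.univ.image f, F x := by
  rw [Finset.sum_comp F f, Finset.mul_sum]
  refine Finset.sum_congr rfl fun x hx => ?_
  obtain ⟨a, -, rfl⟩ := Finset.mem_image.1 hx
  rw [card_fibre hCT f hf a, nsmul_eq_mul]

variable {B : Set (IrrCharacter G)} {P : Subgroup G}
  {c : Set (IrrCharacter (Subgroup.centralizer (P : Set G)))}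

/-- The vectors of the block. -/
noncomputable def vec (θ : IrrCharacter G → P → ℂ) (χ : IrrCharacter G) (l : IrrCharacter P) : ℂ :=
  classInner (θ χ) (Char.trivialChar P).1 - classInner (θ χ) l.1

namespace Datum

variable (d : Datum M p B P c)
include d

theorem one_lt_card : 1 < Nat.card P := Subgroup.one_lt_card_iff_ne_bot P |>.2 d.ne

theorem classFun (f : P → ℂ) : IsClassFunction P f := fun g h => by
  rw [d.comm_P h g, mul_inv_cancel_right]

theorem exists_hom (l : IrrCharacter P) : ∃ lam : P →* ℂ, ⇑lam = l.1 :=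
  Char.IsCharacter.exists_monoidHom (Char.irr_isCharacter l) (Char.apply_one_of_comm d.comm_P l)

theorem irr_apply_one (l : IrrCharacter P) : l.1 1 = 1 := Char.apply_one_of_comm d.comm_P l

theorem irr_apply_mul (l : IrrCharacter P) (x y : P) : l.1 (x * y) = l.1 x * l.1 y := by
  obtain ⟨lam, hlam⟩ := d.exists_hom l
  rw [← hlam, map_mul]

theorem card_irr_P : Fintype.card (IrrCharacter P) = Nat.card P := by
  have h1 := Char.sum_degree_sq (G := P)
  rw [Finset.sum_congr rfl fun l _ => show Char.degree l ^ 2 = 1 by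
    have := d.irr_apply_one l
    rw [Char.apply_one_eq_degree, Nat.cast_eq_one] at this
    rw [this, one_pow], Finset.sum_const, smul_eq_mul, mul_one, Finset.card_univ] at h1
  exact h1

theorem sum_apply_eq_zero {u : P} (hu : u ≠ 1) : ∑ l : IrrCharacter P, l.1 u = 0 := by
  have h := Char.sum_irr_degree_mul u
  rw [if_neg hu] at h
  rw [← h]
  exact Finset.sum_congr rfl fun l _ => by rw [d.irr_apply_one, one_mul]

theorem sum_irr_eq_zero {l : IrrCharacter P} (hl : l ≠ Char.trivialChar P) : ∑ u : P, l.1 u = 0 := by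
  have h : classInner l.1 (Char.trivialChar P).1 = 0 := by rw [Char.classInner_irr, if_neg hl]
  rw [classInner, mul_eq_zero] at h
  simpa using h.resolve_left (inv_ne_zero (Nat.cast_ne_zero.2 Nat.card_pos.ne'))

/-- `u ↦ t⁻¹ u t`. -/
noncomputable def conjP (t : inGroup M P c) : P ≃* P where
  toFun u := ⟨(t : G)⁻¹ * u * t, by simpa using d.conj_mem (inv_mem t.2) u.2⟩
  invFun u := ⟨(t : G) * u * (t : G)⁻¹, d.conj_mem t.2 u.2⟩
  left_inv u := Subtype.ext (by simp [mul_assoc])
  right_inv u := Subtype.ext (by simp [mul_assoc])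
  map_mul' u v := Subtype.ext (by simp [mul_assoc])

/-- The conjugate of a character of `P`. -/
noncomputable def twist (t : inGroup M P c) (l : IrrCharacter P) : IrrCharacter P :=
  BrauerPairs.compIrr (d.conjP t) l

theorem twist_apply (t : inGroup M P c) (l : IrrCharacter P) (u : P) :
    (d.twist t l).1 u = l.1 (d.conjP t u) := rfl

theorem twist_one (l : IrrCharacter P) : d.twist 1 l = l :=
  Subtype.ext (funext fun u => congrArg l.1 (Subtype.ext (by simp [conjP])))

theorem twist_mul (a b : inGroup M P c) (l : IrrCharacter P) :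
    d.twist (a * b) l = d.twist a (d.twist b l) :=
  Subtype.ext (funext fun u => congrArg l.1 (Subtype.ext (by simp [conjP, mul_assoc])))

theorem twist_trivial (t : inGroup M P c) : d.twist t (Char.trivialChar P) = Char.trivialChar P :=
  Subtype.ext (funext fun _ => rfl)

theorem twist_ne {t : inGroup M P c} {l : IrrCharacter P} (hl : l ≠ Char.trivialChar P) :
    d.twist t l ≠ Char.trivialChar P := fun h => hl (by
  rw [← d.twist_one l, ← inv_mul_cancel t, d.twist_mul, h, d.twist_trivial])

/-- The inertial group modulo `C(P)` acts freely on the nontrivial characters. -/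
theorem twist_eq_iff {l : IrrCharacter P} (hl : l ≠ Char.trivialChar P) (a b : inGroup M P c) :
    d.twist a l = d.twist b l ↔ (a : G)⁻¹ * b ∈ Subgroup.centralizer (P : Set G) := by
  have hs : (a : G)⁻¹ * b ∈ inGroup M P c := mul_mem (inv_mem a.2) b.2
  constructor
  · intro h
    by_contra hC
    obtain ⟨lam, hlam⟩ := d.exists_hom l
    let Ψ : P →* P :=
      { toFun := fun u => d.actP hs u * u⁻¹
        map_one' := by simp
        map_mul' := fun x y => by
          rw [map_mul, mul_inv_rev, mul_assoc (d.actP hs x), ← mul_assoc (d.actP hs y),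
            d.comm_P (d.actP hs y * y⁻¹) x⁻¹, ← mul_assoc] }
    have hinj : Function.Injective Ψ := by
      refine (injective_iff_map_eq_one Ψ).2 fun u hu => ?_
      by_contra h1
      exact hC (d.free hs u.2 (fun h => h1 (Subtype.ext h)) (congrArg Subtype.val (mul_inv_eq_one.1 hu)))
    refine hl (Subtype.ext (funext fun v => ?_))
    obtain ⟨u, rfl⟩ := (Finite.injective_iff_surjective.1 hinj) v
    have h1 := congrArg (fun x : IrrCharacter P => x.1 ((d.conjP b).symm u)) h
    simp only [twist_apply, MulEquiv.apply_symm_apply] at h1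
    have h2 : d.conjP a ((d.conjP b).symm u) = d.actP hs u := Subtype.ext (by
      show (a : G)⁻¹ * ((b : G) * u * (b : G)⁻¹) * a = (a : G)⁻¹ * b * u * ((a : G)⁻¹ * b)⁻¹
      group)
    rw [h2, ← hlam] at h1
    show l.1 (d.actP hs u * u⁻¹) = 1
    rw [← hlam, map_mul, h1, ← map_mul, mul_inv_cancel, map_one]
  · intro h
    refine Subtype.ext (funext fun u => congrArg l.1 (Subtype.ext ?_))
    show (a : G)⁻¹ * u * a = (b : G)⁻¹ * u * b
    have h1 : ((a : G)⁻¹ * u * a) * ((a : G)⁻¹ * b) = ((a : G)⁻¹ * b) * ((a : G)⁻¹ * u * a) :=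
      Subgroup.mem_centralizer_iff.1 h _ (by simpa using d.conj_mem (inv_mem a.2) u.2)
    calc (a : G)⁻¹ * u * a
        = ((a : G)⁻¹ * b)⁻¹ * (((a : G)⁻¹ * b) * ((a : G)⁻¹ * u * a)) := by group
      _ = _ := by rw [← h1]; group

/-- The class of a character. -/
noncomputable def cls (l : IrrCharacter P) : Finset (IrrCharacter P) :=
  Finset.univ.image fun t => d.twist t l

theorem mem_cls {l m : IrrCharacter P} : m ∈ d.cls l ↔ ∃ t, d.twist t l = m := by
  simp [cls]

theorem mem_cls_self (l : IrrCharacter P) : l ∈ d.cls l := d.mem_cls.2 ⟨1, d.twist_one l⟩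

theorem mem_cls_symm {l m : IrrCharacter P} (h : m ∈ d.cls l) : l ∈ d.cls m := by
  obtain ⟨t, rfl⟩ := d.mem_cls.1 h
  exact d.mem_cls.2 ⟨t⁻¹, by rw [← d.twist_mul, inv_mul_cancel, d.twist_one]⟩

theorem mem_cls_trans {l m n : IrrCharacter P} (h : m ∈ d.cls l) (h' : n ∈ d.cls m) :
    n ∈ d.cls l := by
  obtain ⟨t, rfl⟩ := d.mem_cls.1 h
  obtain ⟨s, rfl⟩ := d.mem_cls.1 h'
  exact d.mem_cls.2 ⟨s * t, d.twist_mul s t l⟩

theorem card_cls {l : IrrCharacter P} (hl : l ≠ Char.trivialChar P) :
    (d.cls l).card = inIndex M P c := by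
  refine Nat.eq_of_mul_eq_mul_right (Nat.card_pos (α := Subgroup.centralizer (P : Set G))) ?_
  convert (card_image_mul_card d.centralizer_le (fun t => d.twist t l) (d.twist_eq_iff hl)).trans
    d.card_inGroup.symm using 4
  unfold cls; congr 1; exact Subsingleton.elim _ _

theorem card_twist_eq {l m : IrrCharacter P} (hl : l ≠ Char.trivialChar P) :
    (Finset.univ.filter fun t => d.twist t l = m).card =
      if m ∈ d.cls l then Nat.card (Subgroup.centralizer (P : Set G)) else 0 := by
  split_ifs with h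
  · obtain ⟨t, rfl⟩ := d.mem_cls.1 h
    convert card_fibre d.centralizer_le _ (d.twist_eq_iff hl) t using 3
  · exact Finset.card_eq_zero.2 (Finset.filter_eq_empty_iff.2 fun {t} _ ht => h (d.mem_cls.2 ⟨t, ht⟩))

theorem sum_orb {w : P} (hw : w ≠ 1) (F : P → ℂ) :
    ∑ t : inGroup M P c, F ((d.conjP t).symm w) =
      (Nat.card (Subgroup.centralizer (P : Set G)) : ℂ) * ∑ u ∈ d.orb w, F u := by
  refine (sum_of_fibres d.centralizer_le (fun t => (d.conjP t).symm w) (d.conj_eq_iff hw) F).trans ?_
  congr 2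
  unfold orb
  congr 1
  exact Subsingleton.elim _ _

/-- The sum over the class of a character. -/
theorem sum_cls_apply {l : IrrCharacter P} (hl : l ≠ Char.trivialChar P) {u : P} (hu : u ≠ 1) :
    ∑ m ∈ d.cls l, m.1 u = ∑ w ∈ d.orb u, l.1 w := by
  refine mul_left_cancel₀ (Nat.cast_ne_zero.2
    (Nat.card_pos (α := Subgroup.centralizer (P : Set G))).ne' : _ ≠ (0 : ℂ)) ?_
  rw [← d.sum_orb hu l.1]
  refine Eq.trans ?_ (Fintype.sum_equiv (Equiv.inv _) (fun t => (d.twist t l).1 u) _ fun t => ?_)
  · refine Eq.trans ?_ (sum_of_fibres d.centralizer_le (fun t => d.twist t l) (d.twist_eq_iff hl)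
      fun m => m.1 u).symm
    congr 2
    unfold cls
    congr 1
    exact Subsingleton.elim _ _
  · exact congrArg l.1 (Subtype.ext (by simp [conjP]))

variable {θ : IrrCharacter G → P → ℂ}

theorem card_mul_classInner (f : P → ℂ) (g : P → ℂ) :
    (Nat.card P : ℂ) * classInner f g = ∑ u : P, f u * conj (g u) := by
  rw [classInner, ← mul_assoc, mul_inv_cancel₀ (Nat.cast_ne_zero.2 Nat.card_pos.ne'), one_mul]

theorem card_mul_vec (χ : IrrCharacter G) (l : IrrCharacter P) :
    (Nat.card P : ℂ) * vec θ χ l =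
      ∑ u ∈ Finset.univ.filter (fun u : P => u ≠ 1), θ χ u * (1 - conj (l.1 u)) := by
  rw [vec, mul_sub, d.card_mul_classInner, d.card_mul_classInner, ← Finset.sum_sub_distrib,
    Finset.sum_filter]
  refine Finset.sum_congr rfl fun u _ => ?_
  by_cases hu : u = 1
  · subst hu; simp [d.irr_apply_one]
  · simp [hu]; ring

theorem vec_trivial (χ : IrrCharacter G) : vec θ χ (Char.trivialChar P) = 0 := sub_self _

section inv

variable (hinv : ∀ χ, ∀ t ∈ inGroup M P c, ∀ u v : P, (v : G) = t * u * t⁻¹ → θ χ v = θ χ u)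
include hinv

theorem vec_twist (χ : IrrCharacter G) (t : inGroup M P c) (l : IrrCharacter P) :
    vec θ χ (d.twist t l) = vec θ χ l := by
  unfold vec classInner
  congr 2
  refine Fintype.sum_equiv (d.conjP t).toEquiv _ _ fun u => ?_
  show θ χ u * conj (l.1 (d.conjP t u)) = θ χ (d.conjP t u) * conj (l.1 (d.conjP t u))
  rw [hinv χ t t.2 (d.conjP t u) u (by simp [conjP, mul_assoc])]

theorem vec_of_mem_cls (χ : IrrCharacter G) {l m : IrrCharacter P} (h : m ∈ d.cls l) :
    vec θ χ m = vec θ χ l := by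
  obtain ⟨t, rfl⟩ := d.mem_cls.1 h
  exact d.vec_twist hinv χ t l

end inv

theorem vec_int (hint : ∀ χ (l : IrrCharacter P), ∃ m : ℤ, classInner (θ χ) l.1 = m)
    (χ : IrrCharacter G) (l : IrrCharacter P) : ∃ m : ℤ, vec θ χ l = m := by
  obtain ⟨a, ha⟩ := hint χ (Char.trivialChar P)
  obtain ⟨b, hb⟩ := hint χ l
  exact ⟨a - b, by rw [vec, ha, hb]; push_cast; ring⟩

/-- `θ` in terms of the vectors. -/
theorem theta_eq_vec (χ : IrrCharacter G) {u : P} (hu : u ≠ 1) :
    θ χ u = -∑ l : IrrCharacter P, vec θ χ l * l.1 u := by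
  conv_lhs => rw [Char.eq_sum_classInner_smul (d.classFun (θ χ))]
  simp only [Finset.sum_apply, Pi.smul_apply, smul_eq_mul, vec, sub_mul, Finset.sum_sub_distrib,
    ← Finset.mul_sum, d.sum_apply_eq_zero hu, mul_zero, zero_sub, neg_neg]

variable (hθ : ∀ χ ψ : IrrCharacter G, ∀ u : P, u ≠ 1 →
    (Nat.card P : ℂ) * sectF p (Subgroup.centralizer ({(u : G)} : Set G)) u
        (blkSet M _ (eU p P (blk M (Subgroup.centralizer (P : Set G)) c) u)) χ.1 ψ.1 =
      θ χ u * conj (θ ψ u))
include hθ

set_option maxHeartbeats 800000 in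
/-- The Gram matrix of the vectors. -/
theorem gram (hint : ∀ χ (l : IrrCharacter P), ∃ m : ℤ, classInner (θ χ) l.1 = m)
    (hinv : ∀ χ, ∀ t ∈ inGroup M P c, ∀ u v : P, (v : G) = t * u * t⁻¹ → θ χ v = θ χ u)
    {l m : IrrCharacter P} (hl : l ≠ Char.trivialChar P) (hm : m ≠ Char.trivialChar P) :
    ∑ χ ∈ Finset.univ.filter (· ∈ B), vec θ χ l * vec θ χ m =
      inIndex M P c + if l ∈ d.cls m then 1 else 0 := by
  set U := Finset.univ.filter (fun u : P => u ≠ 1) with hU
  set S := Finset.univ.filter (fun χ : IrrCharacter G => χ ∈ B)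
  set C := (Nat.card (Subgroup.centralizer (P : Set G)) : ℂ) with hCdef
  have hC : C ≠ 0 := Nat.cast_ne_zero.2 Nat.card_pos.ne'
  have hn : (Nat.card P : ℂ) ≠ 0 := Nat.cast_ne_zero.2 Nat.card_pos.ne'
  have hreal : ∀ χ, conj (vec θ χ m) = vec θ χ m := fun χ => by
    obtain ⟨z, hz⟩ := d.vec_int hint χ m
    rw [hz, map_intCast]
  -- the value at one pair of points
  have hpair : ∀ t : inGroup M P c, ∑ u : P, (1 - conj (l.1 u)) * (1 - (d.twist t m).1 u) =
      (Nat.card P : ℂ) * (1 + if d.twist t m = l then 1 else 0) := by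
    intro t
    have h1 : ∑ u : P, conj (l.1 u) = 0 := by rw [← map_sum, d.sum_irr_eq_zero hl, map_zero]
    have h2 : ∑ u : P, (d.twist t m).1 u * conj (l.1 u) =
        (Nat.card P : ℂ) * if d.twist t m = l then 1 else 0 := by
      rw [← d.card_mul_classInner, Char.classInner_irr]
    simp only [sub_mul, mul_sub, one_mul, mul_one, Finset.sum_sub_distrib, Finset.sum_const,
      Finset.card_univ, nsmul_eq_mul, h1, d.sum_irr_eq_zero (d.twist_ne hm)]
    rw [Finset.sum_congr rfl fun u _ => mul_comm (conj (l.1 u)) ((d.twist t m).1 u), h2,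
      Nat.card_eq_fintype_card]
    ring
  refine mul_left_cancel₀ (mul_ne_zero hC (mul_ne_zero hn hn)) ?_
  calc C * ((Nat.card P : ℂ) * Nat.card P) * ∑ χ ∈ S, vec θ χ l * vec θ χ m
      = C * ∑ w ∈ U, ∑ u ∈ U, (1 - conj (l.1 u)) * (1 - m.1 w) *
          ∑ χ ∈ S, conj (θ χ w) * θ χ u := by
        rw [mul_assoc]
        congr 1
        rw [Finset.mul_sum, Finset.sum_congr rfl fun χ _ => show
          (Nat.card P : ℂ) * Nat.card P * (vec θ χ l * vec θ χ m) =
            (∑ u ∈ U, θ χ u * (1 - conj (l.1 u))) * conj (∑ w ∈ U, θ χ w * (1 - conj (m.1 w))) by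
          rw [← d.card_mul_vec, ← d.card_mul_vec, map_mul, map_natCast, hreal]; ring]
        simp only [map_sum, map_mul, map_sub, map_one, Complex.conj_conj, Finset.sum_mul,
          Finset.mul_sum]
        rw [Finset.sum_comm]
        refine Finset.sum_congr rfl fun w _ => ?_
        rw [Finset.sum_comm]
        exact Finset.sum_congr rfl fun u _ => Finset.sum_congr rfl fun χ _ => by ring
    _ = (Nat.card P : ℂ) * ∑ w ∈ U, ∑ t : inGroup M P c,
          (1 - conj (l.1 ((d.conjP t).symm w))) * (1 - m.1 w) := by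
        rw [Finset.mul_sum, Finset.mul_sum]
        refine Finset.sum_congr rfl fun w hw => ?_
        have hw1 : w ≠ 1 := (Finset.mem_filter.1 hw).2
        have hsub : d.orb w ⊆ U := fun v hv => by
          obtain ⟨t, ht, htv⟩ := d.mem_orb.1 hv
          refine Finset.mem_filter.2 ⟨Finset.mem_univ _, fun h => hw1 (Subtype.ext ?_)⟩
          rw [h] at htv
          simpa [mul_assoc] using (congrArg (fun y => t⁻¹ * y * t) htv).symm
        rw [d.sum_orb hw1 fun u => (1 - conj (l.1 u)) * (1 - m.1 w), ← Finset.sum_subset hsub fun u hu hu' => by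
          rw [d.column_orth hθ hinv hw1 (Finset.mem_filter.1 hu).2, if_neg hu', mul_zero]]
        rw [Finset.mul_sum, Finset.mul_sum, Finset.mul_sum]
        refine Finset.sum_congr rfl fun u hu => ?_
        rw [d.column_orth hθ hinv hw1 (Finset.mem_filter.1 (hsub hu)).2, if_pos hu]
        ring
    _ = (Nat.card P : ℂ) * ∑ t : inGroup M P c, ∑ w : P,
          (1 - conj (l.1 ((d.conjP t).symm w))) * (1 - m.1 w) := by
        rw [hU, Finset.sum_filter]
        congr 1
        rw [Finset.sum_comm (s := (Finset.univ : Finset (inGroup M P c))) (t := (Finset.univ : Finset P))]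
        refine Finset.sum_congr rfl fun w _ => ?_
        by_cases hw : w = 1
        · subst hw; simp [d.irr_apply_one]
        · rw [if_pos hw]
    _ = (Nat.card P : ℂ) * ∑ t : inGroup M P c,
          ((Nat.card P : ℂ) * (1 + if d.twist t m = l then 1 else 0)) := by
        congr 1
        refine Finset.sum_congr rfl fun t _ => ?_
        rw [← hpair t]
        refine (Fintype.sum_equiv (d.conjP t).toEquiv _ _ fun u => ?_).symm
        show _ = (1 - conj (l.1 ((d.conjP t).symm (d.conjP t u)))) * (1 - m.1 (d.conjP t u))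
        rw [MulEquiv.symm_apply_apply, twist_apply]
    _ = _ := by
        rw [← Finset.mul_sum, Finset.sum_add_distrib, Finset.sum_const, nsmul_eq_mul,
          Finset.sum_boole, d.card_twist_eq hm, Finset.card_univ, ← Nat.card_eq_fintype_card,
          ← d.card_inGroup]
        split_ifs <;> push_cast <;> ring

/-- Combinations with the values of `θ` vanish on the `p`-regular elements. -/
theorem sum_theta_mul_regular {u : P} (hu : u ≠ 1) {g : G} (hg : ¬ p ∣ orderOf g) :
    ∑ χ ∈ Finset.univ.filter (· ∈ B), θ χ u * χ.1 g = 0 := by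
  set S := Finset.univ.filter (fun χ : IrrCharacter G => χ ∈ B)
  set f : G → ℂ := ∑ χ ∈ S, θ χ u • Char.regFun p χ.1 with hf
  have h0 : f = 0 := by
    refine Char.eq_zero_of_classInner_irr (fun x y => ?_) fun ψ => ?_
    · simp only [hf, Finset.sum_apply, Pi.smul_apply]
      exact Finset.sum_congr rfl fun χ _ => by
        rw [Char.isClassFunction_regFun p (Char.IsCharacter.isClassFunction (Char.irr_isCharacter χ)) x y]
    · rw [hf, Char.classInner_sum_left]
      simp only [Char.classInner_smul_left]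
      by_cases hψ : ψ ∈ B
      · rw [← d.reg_orth hθ hψ hu]
        exact Finset.sum_congr rfl fun χ _ => by
          rw [mul_comm, BrauerPairs.regDot_comm hp.out]; rfl
      · exact Finset.sum_eq_zero fun χ hχ => by
          rw [Char.classInner_regFun_of_not_sameBlock d.modular.2.2 hp.out
            (Blocks.not_sameBlock_of_mem d.block (Finset.mem_filter.1 hχ).2 hψ), mul_zero]
  refine Eq.trans ?_ (congrFun h0 g)
  rw [hf, Finset.sum_apply]
  exact Finset.sum_congr rfl fun χ _ => by simp [Char.regFun, hg]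

/-- The vectors annihilate the `p`-regular values. -/
theorem sum_vec_mul_regular (l : IrrCharacter P) {g : G} (hg : ¬ p ∣ orderOf g) :
    ∑ χ ∈ Finset.univ.filter (· ∈ B), vec θ χ l * χ.1 g = 0 := by
  refine mul_left_cancel₀ (Nat.cast_ne_zero.2 (Nat.card_pos (α := P)).ne' : _ ≠ (0 : ℂ)) ?_
  rw [mul_zero, Finset.mul_sum, Finset.sum_congr rfl fun χ _ => show
    (Nat.card P : ℂ) * (vec θ χ l * χ.1 g) =
      ∑ u ∈ Finset.univ.filter (fun u : P => u ≠ 1), (1 - conj (l.1 u)) * (θ χ u * χ.1 g) by
    rw [← mul_assoc, d.card_mul_vec, Finset.sum_mul]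
    exact Finset.sum_congr rfl fun u _ => by ring, Finset.sum_comm]
  refine Finset.sum_eq_zero fun u hu => ?_
  rw [← Finset.mul_sum, d.sum_theta_mul_regular hθ (Finset.mem_filter.1 hu).2 hg, mul_zero]

/-- A combination orthogonal to `θ` vanishes on the `p`-singular elements. -/
theorem apply_singular_eq_zero (a : IrrCharacter G → ℂ)
    (ha : ∀ u : P, u ≠ 1 → ∑ χ ∈ Finset.univ.filter (· ∈ B), a χ * θ χ u = 0) {g : G}
    (hg : p ∣ orderOf g) : ∑ χ ∈ Finset.univ.filter (· ∈ B), a χ * χ.1 g = 0 := by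
  set S := Finset.univ.filter (fun χ : IrrCharacter G => χ ∈ B)
  have hn : (Nat.card P : ℂ) * inIndex M P c ≠ 0 :=
    mul_ne_zero (Nat.cast_ne_zero.2 Nat.card_pos.ne') (Nat.cast_ne_zero.2 d.inIndex_pos.ne')
  have h : ∑ χ ∈ S, a χ • χ.1 = ∑ χ ∈ S, a χ • Char.regFun p χ.1 := by
    refine Char.classFun_ext (fun x y => ?_) (fun x y => ?_) fun ψ => ?_
    · simp only [Finset.sum_apply, Pi.smul_apply]
      exact Finset.sum_congr rfl fun χ _ => by
        rw [Char.IsCharacter.isClassFunction (Char.irr_isCharacter χ) x y]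
    · simp only [Finset.sum_apply, Pi.smul_apply]
      exact Finset.sum_congr rfl fun χ _ => by
        rw [Char.isClassFunction_regFun p (Char.IsCharacter.isClassFunction (Char.irr_isCharacter χ)) x y]
    · simp only [Char.classInner_sum_left, Char.classInner_smul_left, Char.classInner_irr]
      by_cases hψ : ψ ∈ B
      · refine mul_left_cancel₀ hn ?_
        have h0 : ∑ χ ∈ S, ∑ u ∈ Finset.univ.filter (fun u : P => u ≠ 1),
            a χ * (θ χ u * conj (θ ψ u)) = 0 := by
          rw [Finset.sum_comm]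
          refine Finset.sum_eq_zero fun u hu => ?_
          simp only [← mul_assoc, ← Finset.sum_mul, S, ha u (Finset.mem_filter.1 hu).2, zero_mul]
        have h1 : ∀ χ ∈ S, (Nat.card P : ℂ) * inIndex M P c * (a χ * if χ = ψ then 1 else 0) =
            (Nat.card P : ℂ) * inIndex M P c * (a χ * classInner (Char.regFun p χ.1) ψ.1) +
              ∑ u ∈ Finset.univ.filter (fun u : P => u ≠ 1), a χ * (θ χ u * conj (θ ψ u)) :=
          fun χ hχ => by
            rw [← Finset.mul_sum]
            have := d.identity hθ (Finset.mem_filter.1 hχ).2 ψ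
            rw [regDot] at this
            linear_combination (a χ) * this
        rw [Finset.mul_sum, Finset.sum_congr rfl h1, Finset.sum_add_distrib, h0, add_zero,
          Finset.mul_sum]
      · refine Finset.sum_congr rfl fun χ hχ => ?_
        rw [if_neg fun e : χ = ψ => hψ (e ▸ (Finset.mem_filter.1 hχ).2),
          Char.classInner_regFun_of_not_sameBlock d.modular.2.2 hp.out
            (Blocks.not_sameBlock_of_mem d.block (Finset.mem_filter.1 hχ).2 hψ)]
  have h2 := congrFun h g
  simp only [Finset.sum_apply, Pi.smul_apply, smul_eq_mul, Char.regFun, if_pos hg, mul_zero,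
    Finset.sum_const_zero] at h2
  exact h2

/-- Every member of the block has a nonzero vector. -/
theorem exists_vec_ne_zero
    (h2 : 1 < Nat.card B) {χ : IrrCharacter G} (hχ : χ ∈ B) :
    ∃ l, vec θ χ l ≠ 0 := by
  by_contra! hall
  have h0 : ∀ u : P, u ≠ 1 → θ χ u = 0 := fun u hu => by
    rw [d.theta_eq_vec (θ := θ) χ hu]
    simp [hall]
  have hR : ∀ ψ, ψ ≠ χ → regDot p χ.1 ψ.1 = 0 := by
    intro ψ hψ
    have h := d.identity hθ hχ ψ
    rw [if_neg hψ.symm, mul_zero, Finset.sum_eq_zero fun u hu => by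
      rw [h0 u (Finset.mem_filter.1 hu).2, zero_mul], add_zero] at h
    exact (mul_eq_zero.1 h.symm).resolve_left
      (mul_ne_zero (Nat.cast_ne_zero.2 Nat.card_pos.ne') (Nat.cast_ne_zero.2 d.inIndex_pos.ne'))
  obtain ⟨ξ, hξ, hξ0⟩ := Blocks.exists_height_zero d.modular.2.2 d.block
  obtain ⟨ψ, hψ, hψne⟩ : ∃ ψ ∈ B, ψ ≠ ξ := by
    by_contra! hone
    have hsub : Subsingleton B := ⟨fun a b => Subtype.ext ((hone a a.2).trans (hone b b.2).symm)⟩
    exact absurd (Finite.card_le_one_iff_subsingleton.2 hsub) (by omega)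
  have key : ∀ η ∈ B, regDot p ξ.1 η.1 ≠ 0 := by
    intro η hη h
    have := BrauerPairs.intCoeff_of_height_zero d.modular.2.2 hp.out d.block hξ hη hξ0 (c := 0)
      (by rw [h, mul_zero, Int.cast_zero])
    exact this.1 rfl
  by_cases hξχ : ξ = χ
  · subst hξχ
    exact key ψ hψ (hR ψ hψne)
  · exact key χ hχ (by rw [BrauerPairs.regDot_comm hp.out]; exact hR ξ hξχ)

end Datum

end Cfsg.Agent.Blocks.CyclicDefect
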